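import Cfsg.Agent.Lib.Orth.Aut.AutClass
import Cfsg.Agent.Lib.Orth.HypInvol
import Cfsg.Agent.Lib.Perm.Trans.QuadStd

/-!
# Automorphism groups for the standard forms
-/

set_option autoImplicit false
set_option linter.all false

namespace CfsgLib.Orth.Aut

open scoped Matrix
open Matrix Cfsg.Geo CfsgLib.Orth CfsgLib.Perm.Asch CfsgLib.Perm.Trans CfsgLib.Perm.Trans.Quad

variable {F : Type*} [Field F] [Fintype F]

/-- totally singular subspaces of the minus form have dimension at most `m` -/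
theorem minus_ts_finrank_le {m : ℕ} (a b : F) (hab : ∀ z₁ z₂ : F, z₁ ^ 2 + a * z₁ * z₂ + b * z₂ ^ 2 = 0 → z₁ = 0 ∧ z₂ = 0)
    {U : Submodule F ((Fin m ⊕ Fin m) ⊕ Fin 2 → F)} (hU : ∀ x ∈ U, Cfsg.quadFormMinus m F a b x = 0) :
    Module.finrank F U ≤ m := by
  by_contra hlt
  have hQ : IsNondegenerateQuadraticForm (Cfsg.quadFormMinus m F a b) := quadFormMinus_nd a b hab
  let inc : (Fin m → F) →ₗ[F] ((Fin m ⊕ Fin m) ⊕ Fin 2 → F) :=
    { toFun := fun c => Sum.elim (Sum.elim c 0) 0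
      map_add' := fun c d => by ext ((i | i) | i) <;> simp
      map_smul' := fun c d => by ext ((i | i) | i) <;> simp }
  have hinc : Function.Injective inc := fun c d e => funext fun i => congrFun e (.inl (.inl i))
  have hX : ∀ x ∈ LinearMap.range inc, Cfsg.quadFormMinus m F a b x = 0 := by
    rintro _ ⟨c, rfl⟩; simp [inc, Cfsg.quadFormMinus]
  obtain ⟨U', hU', hd⟩ : ∃ U' : Submodule F ((Fin m ⊕ Fin m) ⊕ Fin 2 → F), U' ≤ U ∧
      Module.finrank F U' = Module.finrank F (LinearMap.range inc) := by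
    rw [LinearMap.finrank_range_of_inj hinc, Module.finrank_fintype_fun_eq_card, Fintype.card_fin]
    refine ⟨Submodule.span F (Set.range fun i : Fin m => ((Module.finBasis F U (Fin.castLE (by omega) i) : U) :
      (Fin m ⊕ Fin m) ⊕ Fin 2 → F)), Submodule.span_le.2 (by rintro _ ⟨i, rfl⟩; exact Subtype.coe_prop _), ?_⟩
    rw [finrank_span_eq_card]
    · simp
    · exact ((Module.finBasis F U).linearIndependent.map' U.subtype U.ker_subtype).comp _ (Fin.castLE_injective _)
  obtain ⟨g, hg, hgU⟩ := exists_map_ts hQ hd (fun x hx => hU x (hU' hx)) hX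
  obtain ⟨G, hG⟩ : ∃ G, G = U.map (Matrix.mulVecLin (g : Matrix ((Fin m ⊕ Fin m) ⊕ Fin 2) ((Fin m ⊕ Fin m) ⊕ Fin 2) F)) := ⟨_, rfl⟩
  have hGts : ∀ x ∈ G, Cfsg.quadFormMinus m F a b x = 0 := by
    rw [hG]; rintro _ ⟨x, hx, rfl⟩; exact (hg x 0).trans (hU x hx)
  have hle : G ≤ LinearMap.range inc := by
    intro v hv
    have hy : ∀ i, v (.inl (.inr i)) = 0 := fun i => by
      have hx : inc (Pi.single i 1) ∈ G := hG ▸ Submodule.map_mono hU' (hgU ▸ LinearMap.mem_range_self inc _)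
      have h : QuadraticMap.polar (Cfsg.quadFormMinus m F a b) (inc (Pi.single i 1)) v = 0 := by
        rw [QuadraticMap.polar, hGts _ (G.add_mem hx hv), hGts _ hx, hGts _ hv]; ring
      simpa [polar_quadFormMinus, inc, Pi.single_apply] using h
    have hz := hGts v hv
    simp only [Cfsg.quadFormMinus, hy, mul_zero, Finset.sum_const_zero, zero_add] at hz
    obtain ⟨h0, h1⟩ := hab _ _ hz
    refine ⟨fun i => v (.inl (.inl i)), funext ?_⟩
    rintro ((i | i) | i)
    · rfl
    · exact (hy i).symm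
    · fin_cases i
      · exact h0.symm
      · exact h1.symm
  have h1 := Submodule.finrank_mono hle
  rw [LinearMap.finrank_range_of_inj hinc, Module.finrank_fintype_fun_eq_card, Fintype.card_fin, hG,
    (Submodule.equivMapOfInjective _ (Matrix.mulVec_injective_iff_isUnit.2 g.isUnit) U).finrank_eq.symm] at h1
  omega

theorem gamma_top_odd (hodd : Odd (Fintype.card F)) {m : ℕ} (hm : 3 ≤ m) :
    Cfsg.gammaPOmega F (Cfsg.quadFormOdd m F) = ⊤ :=
  gammaPOmega_top (quadFormOdd_nd (two_ne_zero_of_odd hodd)) (by simp; omega) (fun h => by simp at h; omega)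

theorem gamma_top_plus {m : ℕ} (hm : 5 ≤ m) : Cfsg.gammaPOmega F (Cfsg.quadFormPlus m F) = ⊤ :=
  gammaPOmega_top quadFormPlus_nd (by simp; omega) (fun h => by simp at h; omega)

theorem gamma_top_minus {m : ℕ} (hm : 3 ≤ m) (a b : F)
    (hab : ∀ z₁ z₂ : F, z₁ ^ 2 + a * z₁ * z₂ + b * z₂ ^ 2 = 0 → z₁ = 0 ∧ z₂ = 0) :
    Cfsg.gammaPOmega F (Cfsg.quadFormMinus m F a b) = ⊤ :=
  gammaPOmega_top (quadFormMinus_nd a b hab) (by simp; omega) (fun h U hU => by
    simp at h
    exact (minus_ts_finrank_le a b hab hU).trans (by omega))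

end CfsgLib.Orth.Aut
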