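import Mathlib
import Cfsg.Prelude.Def_KGroupFacts

/-!
# Recognising a quotient group as a product with a cyclic group
-/

set_option autoImplicit false

namespace CfsgLib.OutGroup

/-- product recognition -/
theorem prod_equiv {P A : Type*} [Group P] [Finite P] [Group A] (α : A →* P) (hα : Function.Injective α)
    (t : P) {n : ℕ} (hn : orderOf t = n) (hcomm : ∀ a, Commute (α a) t)
    (htriv : ∀ k : ℕ, t ^ k ∈ α.range → t ^ k = 1) (hcard : Nat.card P = Nat.card A * n) :
    Nonempty (P ≃* A × Multiplicative (ZMod n)) := by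
  haveI : Finite A := Finite.of_injective α hα
  obtain ⟨e⟩ : Nonempty (Multiplicative (ZMod n) ≃* Subgroup.zpowers t) := by
    have hc : Nat.card (Subgroup.zpowers t) = n := by rw [Nat.card_zpowers, hn]
    exact ⟨hc ▸ zmodCyclicMulEquiv (inferInstance : IsCyclic (Subgroup.zpowers t))⟩
  let β : Multiplicative (ZMod n) →* P := (Subgroup.zpowers t).subtype.comp e.toMonoidHom
  let F : A × Multiplicative (ZMod n) →* P := MonoidHom.noncommCoprod α β fun a z => by
    obtain ⟨k, hk⟩ := Subgroup.mem_zpowers_iff.1 (e z).2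
    show Commute (α a) (e z).1
    rw [← hk]
    exact (hcomm a).zpow_right k
  have hinj : Function.Injective F := (injective_iff_map_eq_one F).2 fun ⟨a, z⟩ h => by
    have h' : α a * (e z).1 = 1 := h
    obtain ⟨k, hk⟩ := mem_powers_iff_mem_zpowers.2 (e z).2
    have hmem : t ^ k ∈ α.range := ⟨a⁻¹, by rw [map_inv, inv_eq_of_mul_eq_one_right h']; exact hk.symm⟩
    have hz1 : (e z).1 = 1 := hk.symm.trans (htriv k hmem)
    rw [hz1, mul_one] at h'
    rw [Prod.mk_eq_one]
    exact ⟨hα (h'.trans (map_one α).symm), e.injective (Subtype.ext (hz1.trans (by rw [map_one]; rfl)))⟩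
  haveI : Finite (Multiplicative (ZMod n)) := Finite.of_injective e e.injective
  have hbij : Function.Bijective F := (Nat.bijective_iff_injective_and_card F).2 ⟨hinj, by
    rw [Nat.card_prod, Nat.card_congr e.toEquiv, Nat.card_zpowers, hn, hcard]⟩
  exact ⟨(MulEquiv.ofBijective F hbij).symm⟩

variable {M A : Type*} [Group M] [Group A]

/-- the image of `H` in `M ⧸ K` is the image of `φ` -/
theorem exists_alpha {H K : Subgroup M} [K.Normal] (φ : ↥H →* A) (hs : Function.Surjective φ)
    (hk : φ.ker = K.subgroupOf H) :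
    ∃ α : A →* M ⧸ K, Function.Injective α ∧ (∀ x : ↥H, α (φ x) = QuotientGroup.mk x.1) ∧
      ∀ y, y ∈ α.range ↔ ∃ x ∈ H, QuotientGroup.mk x = y := by
  obtain ⟨g, hg⟩ := hs.hasRightInverse
  let f : ↥H →* M ⧸ K := (QuotientGroup.mk' K).comp H.subtype
  have hf : ∀ x y : ↥H, φ x = φ y → f x = f y := fun x y h => by
    refine QuotientGroup.eq.2 ?_
    have : x⁻¹ * y ∈ φ.ker := by rw [MonoidHom.mem_ker, map_mul, map_inv, h, inv_mul_cancel]
    rw [hk] at this
    exact this
  let α : A →* M ⧸ K :=
    { toFun := fun a => f (g a)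
      map_one' := (hf _ 1 (by rw [hg, map_one])).trans (map_one f)
      map_mul' := fun a b => (hf _ (g a * g b) (by rw [hg, map_mul, hg, hg])).trans (map_mul f _ _) }
  have hα : ∀ x, α (φ x) = QuotientGroup.mk x.1 := fun x => hf _ x (hg _)
  refine ⟨α, (injective_iff_map_eq_one α).2 fun a ha => ?_, hα, fun y => ⟨?_, ?_⟩⟩
  · have h1 : g a ∈ φ.ker := by rw [hk]; exact (QuotientGroup.eq_one_iff (g a).1).1 ha
    rwa [MonoidHom.mem_ker, hg] at h1
  · rintro ⟨a, rfl⟩
    exact ⟨_, (g a).2, rfl⟩
  · rintro ⟨x, hx, rfl⟩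
    exact ⟨_, hα ⟨x, hx⟩⟩

/-- an automorphism of odd order dividing `f` of the dihedral group of order eight is trivial -/
theorem dihedral_aut_trivial (θ : MulAut (DihedralGroup 4)) {f : ℕ} (hf : Odd f) (h : θ ^ f = 1) : θ = 1 := by
  have hr : θ (DihedralGroup.r 1) = DihedralGroup.r 1 := by
    have key : ∀ x : DihedralGroup 4, orderOf x = 4 → x = DihedralGroup.r 1 ∨ x = DihedralGroup.r 3 := by
      intro x hx
      rcases x with i | i
      · rw [DihedralGroup.orderOf_r] at hx
        have hi : i = 1 ∨ i = 3 := by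
          revert hx
          revert i
          decide
        rcases hi with rfl | rfl
        · exact Or.inl rfl
        · exact Or.inr rfl
      · rw [DihedralGroup.orderOf_sr] at hx; omega
    have h4 : orderOf (DihedralGroup.r (1 : ZMod 4)) = 4 := DihedralGroup.orderOf_r_one
    rcases key _ (((θ.orderOf_eq) _).trans h4) with e | e
    · exact e
    exfalso
    have hsw : θ (DihedralGroup.r (1 : ZMod 4)) = (DihedralGroup.r (1 : ZMod 4))⁻¹ := by rw [e]; decide
    have hit : ∀ k : ℕ, (θ ^ (2 * k + 1)) (DihedralGroup.r (1 : ZMod 4)) = (DihedralGroup.r (1 : ZMod 4))⁻¹ := fun k => by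
      induction k with
      | zero => rw [pow_one, hsw]
      | succ k ih =>
        rw [show 2 * (k + 1) + 1 = (2 * k + 1) + 2 by ring, pow_add, sq, MulAut.mul_apply, MulAut.mul_apply, hsw, map_inv θ, hsw,
          inv_inv, ih]
    obtain ⟨k, rfl⟩ := hf
    have := hit k
    rw [h, MulAut.one_apply] at this
    exact absurd this (by decide)
  have hs : θ (DihedralGroup.sr 0) = DihedralGroup.sr 0 := by
    obtain ⟨i, hi⟩ : ∃ i, θ (DihedralGroup.sr 0) = DihedralGroup.sr i := by
      rcases hcase : θ (DihedralGroup.sr (0 : ZMod 4)) with i | i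
      · exfalso
        have hfix : ∀ j : ZMod 4, θ (DihedralGroup.r j) = DihedralGroup.r j := fun j => by
          rw [show (DihedralGroup.r j : DihedralGroup 4) = DihedralGroup.r 1 ^ j.val by
            rw [DihedralGroup.r_one_pow, ZMod.natCast_zmod_val], map_pow, hr]
        exact absurd (θ.injective (hcase.trans (hfix i).symm)) (by simp)
      · exact ⟨i, rfl⟩
    have hit : ∀ k : ℕ, (θ ^ k) (DihedralGroup.sr 0) = DihedralGroup.sr ((k : ZMod 4) * i) := fun k => by
      induction k with
      | zero => simp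
      | succ k ih =>
        have e : (DihedralGroup.sr ((k : ZMod 4) * i) : DihedralGroup 4) =
            DihedralGroup.sr 0 * DihedralGroup.r 1 ^ ((k : ZMod 4) * i).val := by
          rw [DihedralGroup.r_one_pow, ZMod.natCast_zmod_val, DihedralGroup.sr_mul_r, zero_add]
        rw [pow_succ', MulAut.mul_apply, ih, e, map_mul, map_pow, hr, hi, DihedralGroup.r_one_pow, ZMod.natCast_zmod_val,
          DihedralGroup.sr_mul_r, Nat.cast_succ]
        congr 1
        ring
    have h2 := hit f
    rw [h, MulAut.one_apply, DihedralGroup.sr.injEq] at h2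
    have hu : IsUnit (f : ZMod 4) := (ZMod.isUnit_iff_coprime f 4).2
      (Nat.Coprime.pow_right 2 (Nat.coprime_two_right.2 hf))
    rw [hi, show i = 0 from hu.mul_right_eq_zero.1 h2.symm]
  refine MulEquiv.ext fun x => ?_
  rw [MulAut.one_apply]
  rcases x with j | j
  · rw [show (DihedralGroup.r j : DihedralGroup 4) = DihedralGroup.r 1 ^ j.val by
      rw [DihedralGroup.r_one_pow, ZMod.natCast_zmod_val], map_pow, hr]
  · rw [show (DihedralGroup.sr j : DihedralGroup 4) = DihedralGroup.sr 0 * DihedralGroup.r 1 ^ j.val by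
      rw [DihedralGroup.r_one_pow, ZMod.natCast_zmod_val, DihedralGroup.sr_mul_r, zero_add], map_mul, map_pow, hr, hs]

end CfsgLib.OutGroup
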