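import Cfsg.Agent.Lib.Orth.Aut.CardAut
import Cfsg.Agent.Lib.Orth.Aut.OutGroup

/-!
# Iterates of semilinear maps and their classes in the outer automorphism group
-/

set_option autoImplicit false
set_option linter.all false

namespace CfsgLib.Orth

open Matrix Cfsg.Geo CfsgLib.Perm.Trans CfsgLib.Perm.Trans.Quad

variable {ι : Type} [Fintype ι] [DecidableEq ι] {F : Type*} [Field F] {Q : (ι → F) → F}

/-- the matrix of the `k`-th iterate of `v ↦ g σ(v)` -/
def iterG (g : GL ι F) (σ : RingAut F) : ℕ → GL ι F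
  | 0 => 1
  | k + 1 => g * fieldGL σ (iterG g σ k)

theorem semisim_iter {g : GL ι F} {σ : RingAut F} (h : Cfsg.IsSemisimilarityPair Q g σ) :
    ∀ k, Cfsg.IsSemisimilarityPair Q (iterG g σ k) ((σ ^ k : RingAut F) : F ≃+* F)
  | 0 => semisim_one
  | k + 1 => by
    rw [pow_succ']
    exact semisim_mul h (semisim_iter h k)

theorem ind_pow {g : GL ι F} {σ : RingAut F} (h : Cfsg.IsSemisimilarityPair Q g σ) :
    ∀ k, ind h ^ k = ind (semisim_iter h k)
  | 0 => by rw [pow_zero, ← ind_one]; rfl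
  | k + 1 => by
    rw [pow_succ', ind_pow h k, ind_mul]
    exact ind_congr _ _ rfl (pow_succ' σ k).symm

theorem iterG_one (σ : RingAut F) : ∀ k, iterG (1 : GL ι F) σ k = 1
  | 0 => rfl
  | k + 1 => by rw [iterG, iterG_one σ k, map_one, mul_one]

/-- the determinant of an iterate, `σ` being a power map -/
theorem det_iter (g : GL ι F) {σ : RingAut F} {p : ℕ} (hσ : ∀ x, σ x = x ^ p) :
    ∀ k, (iterG g σ k : Matrix ι ι F).det = (g : Matrix ι ι F).det ^ (∑ i ∈ Finset.range k, p ^ i)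
  | 0 => by simp [iterG]
  | k + 1 => by
    have h1 : ((fieldGL σ (iterG g σ k) : GL ι F) : Matrix ι ι F).det = σ (iterG g σ k : Matrix ι ι F).det :=
      (σ.toRingHom.map_det _).symm
    rw [iterG, Units.val_mul, Matrix.det_mul, h1, det_iter g hσ k, hσ, ← pow_mul, ← pow_succ', Finset.sum_range_succ',
      Finset.sum_mul]
    simp only [pow_succ, pow_zero]

variable [Fintype F]

/-- the Frobenius automorphism has order `f` -/
theorem exists_frobenius {p f : ℕ} [hp : Fact p.Prime] (hF : Fintype.card F = p ^ f) (hf : 1 ≤ f) :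
    ∃ σ : RingAut F, (∀ x, σ x = x ^ p) ∧ orderOf σ = f := by
  haveI : CharP F p := charP_of_card_eq_prime_pow hF
  haveI : PerfectRing F p := inferInstance
  obtain ⟨σ, hσ⟩ : ∃ σ : RingAut F, ∀ x, σ x = x ^ p := ⟨frobeniusEquiv F p, fun x => frobeniusEquiv_def ..⟩
  refine ⟨σ, hσ, ?_⟩
  have hpow : ∀ k : ℕ, ∀ x, (σ ^ k) x = x ^ p ^ k := fun k => by
    induction k with
    | zero => intro x; rw [pow_zero, pow_zero, pow_one]; rfl
    | succ k ih => intro x; rw [pow_succ', RingAut.mul_apply, ih, hσ, ← pow_mul, pow_succ]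
  rw [orderOf_eq_iff (by omega)]
  refine ⟨RingEquiv.ext fun x => by rw [hpow, ← hF, FiniteField.pow_card]; rfl, fun k hk hk0 e => ?_⟩
  have hroots : (Polynomial.X ^ p ^ k - Polynomial.X : Polynomial F) = 0 := by
    refine Polynomial.eq_zero_of_natDegree_lt_card_of_eval_eq_zero' _ Finset.univ (fun x _ => ?_) ?_
    · rw [Polynomial.eval_sub, Polynomial.eval_pow, Polynomial.eval_X, ← hpow, e, sub_eq_zero]; rfl
    · rw [FiniteField.X_pow_card_sub_X_natDegree_eq F (Nat.one_lt_pow hk0.ne' hp.out.one_lt), Finset.card_univ, hF]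
      exact Nat.pow_lt_pow_right hp.out.one_lt hk
  exact FiniteField.X_pow_card_sub_X_ne_zero F (Nat.one_lt_pow hk0.ne' hp.out.one_lt) hroots

variable (hQ : IsNondegenerateQuadraticForm Q)
include hQ

theorem inn_le_pgo : Cfsg.Inn (Cfsg.POmega F Q) ≤ Cfsg.pgoAut F Q := by
  rw [inn_eq, pgoAut_eq]
  exact Subgroup.map_le_range _ _

theorem ind_mem_pgo_iff (hn : 5 ≤ Fintype.card ι) {g : GL ι F} {σ : F ≃+* F} (h : Cfsg.IsSemisimilarityPair Q g σ) :
    ind h ∈ Cfsg.pgoAut F Q ↔ σ = RingEquiv.refl F := by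
  rw [pgoAut_eq]
  refine ⟨fun ⟨a, ha⟩ => ((ind_inj hQ hn (h := sim_pair a.2) (h' := h) ha).1).symm, ?_⟩
  rintro rfl
  obtain ⟨c, hc⟩ := h
  exact ⟨⟨g, c, fun v => hc v⟩, rfl⟩

/-- a power of the class of `ind h` lies in the image of `PGO` only for multiples of the order of `σ` -/
theorem dvd_of_pow_mem (hn : 5 ≤ Fintype.card ι) {g : GL ι F} {σ : RingAut F} (h : Cfsg.IsSemisimilarityPair Q g σ)
    {k : ℕ} {x : MulAut (Cfsg.POmega F Q)} (hx : x ∈ Cfsg.pgoAut F Q)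
    (he : (QuotientGroup.mk x : Cfsg.Out (Cfsg.POmega F Q)) = (QuotientGroup.mk (ind h) : Cfsg.Out (Cfsg.POmega F Q)) ^ k) :
    orderOf σ ∣ k := by
  rw [← QuotientGroup.mk_pow, QuotientGroup.eq] at he
  have h1 : ind h ^ k ∈ Cfsg.pgoAut F Q := by
    have := mul_mem hx (inn_le_pgo hQ he)
    rwa [mul_inv_cancel_left] at this
  rw [ind_pow, ind_mem_pgo_iff hQ hn] at h1
  exact orderOf_dvd_of_pow_eq_one h1

theorem pow_class_mem (hn : 5 ≤ Fintype.card ι) {g : GL ι F} {σ : RingAut F} (h : Cfsg.IsSemisimilarityPair Q g σ) :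
    ind h ^ orderOf σ ∈ Cfsg.pgoAut F Q := by
  rw [ind_pow, ind_mem_pgo_iff hQ hn]
  exact pow_orderOf_eq_one σ

theorem card_out (hn : 5 ≤ Fintype.card ι) {N : ℕ} (h : Nat.card (MulAut (Cfsg.POmega F Q)) = N * Nat.card (Cfsg.POmega F Q)) :
    Nat.card (Cfsg.Out (Cfsg.POmega F Q)) = N := by
  haveI : Finite (Cfsg.POmega F Q) := Quotient.finite _
  rw [Subgroup.card_eq_card_quotient_mul_card_subgroup (Cfsg.Inn (Cfsg.POmega F Q)), card_inn hQ hn] at h
  exact Nat.eq_of_mul_eq_mul_right Nat.card_pos h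

theorem pgo_conj_mem {β : MulAut (Cfsg.POmega F Q)} (hβ : β ∈ gammaSub Q) {x : MulAut (Cfsg.POmega F Q)}
    (hn : 5 ≤ Fintype.card ι) (hx : x ∈ Cfsg.pgoAut F Q) : β * x * β⁻¹ ∈ Cfsg.pgoAut F Q := by
  obtain ⟨g, σ, h, rfl⟩ := hβ
  rw [pgoAut_eq] at hx
  obtain ⟨a, rfl⟩ := hx
  have key : ind h * ind (sim_pair a.2) * (ind h)⁻¹ ∈ Cfsg.pgoAut F Q := by
    have hi : (ind h)⁻¹ = ind (semisim_inv h) := inv_eq_of_mul_eq_one_right (by
      rw [ind_mul, ind_congr _ (semisim_one (Q := Q)) (by rw [fieldGL_symm_apply, mul_inv_cancel])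
        (RingEquiv.symm_trans_self σ), ind_one])
    rw [hi, ind_mul, ind_mul, ind_mem_pgo_iff hQ hn]
    exact RingEquiv.ext fun z => σ.apply_symm_apply z
  exact key

end CfsgLib.Orth
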