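import Cfsg.Agent.Lib.Orth.Aut.Out

/-!
# The outer automorphism groups in odd characteristic and in odd dimension
-/

set_option autoImplicit false
set_option linter.all false

namespace CfsgLib.Orth

open Matrix Cfsg.Geo CfsgLib.Perm.Trans CfsgLib.Perm.Trans.Quad CfsgLib.OutGroup

variable {F : Type*} [Field F] [Fintype F]

/-- a subgroup of order two normalised by `t` is centralised by it -/
theorem commute_of_card_two {P : Type*} [Group P] {A : Type*} [Group A] (α : A →* P) (hα : Function.Injective α)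
    (hA : Nat.card A = 2) (t : P) (ht : ∀ a, t * α a * t⁻¹ ∈ α.range) (a : A) : Commute (α a) t := by
  haveI : Finite A := Nat.finite_of_card_ne_zero (by omega)
  obtain ⟨b, hb⟩ := ht a
  by_cases ha : a = 1
  · rw [ha, map_one]; exact Commute.one_left t
  have hb1 : b ≠ 1 := fun e => ha (hα (by
    rw [e, map_one, eq_comm, mul_inv_eq_one, mul_eq_left] at hb
    rw [hb, map_one]))
  obtain ⟨x, y, hxy, huniv⟩ := Nat.card_eq_two_iff.1 hA
  have hall : ∀ z : A, z = x ∨ z = y := fun z => by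
    have : z ∈ ({x, y} : Set A) := huniv ▸ Set.mem_univ z
    simpa using this
  obtain rfl : b = a := by
    rcases hall 1 with e | e <;> rcases hall a with e' | e' <;> rcases hall b with e'' | e'' <;> subst_vars <;>
      first | rfl | exact absurd rfl ha | exact absurd rfl hb1
  exact (mul_inv_eq_iff_eq_mul.1 hb.symm).symm

/-- the odd dimensional case -/
theorem out_odd_dim {p f m : ℕ} [Fact p.Prime] (hf : 1 ≤ f) (hF : Fintype.card F = p ^ f) (hp : p ≠ 2) (hm : 3 ≤ m) :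
    Nonempty (Cfsg.Out (Cfsg.POmega F (Cfsg.quadFormOdd m F)) ≃* Multiplicative (ZMod 2 × ZMod f)) := by
  have h2 : (2 : F) ≠ 0 := fun e => hp ((two_eq_zero_iff_of_card hF).1 e)
  have hodd : Odd (Fintype.card F) := hF ▸ Odd.pow ((Fact.out : p.Prime).odd_of_ne_two hp)
  have hn : 5 ≤ Fintype.card (Unit ⊕ (Fin m ⊕ Fin m)) := by simp; omega
  have hQ := quadFormOdd_nd (F := F) (m := m) h2
  have hpgo := card_pgo_odd hQ hn h2 ⟨m, by simp; omega⟩
  have hlift : ∀ σ : F ≃+* F, Cfsg.IsSemisimilarityPair (Cfsg.quadFormOdd m F) 1 σ := fun σ =>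
    semisim_field (quadFormOdd_field σ)
  have hcardA := card_mulAut_of_top hQ hn (Aut.gamma_top_odd hodd hm) (fun σ => ⟨1, hlift σ⟩) hF
  rw [hpgo, mul_right_comm] at hcardA
  have hout := card_out hQ hn hcardA
  haveI : Finite (Cfsg.POmega F (Cfsg.quadFormOdd m F)) := Quotient.finite _
  obtain ⟨e⟩ := zmod2_of (P := ↥(Cfsg.pgoAut F (Cfsg.quadFormOdd m F)) ⧸
      (Cfsg.Inn (Cfsg.POmega F (Cfsg.quadFormOdd m F))).subgroupOf (Cfsg.pgoAut F (Cfsg.quadFormOdd m F))) (by
    have h := Subgroup.card_eq_card_quotient_mul_card_subgroup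
      ((Cfsg.Inn (Cfsg.POmega F (Cfsg.quadFormOdd m F))).subgroupOf (Cfsg.pgoAut F (Cfsg.quadFormOdd m F)))
    rw [Nat.card_congr (Subgroup.subgroupOfEquivOfLe (inn_le_pgo hQ)).toEquiv, card_inn hQ hn, hpgo] at h
    exact (Nat.eq_of_mul_eq_mul_right Nat.card_pos h).symm)
  obtain ⟨α, hα, -, hrange⟩ := exists_alpha (K := Cfsg.Inn (Cfsg.POmega F (Cfsg.quadFormOdd m F))) (e.toMonoidHom.comp (QuotientGroup.mk' _))
    (e.surjective.comp (QuotientGroup.mk'_surjective _)) (by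
      ext x; rw [MonoidHom.mem_ker, MonoidHom.comp_apply, MulEquiv.coe_toMonoidHom, MulEquiv.map_eq_one_iff]; exact QuotientGroup.eq_one_iff x)
  obtain ⟨σ, -, hσf⟩ := exists_frobenius hF hf
  obtain ⟨t, ht⟩ : ∃ t : Cfsg.Out (Cfsg.POmega F (Cfsg.quadFormOdd m F)), t = QuotientGroup.mk (ind (hlift σ)) := ⟨_, rfl⟩
  have hdvd : ∀ k : ℕ, t ^ k ∈ α.range → f ∣ k := fun k hk => by
    obtain ⟨x, hx, he⟩ := (hrange _).1 hk
    rw [← hσf]
    exact dvd_of_pow_mem hQ hn (hlift σ) hx (he.trans (by rw [ht]))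
  have htf : t ^ f = 1 := by
    rw [ht, ← QuotientGroup.mk_pow, ind_pow,
      ind_congr _ (semisim_one (Q := Cfsg.quadFormOdd m F)) (iterG_one _ f) (by rw [← hσf, pow_orderOf_eq_one]; rfl), ind_one,
      QuotientGroup.mk_one]
  have hord : orderOf t = f :=
    Nat.dvd_antisymm (orderOf_dvd_of_pow_eq_one htf) (hdvd _ (by rw [pow_orderOf_eq_one]; exact one_mem _))
  obtain ⟨e'⟩ := prod_equiv α hα t hord
    (commute_of_card_two α hα (by simp) t fun a => by
      obtain ⟨x, hx, he⟩ := (hrange _).1 ⟨a, rfl⟩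
      refine (hrange _).2 ⟨ind (hlift σ) * x * (ind (hlift σ))⁻¹, pgo_conj_mem hQ ⟨_, _, hlift σ, rfl⟩ hn hx, ?_⟩
      rw [QuotientGroup.mk_mul, QuotientGroup.mk_mul, QuotientGroup.mk_inv, he, ← ht])
    (fun k hk => by obtain ⟨j, rfl⟩ := hdvd k hk; rw [pow_mul, htf, one_pow])
    (by rw [hout]; simp)
  exact ⟨e'.trans (MulEquiv.prodMultiplicative (ZMod 2) (ZMod f)).symm⟩

end CfsgLib.Orth
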