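import Cfsg.Agent.Lib.Orth.Ind
import Cfsg.Agent.Lib.Orth.Omega
import Cfsg.Agent.Lib.Perm.Trans.QuadSiegel
import Cfsg.Agent.Lib.ProjGeom.Fundamental

/-!
# A permutation of singular points respecting orthogonality and lines comes from a semisimilarity

The map is read in the chart `w ↦ e - Q w • f + w` of the points not orthogonal to `f`; parallel
singular lines go to parallel singular lines, which makes the chart map additive.
-/

set_option autoImplicit false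
set_option linter.all false

namespace CfsgLib.Orth.Aut

open scoped Matrix
open Matrix Cfsg.Geo CfsgLib.Orth CfsgLib.Perm.Asch CfsgLib.Perm.Trans CfsgLib.Perm.Trans.Quad CfsgLib.ProjGeom

variable {ι : Type} [Fintype ι] [DecidableEq ι] {F : Type*} [Field F]
variable {Q : (ι → F) → F}

local notation "pol" => QuadraticMap.polar
local notation "V" => (ι → F)

/-- a map of singular vectors, read up to scalars -/
structure PointMap (Q : V → F) where
  toFun : V → V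
  ne_zero : ∀ u, u ≠ 0 → Q u = 0 → toFun u ≠ 0
  sing : ∀ u, u ≠ 0 → Q u = 0 → Q (toFun u) = 0
  prop_iff : ∀ u v, u ≠ 0 → Q u = 0 → v ≠ 0 → Q v = 0 → (Prop1 (toFun u) (toFun v) ↔ Prop1 u v)
  orth_iff : ∀ u v, u ≠ 0 → Q u = 0 → v ≠ 0 → Q v = 0 → (pol Q (toFun u) (toFun v) = 0 ↔ pol Q u v = 0)
  line : ∀ u v w, u ≠ 0 → Q u = 0 → v ≠ 0 → Q v = 0 → pol Q u v = 0 → w ≠ 0 →
    w ∈ Submodule.span F ({u, v} : Set V) → toFun w ∈ Submodule.span F ({toFun u, toFun v} : Set V)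
  surj : ∀ w, w ≠ 0 → Q w = 0 → ∃ u, u ≠ 0 ∧ Q u = 0 ∧ Prop1 w (toFun u)

variable [Fintype F] (hQ : IsNondegenerateQuadraticForm Q)
include hQ

/-- every translation of a nondegenerate subspace is a sum of singular ones avoiding a given one -/
theorem le_of_singular_not_mem {P S : Submodule F V} (hP : NdOn Q P) (hd : 5 ≤ Module.finrank F P) {s : V}
    (hs : s ∈ P) (hs0 : s ≠ 0) (hsQ : Q s = 0) (h : ∀ r ∈ P, Q r = 0 → (¬ ∃ c : F, r = c • s) → r ∈ S) :
    P ≤ S := by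
  obtain ⟨r, hr, hrQ, hsr⟩ := exists_qpartner hQ hP hs hs0 hsQ
  have hW := pair_nd hQ hs hr hsQ hrQ hsr hP
  have hWd := pair_finrank hQ hs hr hsQ hrQ hsr (P := P)
  obtain ⟨w, hw, hw0, hwQ⟩ := exists_qsingular hQ hW (by omega)
  obtain ⟨hwP, hws, hwr⟩ := (mem_pairPerp hQ).1 hw
  refine le_of_singular_mem hQ hP (by omega) fun v hv hvQ => ?_
  by_cases hv' : ∃ c : F, v = c • s
  · obtain ⟨c, rfl⟩ := hv'
    refine S.smul_mem c ?_
    have e : s = (s + w) - w := (add_sub_cancel_right s w).symm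
    rw [e]
    have hne : ∀ c : F, w ≠ c • s := fun c e => by
      have h1 := congrArg (fun x => pol Q x r) e
      simp only [psmul_left hQ, hsr, hwr, mul_one] at h1
      rw [← h1, zero_smul] at e
      exact hw0 e
    refine S.sub_mem (h _ (P.add_mem hs hwP) ?_ fun ⟨c, hc⟩ => hne (c - 1) ?_) (h w hwP hwQ fun ⟨c, hc⟩ => hne c hc)
    · rw [qadd hQ, hsQ, hwQ, pcomm s w, hws, add_zero, add_zero]
    · rw [sub_smul, one_smul, ← hc, add_sub_cancel_left]
  · exact h v hv hvQ hv'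

/-- two singular vectors have a common orthogonal one outside both lines -/
theorem exists_third {P : Submodule F V} (hP : NdOn Q P) (hd : 5 ≤ Module.finrank F P) {s r : V}
    (hs : s ∈ P) (hs0 : s ≠ 0) (hsQ : Q s = 0) (hr : r ∈ P) (hr0 : r ≠ 0) (hrQ : Q r = 0) :
    pol Q s r = 0 ∧ (¬ ∃ c : F, r = c • s) ∨
      ∃ t ∈ P, t ≠ 0 ∧ Q t = 0 ∧ pol Q s t = 0 ∧ pol Q r t = 0 ∧ (¬ ∃ c : F, t = c • s) ∧ (¬ ∃ c : F, t = c • r) := by
  have key : ∀ {g : V}, g ∈ P → Q g = 0 → pol Q s g = 1 →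
      ∃ t ∈ P, t ≠ 0 ∧ Q t = 0 ∧ pol Q s t = 0 ∧ pol Q g t = 0 := fun {g} hg hgQ hsg => by
    have hWd := pair_finrank hQ hs hg hsQ hgQ hsg (P := P)
    obtain ⟨t, ht, ht0, htQ⟩ := exists_qsingular hQ (pair_nd hQ hs hg hsQ hgQ hsg hP) (by omega)
    obtain ⟨htP, hts, htg⟩ := (mem_pairPerp hQ).1 ht
    exact ⟨t, htP, ht0, htQ, by rw [pcomm]; exact hts, by rw [pcomm]; exact htg⟩
  by_cases hp : pol Q s r = 0
  · by_cases hc : ∃ c : F, r = c • s
    · obtain ⟨c, rfl⟩ := hc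
      obtain ⟨g, hg, hgQ, hsg⟩ := exists_qpartner hQ hP hs hs0 hsQ
      obtain ⟨t, ht, ht0, htQ, hst, hgt⟩ := key hg hgQ hsg
      refine Or.inr ⟨t, ht, ht0, htQ, hst, by rw [psmul_left hQ, hst, mul_zero], ?_, ?_⟩ <;> rintro ⟨d, rfl⟩ <;>
        simp only [psmul_right hQ, pcomm g s, hsg, mul_one, mul_eq_zero] at hgt
      · exact ht0 (by rw [hgt, zero_smul])
      · rcases hgt with h | h
        · exact ht0 (by rw [h, zero_smul])
        · exact hr0 (by rw [h, zero_smul])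
    · exact Or.inl ⟨hp, hc⟩
  · refine Or.inr ?_
    obtain ⟨g, hg⟩ : ∃ g, g = (pol Q s r)⁻¹ • r := ⟨_, rfl⟩
    have hsg : pol Q s g = 1 := by rw [hg, psmul_right hQ, inv_mul_cancel₀ hp]
    obtain ⟨t, ht, ht0, htQ, hst, hgt⟩ := key (hg ▸ P.smul_mem _ hr) (by rw [hg, qsmul hQ, hrQ, mul_zero]) hsg
    have hrt : pol Q r t = 0 := by
      rw [hg, psmul_left hQ] at hgt
      exact (mul_eq_zero.1 hgt).resolve_left (inv_ne_zero hp)
    refine ⟨t, ht, ht0, htQ, hst, hrt, ?_, ?_⟩ <;> rintro ⟨d, rfl⟩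
    · rw [psmul_right hQ, pcomm r s] at hrt
      exact ht0 (by rw [(mul_eq_zero.1 hrt).resolve_right hp, zero_smul])
    · rw [psmul_right hQ] at hst
      exact ht0 (by rw [(mul_eq_zero.1 hst).resolve_right hp, zero_smul])

/-- a semilinear injection preserving the singular vectors multiplies the form by a constant -/
theorem exists_mult {P : Submodule F V} (hP : NdOn Q P) (hd : 5 ≤ Module.finrank F P) {ω : V → V} {σ : F ≃+* F}
    (hadd : ∀ x ∈ P, ∀ y ∈ P, ω (x + y) = ω x + ω y) (hsmul : ∀ (c : F), ∀ x ∈ P, ω (c • x) = σ c • ω x)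
    (hz : ∀ x ∈ P, (Q (ω x) = 0 ↔ Q x = 0)) : ∃ k : F, k ≠ 0 ∧ ∀ x ∈ P, Q (ω x) = k * σ (Q x) := by
  obtain ⟨s, hs, hs0, hsQ⟩ := exists_qsingular hQ hP (by omega)
  obtain ⟨r, hr, hrQ, hsr⟩ := exists_qpartner hQ hP hs hs0 hsQ
  have hWn := pair_nd hQ hs hr hsQ hrQ hsr hP
  have hWd := pair_finrank hQ hs hr hsQ hrQ hsr (P := P)
  obtain ⟨W, hW⟩ : ∃ W, W = pairPerp hQ P s r := ⟨_, rfl⟩
  rw [← hW] at hWn hWd
  have hWm : ∀ w ∈ W, w ∈ P ∧ pol Q w s = 0 ∧ pol Q w r = 0 := fun w hw => (mem_pairPerp hQ).1 (hW ▸ hw)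
  obtain ⟨k, hk⟩ : ∃ k, k = pol Q (ω s) (ω r) := ⟨_, rfl⟩
  have hωs : Q (ω s) = 0 := (hz s hs).2 hsQ
  have hωr : Q (ω r) = 0 := (hz r hr).2 hrQ
  -- the images of `s` and `r` are orthogonal to the image of the complement
  have hzero : ∀ {a b : V}, a ∈ P → b ∈ P → Q a = 0 → Q b = 0 → pol Q a b = 0 → pol Q (ω a) (ω b) = 0 := by
    intro a b ha hb haQ hbQ hab
    have h1 := (hz _ (P.add_mem ha hb)).2 (by rw [qadd hQ, haQ, hbQ, hab, add_zero, add_zero])
    rwa [hadd a ha b hb, qadd hQ, (hz a ha).2 haQ, (hz b hb).2 hbQ, zero_add, zero_add] at h1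
  have horth : ∀ a : V, a ∈ P → Q a = 0 → (∀ w ∈ W, pol Q a w = 0) → ∀ w ∈ W, pol Q (ω a) (ω w) = 0 := by
    intro a ha haQ hperp
    obtain ⟨S, hS⟩ : ∃ S : Submodule F V, ∀ x, x ∈ S ↔ x ∈ P ∧ pol Q (ω a) (ω x) = 0 :=
      ⟨{ carrier := {x | x ∈ P ∧ pol Q (ω a) (ω x) = 0}
         zero_mem' := ⟨P.zero_mem, by
           have h0 := hsmul 0 0 P.zero_mem
           simp only [smul_zero, map_zero, zero_smul] at h0
           rw [h0, pzero_right hQ]⟩
         add_mem' := fun {x y} hx hy => ⟨P.add_mem hx.1 hy.1, by rw [hadd x hx.1 y hy.1, padd_right hQ, hx.2, hy.2, add_zero]⟩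
         smul_mem' := fun c x hx => ⟨P.smul_mem c hx.1, by rw [hsmul c x hx.1, psmul_right hQ, hx.2, mul_zero]⟩ },
        fun _ => Iff.rfl⟩
    intro w hw
    exact ((hS w).1 (le_of_singular_mem hQ hWn (by omega) (fun v hv hvQ =>
      (hS v).2 ⟨(hWm v hv).1, hzero ha (hWm v hv).1 haQ hvQ (hperp v hv)⟩) hw)).2
  have hsW := horth s hs hsQ fun w hw => by rw [pcomm]; exact (hWm w hw).2.1
  have hrW := horth r hr hrQ fun w hw => by rw [pcomm]; exact (hWm w hw).2.2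
  have hQW : ∀ w ∈ W, Q (ω w) = k * σ (Q w) := by
    intro w hw
    obtain ⟨hwP, hws, hwr⟩ := hWm w hw
    have hmem : s + (-Q w) • r + w ∈ P := P.add_mem (P.add_mem hs (P.smul_mem _ hr)) hwP
    have h1 := (hz _ hmem).2 (by
      simp only [qadd hQ, qsmul hQ, padd_left hQ, psmul_left hQ, psmul_right hQ, hsQ, hrQ, hsr, pcomm s w, hws, pcomm r w, hwr]
      ring)
    rw [hadd _ (P.add_mem hs (P.smul_mem _ hr)) _ hwP, hadd _ hs _ (P.smul_mem _ hr), hsmul _ _ hr] at h1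
    simp only [qadd hQ, qsmul hQ, padd_left hQ, psmul_left hQ, psmul_right hQ, hωs, hωr, ← hk, hsW w hw, hrW w hw,
      mul_zero, zero_add, add_zero, map_neg] at h1
    linear_combination h1
  have hall : ∀ x ∈ P, Q (ω x) = k * σ (Q x) := by
    intro x hx
    have hw := pair_proj hQ hs hr hsQ hrQ hsr hx
    rw [← hW] at hw
    obtain ⟨w, hw'⟩ : ∃ w, w = x - pol Q x r • s - pol Q x s • r := ⟨_, rfl⟩
    rw [← hw'] at hw
    obtain ⟨hwP, hws, hwr⟩ := hWm w hw
    have hx' : x = pol Q x r • s + pol Q x s • r + w := by rw [hw']; abel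
    rw [hx', hadd _ (P.add_mem (P.smul_mem _ hs) (P.smul_mem _ hr)) _ hwP,
      hadd _ (P.smul_mem _ hs) _ (P.smul_mem _ hr), hsmul _ _ hs, hsmul _ _ hr]
    simp only [qadd hQ, qsmul hQ, padd_left hQ, psmul_left hQ, psmul_right hQ, hωs, hωr, ← hk, hsW w hw, hrW w hw,
      hsQ, hrQ, hsr, pcomm s w, hws, pcomm r w, hwr, hQW w hw, map_add, map_mul, mul_zero, add_zero, zero_add, mul_one]
    ring
  refine ⟨k, fun hk0 => ?_, hall⟩
  have h1 := (hz _ (P.add_mem hs hr)).1 (by rw [hall _ (P.add_mem hs hr), hk0, zero_mul])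
  rw [qadd hQ, hsQ, hrQ, hsr, zero_add, zero_add] at h1
  exact one_ne_zero h1

/-- an additive map carrying singular lines into lines is semilinear -/
theorem exists_twist {P : Submodule F V} (hP : NdOn Q P) (hd : 5 ≤ Module.finrank F P) {ω : V → V}
    (hadd : ∀ x ∈ P, ∀ y ∈ P, ω (x + y) = ω x + ω y) (hinj : ∀ x ∈ P, ω x = 0 → x = 0)
    (hline : ∀ s ∈ P, Q s = 0 → ∀ a : F, ∃ b : F, ω (a • s) = b • ω s)
    (hindep : ∀ s ∈ P, ∀ r ∈ P, s ≠ 0 → r ≠ 0 → Q s = 0 → Q r = 0 → pol Q s r = 0 → (∃ c : F, ω r = c • ω s) →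
      ∃ c : F, r = c • s) :
    ∃ σ : F ≃+* F, ∀ (c : F), ∀ x ∈ P, ω (c • x) = σ c • ω x := by
  have h0 : ω 0 = 0 := by
    have h := hadd 0 P.zero_mem 0 P.zero_mem
    rwa [add_zero, left_eq_add] at h
  choose σ hσ using hline
  -- orthogonal independent singular vectors share their twist
  have hor : ∀ s r (hs : s ∈ P) (hr : r ∈ P), s ≠ 0 → r ≠ 0 → ∀ (hsQ : Q s = 0) (hrQ : Q r = 0), pol Q s r = 0 →
      (¬ ∃ c : F, r = c • s) → ∀ a, σ s hs hsQ a = σ r hr hrQ a := by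
    intro s r hs hr hs0 hr0 hsQ hrQ hsr hne a
    have hsum : Q (s + r) = 0 := by rw [qadd hQ, hsQ, hrQ, hsr, add_zero, add_zero]
    have h1 := hσ (s + r) (P.add_mem hs hr) hsum a
    rw [smul_add, hadd _ (P.smul_mem a hs) _ (P.smul_mem a hr), hadd s hs r hr, hσ s hs hsQ a, hσ r hr hrQ a,
      smul_add] at h1
    have hli : LinearIndependent F ![ω s, ω r] :=
      (LinearIndependent.pair_iff' (fun e => hs0 (hinj s hs e))).2 fun c hc =>
        hne (hindep s hs r hr hs0 hr0 hsQ hrQ hsr ⟨c, hc.symm⟩)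
    have h2 := LinearIndependent.pair_iff.1 hli (σ s hs hsQ a - σ (s + r) (P.add_mem hs hr) hsum a)
      (σ r hr hrQ a - σ (s + r) (P.add_mem hs hr) hsum a) (by linear_combination (norm := module) h1)
    rw [sub_eq_zero.1 h2.1, sub_eq_zero.1 h2.2]
  have hcom : ∀ s r (hs : s ∈ P) (hr : r ∈ P), s ≠ 0 → r ≠ 0 → ∀ (hsQ : Q s = 0) (hrQ : Q r = 0) (a : F),
      σ s hs hsQ a = σ r hr hrQ a := by
    intro s r hs hr hs0 hr0 hsQ hrQ a
    rcases exists_third hQ hP hd hs hs0 hsQ hr hr0 hrQ with ⟨h1, h2⟩ | ⟨t, ht, ht0, htQ, h1, h2, h3, h4⟩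
    · exact hor s r hs hr hs0 hr0 hsQ hrQ h1 h2 a
    · exact (hor s t hs ht hs0 ht0 hsQ htQ h1 h3 a).trans (hor r t hr ht hr0 ht0 hrQ htQ h2 h4 a).symm
  obtain ⟨s, hs, hs0, hsQ⟩ := exists_qsingular hQ hP (by omega)
  obtain ⟨τ, hτ⟩ : ∃ τ : F → F, τ = σ s hs hsQ := ⟨_, rfl⟩
  have hωs : ω s ≠ 0 := fun e => hs0 (hinj s hs e)
  have hsing : ∀ r ∈ P, Q r = 0 → ∀ a : F, ω (a • r) = τ a • ω r := fun r hr hrQ a => by
    by_cases hr0 : r = 0
    · rw [hr0, smul_zero, h0, smul_zero]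
    · rw [hσ r hr hrQ a, hτ, hcom s r hs hr hs0 hr0 hsQ hrQ]
  have hτadd : ∀ a b, τ (a + b) = τ a + τ b := fun a b => smul_left_injective F hωs (by
    show τ (a + b) • ω s = (τ a + τ b) • ω s
    rw [← hsing s hs hsQ, add_smul, add_smul, hadd _ (P.smul_mem a hs) _ (P.smul_mem b hs), hsing s hs hsQ,
      hsing s hs hsQ])
  have hτmul : ∀ a b, τ (a * b) = τ a * τ b := fun a b => smul_left_injective F hωs (by
    show τ (a * b) • ω s = (τ a * τ b) • ω s
    rw [← hsing s hs hsQ, mul_smul, mul_smul, hsing _ (P.smul_mem b hs) (by rw [qsmul hQ, hsQ, mul_zero]),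
      hsing s hs hsQ])
  have hτ1 : τ 1 = 1 := smul_left_injective F hωs (by
    show τ 1 • ω s = (1 : F) • ω s
    rw [← hsing s hs hsQ, one_smul, one_smul])
  let φ : F →+* F :=
    { toFun := τ
      map_one' := hτ1
      map_mul' := hτmul
      map_zero' := by
        have h := hτadd 0 0
        rwa [add_zero, left_eq_add] at h
      map_add' := hτadd }
  refine ⟨RingEquiv.ofBijective φ φ.injective.bijective_of_finite, fun c x hx => ?_⟩
  show ω (c • x) = τ c • ω x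
  obtain ⟨S, hS⟩ : ∃ S : Submodule F V, ∀ x, x ∈ S ↔ x ∈ P ∧ ∀ a, ω (a • x) = τ a • ω x :=
    ⟨{ carrier := {x | x ∈ P ∧ ∀ a, ω (a • x) = τ a • ω x}
       zero_mem' := ⟨P.zero_mem, fun a => by rw [smul_zero, h0, smul_zero]⟩
       add_mem' := fun {x y} hx hy => ⟨P.add_mem hx.1 hy.1, fun a => by
         rw [smul_add, hadd _ (P.smul_mem a hx.1) _ (P.smul_mem a hy.1), hx.2, hy.2, hadd x hx.1 y hy.1, smul_add]⟩
       smul_mem' := fun b x hx => ⟨P.smul_mem b hx.1, fun a => by rw [smul_smul, hx.2, hx.2, hτmul, mul_smul]⟩ },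
      fun _ => Iff.rfl⟩
  exact ((hS x).1 (le_of_singular_mem hQ hP (by omega) (fun v hv hvQ => (hS v).2 ⟨hv, hsing v hv hvQ⟩) hx)).2 c

/-- a map of the affine chart carrying singular lines to parallel classes is additive -/
theorem chart_additive {P : Submodule F V} (hP : NdOn Q P) (hd : 5 ≤ Module.finrank F P) {ω φ : V → V}
    (hω0 : ω 0 = 0)
    (hdir : ∀ w ∈ P, ∀ s ∈ P, s ≠ 0 → Q s = 0 → ∃ b : F, ω (w + s) = ω w + b • φ s)
    (hindep : ∀ s ∈ P, ∀ r ∈ P, s ≠ 0 → r ≠ 0 → Q s = 0 → Q r = 0 → (¬ ∃ c : F, r = c • s) →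
      LinearIndependent F ![φ s, φ r]) :
    ∀ x ∈ P, ∀ y ∈ P, ω (x + y) = ω x + ω y := by
  -- the difference along a singular vector does not depend on the base point
  have hshift : ∀ s ∈ P, s ≠ 0 → Q s = 0 → ∀ r ∈ P, r ≠ 0 → Q r = 0 → (¬ ∃ c : F, r = c • s) → ∀ w ∈ P,
      ω (w + r + s) - ω (w + r) = ω (w + s) - ω w := by
    intro s hs hs0 hsQ r hr hr0 hrQ hne w hw
    obtain ⟨A, hA⟩ := hdir w hw s hs hs0 hsQ
    obtain ⟨A', hA'⟩ := hdir w hw r hr hr0 hrQ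
    obtain ⟨B, hB⟩ := hdir (w + r) (P.add_mem hw hr) s hs hs0 hsQ
    obtain ⟨B', hB'⟩ := hdir (w + s) (P.add_mem hw hs) r hr hr0 hrQ
    have e : ω (w + r + s) = ω (w + s + r) := by rw [add_right_comm]
    rw [hB, hB', hA, hA'] at e
    have h2 := LinearIndependent.pair_iff.1 (hindep s hs r hr hs0 hr0 hsQ hrQ hne) (B - A) (A' - B')
      (by linear_combination (norm := module) e)
    rw [hB, hA, sub_eq_zero.1 h2.1, add_sub_cancel_left, add_sub_cancel_left]
  have hinv : ∀ s ∈ P, s ≠ 0 → Q s = 0 → ∀ w ∈ P, ω (w + s) = ω w + ω s := by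
    intro s hs hs0 hsQ
    obtain ⟨S, hS⟩ : ∃ S : AddSubgroup V, ∀ z, z ∈ S ↔ z ∈ P ∧ ∀ w ∈ P, ω (w + z + s) - ω (w + z) = ω (w + s) - ω w :=
      ⟨{ carrier := {z | z ∈ P ∧ ∀ w ∈ P, ω (w + z + s) - ω (w + z) = ω (w + s) - ω w}
         zero_mem' := ⟨P.zero_mem, fun w _ => by rw [add_zero]⟩
         add_mem' := fun {y z} hy hz => ⟨P.add_mem hy.1 hz.1, fun w hw => by
           rw [← add_assoc w y z, hz.2 _ (P.add_mem hw hy.1), hy.2 w hw]⟩
         neg_mem' := fun {z} hz => ⟨P.neg_mem hz.1, fun w hw => by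
           have h := hz.2 (w + -z) (P.add_mem hw (P.neg_mem hz.1))
           rw [neg_add_cancel_right] at h
           exact h.symm⟩ }, fun _ => Iff.rfl⟩
    obtain ⟨S', hS'⟩ : ∃ S' : Submodule F V, ∀ z, z ∈ S' ↔ z ∈ P ∧ ∀ a : F, a • z ∈ S :=
      ⟨{ carrier := {z | z ∈ P ∧ ∀ a : F, a • z ∈ S}
         zero_mem' := ⟨P.zero_mem, fun a => by rw [smul_zero]; exact S.zero_mem⟩
         add_mem' := fun {y z} hy hz => ⟨P.add_mem hy.1 hz.1, fun a => by rw [smul_add]; exact S.add_mem (hy.2 a) (hz.2 a)⟩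
         smul_mem' := fun b z hz => ⟨P.smul_mem b hz.1, fun a => by rw [smul_smul]; exact hz.2 _⟩ }, fun _ => Iff.rfl⟩
    have hle : P ≤ S' := le_of_singular_not_mem hQ hP hd hs hs0 hsQ fun r hr hrQ hne => (hS' r).2 ⟨hr, fun a => by
      by_cases ha : a = 0
      · rw [ha, zero_smul]; exact S.zero_mem
      refine (hS _).2 ⟨P.smul_mem a hr, hshift s hs hs0 hsQ _ (P.smul_mem a hr) (smul_ne_zero ha fun e => hne ⟨0, by rw [e, zero_smul]⟩)
        (by rw [qsmul hQ, hrQ, mul_zero]) fun ⟨c, hc⟩ => hne ⟨a⁻¹ * c, by rw [← smul_smul, ← hc, inv_smul_smul₀ ha]⟩⟩⟩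
    intro w hw
    have h := ((hS _).1 (((hS' w).1 (hle hw)).2 1)).2 0 P.zero_mem
    rw [one_smul, zero_add, zero_add, hω0, sub_zero] at h
    rw [← h, add_sub_cancel]
  obtain ⟨S, hS⟩ : ∃ S : Submodule F V, ∀ z, z ∈ S ↔ z ∈ P ∧ ∀ a : F, ∀ w ∈ P, ω (w + a • z) = ω w + ω (a • z) :=
    ⟨{ carrier := {z | z ∈ P ∧ ∀ a : F, ∀ w ∈ P, ω (w + a • z) = ω w + ω (a • z)}
       zero_mem' := ⟨P.zero_mem, fun a w _ => by rw [smul_zero, add_zero, hω0, add_zero]⟩
       add_mem' := fun {y z} hy hz => ⟨P.add_mem hy.1 hz.1, fun a w hw => by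
         rw [smul_add, ← add_assoc, hz.2 a _ (P.add_mem hw (P.smul_mem a hy.1)), hy.2 a w hw,
           hz.2 a _ (P.smul_mem a hy.1), add_assoc]⟩
       smul_mem' := fun b z hz => ⟨P.smul_mem b hz.1, fun a => by rw [smul_smul]; exact hz.2 _⟩ }, fun _ => Iff.rfl⟩
  intro x hx y hy
  have h := ((hS y).1 (le_of_singular_mem hQ hP (by omega) (fun v hv hvQ => (hS v).2 ⟨hv, fun a w hw => by
    by_cases h' : a • v = 0
    · rw [h', add_zero, hω0, add_zero]
    · exact hinv _ (P.smul_mem a hv) h' (by rw [qsmul hQ, hvQ, mul_zero]) w hw⟩) hy)).2 1 x hx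
  rwa [one_smul] at h

/-- the fundamental theorem for the polar space -/
theorem exists_semisim (hn : 7 ≤ Fintype.card ι) (f : PointMap Q) :
    ∃ (g : GL ι F) (σ : F ≃+* F), Cfsg.IsSemisimilarityPair Q g σ ∧
      ∀ u, u ≠ 0 → Q u = 0 → Prop1 (semi g σ u) (f.toFun u) := by
  obtain ⟨e, -, he0, heQ⟩ := exists_qsingular hQ (ndOn_top hQ) (by
    rw [finrank_top, Module.finrank_fintype_fun_eq_card]; omega)
  obtain ⟨h, -, hhQ, heh⟩ := exists_qpartner hQ (ndOn_top hQ) Submodule.mem_top he0 heQ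
  have hh0 : h ≠ 0 := fun e' => by rw [e', pzero_right hQ] at heh; exact zero_ne_one heh
  obtain ⟨P, hPdef⟩ : ∃ P, P = pairPerp hQ ⊤ e h := ⟨_, rfl⟩
  have hP : NdOn Q P := hPdef ▸ pair_nd hQ (P := ⊤) Submodule.mem_top Submodule.mem_top heQ hhQ heh (ndOn_top hQ)
  have hPd := pair_finrank hQ (P := ⊤) (e := e) (f := h) Submodule.mem_top Submodule.mem_top heQ hhQ heh
  rw [finrank_top, Module.finrank_fintype_fun_eq_card, ← hPdef] at hPd
  have hPm : ∀ w ∈ P, pol Q w e = 0 ∧ pol Q w h = 0 := fun w hw => ((mem_pairPerp hQ).1 (hPdef ▸ hw)).2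
  -- the images of the pair
  obtain ⟨E, hE⟩ : ∃ E, E = f.toFun e := ⟨_, rfl⟩
  obtain ⟨c, hc⟩ : ∃ c, c = pol Q E (f.toFun h) := ⟨_, rfl⟩
  have hc0 : c ≠ 0 := fun e' => by
    have := (f.orth_iff e h he0 heQ hh0 hhQ).1 (by rw [← hE, ← hc, e'])
    rw [heh] at this
    exact one_ne_zero this
  obtain ⟨H, hH⟩ : ∃ H, H = c⁻¹ • f.toFun h := ⟨_, rfl⟩
  have hEQ : Q E = 0 := hE ▸ f.sing e he0 heQ
  have hE0 : E ≠ 0 := hE ▸ f.ne_zero e he0 heQ
  have hfh : f.toFun h = c • H := by rw [hH, smul_inv_smul₀ hc0]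
  have hHQ : Q H = 0 := by rw [hH, qsmul hQ, f.sing h hh0 hhQ, mul_zero]
  have hEH : pol Q E H = 1 := by rw [hH, psmul_right hQ, ← hc, inv_mul_cancel₀ hc0]
  obtain ⟨pr, hpr⟩ : ∃ pr : V → V, pr = fun v => v - pol Q v H • E - pol Q v E • H := ⟨_, rfl⟩
  have hpr_perp : ∀ v, pol Q (pr v) E = 0 ∧ pol Q (pr v) H = 0 := fun v => by
    have h1 := (mem_pairPerp hQ).1 (pair_proj hQ (P := ⊤) Submodule.mem_top Submodule.mem_top hEQ hHQ hEH
      (Submodule.mem_top (x := v)))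
    rw [hpr]
    exact h1.2
  have hpr_dec : ∀ v, v = pol Q v H • E + pol Q v E • H + pr v := fun v => by simp only [hpr]; module
  have hpr_smul : ∀ (a : F) v, pr (a • v) = a • pr v := fun a v => by
    simp only [hpr, psmul_left hQ, smul_sub, smul_smul]
  have hpr_add : ∀ v w, pr (v + w) = pr v + pr w := fun v w => by
    simp only [hpr, padd_left hQ, add_smul]; abel
  have hprH : pr H = 0 := by
    simp only [hpr, pself hQ H, hHQ, pcomm H E, hEH, mul_zero, zero_smul, sub_zero, one_smul, sub_self]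
  have hprE : pr E = 0 := by
    simp only [hpr, pself hQ E, hEQ, hEH, mul_zero, zero_smul, sub_zero, one_smul, sub_self]
  -- the chart
  obtain ⟨p, hp⟩ : ∃ p : V → V, p = fun w => e - Q w • h + w := ⟨_, rfl⟩
  have hpQ : ∀ w ∈ P, Q (p w) = 0 := fun w hw => by
    rw [hp]
    simp only [qadd hQ, qsub hQ, qsmul hQ, psub_left hQ, psmul_left hQ, psmul_right hQ, heQ, hhQ, heh, pcomm e w,
      pcomm h w, (hPm w hw).1, (hPm w hw).2]
    ring
  have hph : ∀ w ∈ P, pol Q (p w) h = 1 := fun w hw => by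
    rw [hp]
    simp only [padd_left hQ, psub_left hQ, psmul_left hQ, heh, pself hQ h, hhQ, (hPm w hw).2]
    ring
  have hp0 : ∀ w ∈ P, p w ≠ 0 := fun w hw e' => by
    have := hph w hw
    rw [e', pzero_left hQ] at this
    exact zero_ne_one this
  have hμ : ∀ w ∈ P, pol Q (f.toFun (p w)) H ≠ 0 := fun w hw e' => by
    have := (f.orth_iff (p w) h (hp0 w hw) (hpQ w hw) hh0 hhQ).1 (by rw [hfh, psmul_right hQ, e', mul_zero])
    rw [hph w hw] at this
    exact one_ne_zero this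
  obtain ⟨nf, hnf⟩ : ∃ nf : V → V, nf = fun w => (pol Q (f.toFun (p w)) H)⁻¹ • f.toFun (p w) := ⟨_, rfl⟩
  obtain ⟨ω, hω⟩ : ∃ ω : V → V, ω = fun w => pr (nf w) := ⟨_, rfl⟩
  have hnfH : ∀ w ∈ P, pol Q (nf w) H = 1 := fun w hw => by rw [hnf, psmul_left hQ, inv_mul_cancel₀ (hμ w hw)]
  have hnfQ : ∀ w ∈ P, Q (nf w) = 0 := fun w hw => by rw [hnf, qsmul hQ, f.sing _ (hp0 w hw) (hpQ w hw), mul_zero]
  have hωperp : ∀ w, pol Q (ω w) E = 0 ∧ pol Q (ω w) H = 0 := fun w => by rw [hω]; exact hpr_perp _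
  have hnfdec : ∀ w ∈ P, nf w = E - Q (ω w) • H + ω w := fun w hw => by
    have h1 := hpr_dec (nf w)
    rw [hnfH w hw, one_smul, show pr (nf w) = ω w by rw [hω]] at h1
    obtain ⟨z, hz⟩ : ∃ z, z = pol Q (nf w) E := ⟨_, rfl⟩
    rw [← hz] at h1
    have h2 := hnfQ w hw
    rw [h1] at h2 ⊢
    simp only [qadd hQ, qsmul hQ, padd_left hQ, psmul_left hQ, psmul_right hQ, hEQ, hHQ, hEH, pcomm E (ω w),
      pcomm H (ω w), (hωperp w).1, (hωperp w).2, mul_zero, add_zero, mul_one, zero_add] at h2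
    rw [show z = -Q (ω w) by linear_combination h2, neg_smul, sub_eq_add_neg]
  have hω0 : ω 0 = 0 := by
    have : p 0 = e := by simp only [hp, qzero hQ, zero_smul, sub_zero, add_zero]
    simp only [hω, hnf, this, ← hE, hEH, inv_one, one_smul, hprE]
  have hcoe : ∀ w ∈ P, f.toFun (p w) = pol Q (f.toFun (p w)) H • nf w := fun w hw => by
    rw [hnf, smul_inv_smul₀ (hμ w hw)]
  -- points at infinity
  have hinf : ∀ s ∈ P, s ≠ 0 → Q s = 0 → ∀ t : F, s + t • h ≠ 0 ∧ Q (s + t • h) = 0 := fun s hs hs0 hsQ t => by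
    refine ⟨fun e' => ?_, ?_⟩
    · have h1 := congrArg (fun x => pol Q x e) e'
      simp only [padd_left hQ, psmul_left hQ, (hPm s hs).1, pcomm h e, heh, pzero_left hQ, zero_add, mul_one] at h1
      rw [h1, zero_smul, add_zero] at e'
      exact hs0 e'
    · simp only [qadd hQ, qsmul hQ, psmul_right hQ, hsQ, hhQ, (hPm s hs).2]; ring
  have hfs : ∀ s ∈ P, s ≠ 0 → Q s = 0 → pr (f.toFun s) = f.toFun s := fun s hs hs0 hsQ => by
    have h1 := (f.orth_iff s e hs0 hsQ he0 heQ).2 (hPm s hs).1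
    have h2 := (f.orth_iff s h hs0 hsQ hh0 hhQ).2 (hPm s hs).2
    rw [← hE] at h1
    rw [hfh, psmul_right hQ] at h2
    simp only [hpr, h1, (mul_eq_zero.1 h2).resolve_left hc0, zero_smul, sub_zero]
  have hinfimg : ∀ s ∈ P, s ≠ 0 → Q s = 0 → ∀ t : F,
      ∃ b : F, pr (f.toFun (s + t • h)) = b • f.toFun s ∧ pol Q (f.toFun (s + t • h)) H = 0 := fun s hs hs0 hsQ t => by
    have h1 := f.line s h (s + t • h) hs0 hsQ hh0 hhQ (hPm s hs).2 (hinf s hs hs0 hsQ t).1
      (Submodule.mem_span_pair.2 ⟨1, t, by rw [one_smul]⟩)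
    obtain ⟨α, β, hab⟩ := Submodule.mem_span_pair.1 h1
    refine ⟨α, ?_, ?_⟩
    · rw [← hab, hpr_add, hpr_smul, hpr_smul, hfs s hs hs0 hsQ, hfh, hpr_smul, hprH, smul_zero, smul_zero, add_zero]
    · have h2 := (f.orth_iff s h hs0 hsQ hh0 hhQ).2 (hPm s hs).2
      rw [hfh, psmul_right hQ] at h2
      rw [← hab, padd_left hQ, psmul_left hQ, psmul_left hQ, hfh, psmul_left hQ, pself hQ H, hHQ,
        (mul_eq_zero.1 h2).resolve_left hc0]
      ring
  have hdir : ∀ w ∈ P, ∀ s ∈ P, s ≠ 0 → Q s = 0 → ∃ b : F, ω (w + s) = ω w + b • f.toFun s := by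
    intro w hw s hs hs0 hsQ
    obtain ⟨u, hu⟩ : ∃ u, u = s + (-pol Q w s) • h := ⟨_, rfl⟩
    obtain ⟨hu0, huQ⟩ := hu ▸ hinf s hs hs0 hsQ (-pol Q w s)
    have hpw : pol Q (p w) u = 0 := by
      rw [hp, hu]
      simp only [padd_left hQ, padd_right hQ, psub_left hQ, psmul_left hQ, psmul_right hQ, heh, pself hQ h, hhQ,
        pcomm e s, (hPm s hs).1, pcomm h s, (hPm s hs).2, (hPm w hw).2]
      ring
    have hmem : p (w + s) ∈ Submodule.span F ({p w, u} : Set V) := Submodule.mem_span_pair.2 ⟨1, 1, by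
      rw [one_smul, one_smul, hp, hu]
      simp only [qadd hQ, hsQ, add_zero]
      module⟩
    obtain ⟨α, β, hab⟩ := Submodule.mem_span_pair.1
      (f.line _ _ _ (hp0 w hw) (hpQ w hw) hu0 huQ hpw (hp0 _ (P.add_mem hw hs)) hmem)
    obtain ⟨b, hb1, hb2⟩ := hinfimg s hs hs0 hsQ (-pol Q w s)
    rw [← hu] at hb1 hb2
    obtain ⟨m, hm⟩ : ∃ m, m = pol Q (f.toFun (p (w + s))) H := ⟨_, rfl⟩
    have hmα : m = α * pol Q (f.toFun (p w)) H := by
      rw [hm, ← hab, padd_left hQ, psmul_left hQ, psmul_left hQ, hb2, mul_zero, add_zero]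
    have hm0 : m ≠ 0 := hm ▸ hμ _ (P.add_mem hw hs)
    refine ⟨m⁻¹ * β * b, ?_⟩
    simp only [hω, hnf, ← hm]
    rw [← hab, hpr_smul, hpr_smul, hpr_add, hpr_smul, hpr_smul, hb1, smul_add, smul_smul, smul_smul, smul_smul]
    congr 2
    rw [hmα, mul_inv, mul_comm α⁻¹, mul_assoc, inv_mul_cancel₀ (fun e' => hm0 (by rw [hmα, e', zero_mul])), mul_one]
  have hpinj : ∀ w ∈ P, ∀ z ∈ P, nf w = nf z → w = z := fun w hw z hz e' => by
    have h1 : Prop1 (p w) (p z) := (f.prop_iff _ _ (hp0 w hw) (hpQ w hw) (hp0 z hz) (hpQ z hz)).1 (by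
      refine ⟨pol Q (f.toFun (p z)) H / pol Q (f.toFun (p w)) H, div_ne_zero (hμ z hz) (hμ w hw), ?_⟩
      rw [div_eq_mul_inv, mul_smul]
      exact (hcoe z hz).trans (by rw [← e', hnf]))
    obtain ⟨d, -, hd⟩ := h1
    have h2 := congrArg (fun x => pol Q x h) hd
    simp only [psmul_left hQ, hph z hz, hph w hw, mul_one] at h2
    rw [← h2, one_smul] at hd
    simp only [hp] at hd
    have key : ∀ {x}, x ∈ P → e - Q x • h + x - e = x - Q x • h := fun {x} _ => by abel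
    have h3 : z - Q z • h = w - Q w • h := by rw [← key hz, ← key hw, hd]
    have h4 := congrArg (fun x => pol Q x e) h3
    simp only [psub_left hQ, psmul_left hQ, (hPm z hz).1, (hPm w hw).1, pcomm h e, heh, mul_one, zero_sub, neg_inj] at h4
    rw [h4, sub_left_inj] at h3
    exact h3.symm
  have hωinj : ∀ w ∈ P, ∀ z ∈ P, ω w = ω z → w = z := fun w hw z hz e' =>
    hpinj w hw z hz (by rw [hnfdec w hw, hnfdec z hz, e'])
  have hphi : ∀ s ∈ P, ∀ r ∈ P, s ≠ 0 → r ≠ 0 → Q s = 0 → Q r = 0 → (¬ ∃ c : F, r = c • s) →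
      LinearIndependent F ![f.toFun s, f.toFun r] := fun s hs r hr hs0 hr0 hsQ hrQ hne =>
    (LinearIndependent.pair_iff' (f.ne_zero s hs0 hsQ)).2 fun d hd => by
      obtain ⟨d', -, hd'⟩ := (f.prop_iff s r hs0 hsQ hr0 hrQ).1
        ⟨d, fun e' => f.ne_zero r hr0 hrQ (by rw [← hd, e', zero_smul]), hd.symm⟩
      exact hne ⟨d', hd'⟩
  have hadd := chart_additive hQ hP (by omega) hω0 hdir hphi
  have hline0 : ∀ s ∈ P, s ≠ 0 → Q s = 0 → ∃ b : F, b ≠ 0 ∧ ω s = b • f.toFun s := fun s hs hs0 hsQ => by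
    obtain ⟨b, hb⟩ := hdir 0 P.zero_mem s hs hs0 hsQ
    rw [zero_add, hω0, zero_add] at hb
    exact ⟨b, fun e' => hs0 (hωinj s hs 0 P.zero_mem (by rw [hb, e', zero_smul, hω0])), hb⟩
  obtain ⟨σ, hσ⟩ := exists_twist hQ hP (by omega) hadd
    (fun x hx e' => hωinj x hx 0 P.zero_mem (by rw [e', hω0]))
    (fun s hs hsQ a => by
      by_cases hs0 : s = 0
      · exact ⟨0, by rw [hs0, smul_zero, hω0, smul_zero]⟩
      by_cases ha : a = 0
      · exact ⟨0, by rw [ha, zero_smul, hω0, zero_smul]⟩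
      obtain ⟨b, hb, hbs⟩ := hline0 s hs hs0 hsQ
      obtain ⟨b', -, hbs'⟩ := hline0 (a • s) (P.smul_mem a hs) (smul_ne_zero ha hs0) (by rw [qsmul hQ, hsQ, mul_zero])
      obtain ⟨d, hd, hds⟩ := (f.prop_iff s (a • s) hs0 hsQ (smul_ne_zero ha hs0) (by rw [qsmul hQ, hsQ, mul_zero])).2
        ⟨a, ha, rfl⟩
      exact ⟨b' * d / b, by rw [hbs', hds, hbs, smul_smul, smul_smul, div_mul_cancel₀ _ hb]⟩)
    (fun s hs r hr hs0 hr0 hsQ hrQ _ ⟨d, hd⟩ => by
      by_contra hne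
      obtain ⟨b, hb, hbs⟩ := hline0 s hs hs0 hsQ
      obtain ⟨b', hb', hbr⟩ := hline0 r hr hr0 hrQ
      exact (LinearIndependent.pair_iff' (f.ne_zero s hs0 hsQ)).1 (hphi s hs r hr hs0 hr0 hsQ hrQ hne) (b'⁻¹ * (d * b))
        (by rw [← smul_smul, ← smul_smul, ← hbs, ← hd, hbr, inv_smul_smul₀ hb']))
  have hzero : ∀ x ∈ P, (Q (ω x) = 0 ↔ Q x = 0) := fun x hx => by
    have h1 := f.orth_iff e (p x) he0 heQ (hp0 x hx) (hpQ x hx)
    rw [← hE, hcoe x hx, psmul_right hQ, mul_eq_zero, or_iff_right (hμ x hx), hnfdec x hx, hp] at h1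
    simp only [padd_right hQ, psub_right hQ, psmul_right hQ, pself hQ E, hEQ, hEH, pcomm E (ω x), (hωperp x).1,
      pself hQ e, heQ, heh, pcomm e x, (hPm x hx).1, mul_zero, zero_sub, mul_one, add_zero, neg_eq_zero] at h1
    exact h1
  obtain ⟨k, hk, hQk⟩ := exists_mult hQ hP (by omega) hadd hσ hzero
  -- the semilinear map
  obtain ⟨q, hq⟩ : ∃ q : V → V, q = fun v => v - pol Q v h • e - pol Q v e • h := ⟨_, rfl⟩
  have hqP : ∀ v, q v ∈ P := fun v => by
    rw [hq, hPdef]; exact pair_proj hQ Submodule.mem_top Submodule.mem_top heQ hhQ heh Submodule.mem_top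
  obtain ⟨T, hT⟩ : ∃ T : V → V, T = fun v => σ (pol Q v h) • E + (k * σ (pol Q v e)) • H + ω (q v) := ⟨_, rfl⟩
  have hqadd : ∀ v w, q (v + w) = q v + q w := fun v w => by simp only [hq, padd_left hQ, add_smul]; abel
  have hqsmul : ∀ (a : F) v, q (a • v) = a • q v := fun a v => by simp only [hq, psmul_left hQ, smul_sub, smul_smul]
  have hTadd : ∀ v w, T (v + w) = T v + T w := fun v w => by
    simp only [hT, padd_left hQ, map_add, hqadd, hadd _ (hqP v) _ (hqP w), mul_add, add_smul]; abel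
  have hTsmul : ∀ (a : F) v, T (a • v) = σ a • T v := fun a v => by
    simp only [hT, psmul_left hQ, map_mul, hqsmul, hσ a _ (hqP v), smul_add, smul_smul]
    rw [mul_left_comm k]
  have hTinj : Function.Injective T := fun v w e' => by
    have h1 := congrArg (fun x => pol Q x H) e'
    have h2 := congrArg (fun x => pol Q x E) e'
    simp only [hT, padd_left hQ, psmul_left hQ, hEH, pself hQ H, hHQ, pself hQ E, hEQ, pcomm H E, (hωperp _).1,
      (hωperp _).2, mul_zero, add_zero, zero_add, mul_one] at h1 h2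
    have h3 := σ.injective h1
    have h4 := σ.injective (mul_left_cancel₀ hk h2)
    have h5 : ω (q v) = ω (q w) := by
      simp only [hT, h3, h4] at e'
      exact add_left_cancel e'
    have h6 := hωinj _ (hqP v) _ (hqP w) h5
    simp only [hq, h3, h4, sub_left_inj] at h6
    exact h6
  have hTQ : ∀ v, Q (T v) = k * σ (Q v) := fun v => by
    have hdec : v = pol Q v h • e + pol Q v e • h + q v := by simp only [hq]; module
    have hqm := hPm _ (hqP v)
    rw [hT]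
    conv_rhs => rw [hdec]
    simp only [qadd hQ, qsmul hQ, padd_left hQ, psmul_left hQ, psmul_right hQ, hEQ, hHQ, hEH, pcomm E (ω (q v)),
      pcomm H (ω (q v)), (hωperp _).1, (hωperp _).2, heQ, hhQ, heh, pcomm e (q v), pcomm h (q v), hqm.1, hqm.2,
      hQk _ (hqP v), map_add, map_mul, mul_zero, add_zero, zero_add, mul_one]
    ring
  let L : V →ₗ[F] V :=
    { toFun := fun v => T fun i => σ.symm (v i)
      map_add' := fun v w => by
        rw [← hTadd]; congr 1; funext i; exact map_add σ.symm _ _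
      map_smul' := fun a v => by
        rw [RingHom.id_apply]
        conv_rhs => rw [← σ.apply_symm_apply a, ← hTsmul]
        congr 1; funext i; exact map_mul σ.symm _ _ }
  have hLinj : Function.Injective L := fun v w e' => funext fun i => σ.symm.injective (congrFun (hTinj e') i)
  obtain ⟨g, hg⟩ : ∃ g : GL ι F, (g : Matrix ι ι F) = LinearMap.toMatrix' L :=
    ⟨((Matrix.mulVec_injective_iff_isUnit (A := LinearMap.toMatrix' L)).1 (fun v w e' => hLinj (by
      simpa only [LinearMap.toMatrix'_mulVec] using e'))).unit, IsUnit.unit_spec _⟩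
  have hgT : ∀ v, semi g σ v = T v := fun v => by
    rw [semi, hg, LinearMap.toMatrix'_mulVec]
    show T _ = _
    simp only [σ.symm_apply_apply]
  refine ⟨g, σ, ⟨Units.mk0 k hk, fun v => (congrArg Q (hgT v)).trans (hTQ v)⟩, fun u hu0 huQ => ?_⟩
  rw [hgT]
  have hqh : q h = 0 := by
    simp only [hq, pself hQ h, hhQ, pcomm h e, heh, mul_zero, zero_smul, sub_zero, one_smul, sub_self]
  have hTh : T h = k • H := by
    simp only [hT, hqh, hω0, pself hQ h, hhQ, pcomm h e, heh, mul_zero, map_zero, zero_smul, map_one, mul_one,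
      zero_add, add_zero]
  have hchart : ∀ w ∈ P, T (p w) = nf w ∧ Prop1 (T (p w)) (f.toFun (p w)) := fun w hw => by
    have hpe : pol Q (p w) e = -Q w := by
      simp only [hp, padd_left hQ, psub_left hQ, psmul_left hQ, pself hQ e, heQ, pcomm h e, heh, (hPm w hw).1]
      ring
    have hqp : q (p w) = w := by simp only [hq, hph w hw, hpe]; simp only [hp]; module
    have h1 : T (p w) = nf w := by
      simp only [hT, hqp, hph w hw, hpe, map_one, one_smul, map_neg, mul_neg, neg_smul]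
      rw [hnfdec w hw, hQk w hw, sub_eq_add_neg]
    exact ⟨h1, h1 ▸ ⟨_, hμ w hw, hcoe w hw⟩⟩
  have hdec : u = pol Q u h • e + pol Q u e • h + q u := by simp only [hq]; module
  have hqm := hPm _ (hqP u)
  by_cases hx : pol Q u h = 0
  · by_cases hs : q u = 0
    · rw [hx, hs, zero_smul, zero_add, add_zero] at hdec
      have hy : pol Q u e ≠ 0 := fun e' => hu0 (by rw [hdec, e', zero_smul])
      obtain ⟨d, hd, hdu⟩ := (f.prop_iff h u hh0 hhQ hu0 huQ).2 ⟨_, hy, hdec⟩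
      refine Prop1.trans (v := H) ?_ ⟨d * c, mul_ne_zero hd hc0, by rw [hdu, hfh, smul_smul]⟩
      refine Prop1.symm ⟨σ (pol Q u e) * k, mul_ne_zero (by rw [Ne, map_eq_zero_iff σ σ.injective]; exact hy) hk, ?_⟩
      conv_lhs => rw [hdec, hTsmul, hTh, smul_smul]
    · -- a point at infinity
      rw [hx, zero_smul, zero_add] at hdec
      have hsQ : Q (q u) = 0 := by
        rw [hdec] at huQ
        simpa only [qadd hQ, qsmul hQ, psmul_left hQ, hhQ, pcomm h (q u), hqm.2, mul_zero, add_zero, zero_add] using huQ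
      obtain ⟨x, hxP, hxs⟩ := (hP _ (hqP u) hs).2
      obtain ⟨w, hw⟩ : ∃ w, w = (-pol Q u e / pol Q (q u) x) • x := ⟨_, rfl⟩
      have hwP : w ∈ P := hw ▸ P.smul_mem _ hxP
      have hwy : pol Q w (q u) = -pol Q u e := by
        rw [hw, psmul_left hQ, pcomm x (q u), div_mul_cancel₀ _ hxs]
      have hdiff : u = p (w + q u) - p w := by
        conv_lhs => rw [hdec]
        simp only [hp, qadd hQ, hsQ, add_zero, hwy]
        module
      have hporth : pol Q (p w) (p (w + q u)) = 0 := by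
        have h1 : pol Q (p w) u = 0 := by
          rw [hdec]
          simp only [hp, padd_left hQ, padd_right hQ, psub_left hQ, psmul_left hQ, psmul_right hQ, heh, pself hQ h,
            hhQ, pcomm e (q u), hqm.1, pcomm h (q u), hqm.2, (hPm w hwP).2, hwy]
          ring
        rw [hdiff, psub_right hQ, pself hQ, hpQ w hwP, mul_zero, sub_zero] at h1
        exact h1
      obtain ⟨α, β, hab⟩ := Submodule.mem_span_pair.1 (f.line _ _ u (hp0 w hwP) (hpQ w hwP)
        (hp0 _ (P.add_mem hwP (hqP u))) (hpQ _ (P.add_mem hwP (hqP u))) hporth hu0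
        (Submodule.mem_span_pair.2 ⟨-1, 1, by rw [neg_smul, one_smul, one_smul, neg_add_eq_sub]; exact hdiff.symm⟩))
      have hperpH : pol Q (f.toFun u) H = 0 := by
        have h1 := (f.orth_iff u h hu0 huQ hh0 hhQ).2 hx
        rw [hfh, psmul_right hQ] at h1
        exact (mul_eq_zero.1 h1).resolve_left hc0
      obtain ⟨α', hα'⟩ : ∃ x, x = α * pol Q (f.toFun (p w)) H := ⟨_, rfl⟩
      obtain ⟨β', hβ'⟩ : ∃ x, x = β * pol Q (f.toFun (p (w + q u))) H := ⟨_, rfl⟩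
      have hsum : α' + β' = 0 := by
        rw [hα', hβ', ← hperpH, ← hab, padd_left hQ, psmul_left hQ, psmul_left hQ]
      have hfu : f.toFun u = β' • T u := by
        rw [← hab, hcoe w hwP, hcoe _ (P.add_mem hwP (hqP u)), smul_smul, smul_smul, ← hα', ← hβ',
          ← (hchart w hwP).1, ← (hchart _ (P.add_mem hwP (hqP u))).1]
        have hTu : T u + T (p w) = T (p (w + q u)) := by rw [← hTadd]; exact congrArg T (eq_sub_iff_add_eq.1 hdiff)
        rw [eq_neg_of_add_eq_zero_left hsum, ← hTu]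
        module
      exact ⟨β', fun e' => f.ne_zero u hu0 huQ (by rw [hfu, e', zero_smul]), hfu⟩
  · obtain ⟨w, hw⟩ : ∃ w, w = (pol Q u h)⁻¹ • q u := ⟨_, rfl⟩
    have hwP : w ∈ P := hw ▸ P.smul_mem _ (hqP u)
    have hQu : pol Q u h * pol Q u e + Q (q u) = 0 := by
      rw [hdec] at huQ
      simp only [qadd hQ, qsmul hQ, padd_left hQ, psmul_left hQ, psmul_right hQ, heQ, hhQ, heh, pcomm e (q u), hqm.1,
        pcomm h (q u), hqm.2] at huQ
      linear_combination huQ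
    have hu' : u = pol Q u h • p w := by
      conv_lhs => rw [hdec]
      have hy : pol Q u e = pol Q u h * (-Q w) := by
        rw [hw, qsmul hQ]; field_simp; linear_combination hQu
      rw [hy, hp]
      simp only [hw, smul_add, smul_sub, smul_smul, mul_inv_cancel₀ hx, one_smul, mul_neg, neg_smul]
      abel
    have h1 : Prop1 (T u) (T (p w)) := Prop1.symm
      ⟨σ (pol Q u h), by rw [Ne, map_eq_zero_iff σ σ.injective]; exact hx, by
        conv_lhs => rw [hu', hTsmul]⟩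
    exact (h1.trans (hchart w hwP).2).trans
      ((f.prop_iff _ _ (hp0 w hwP) (hpQ w hwP) hu0 huQ).2 ⟨_, hx, hu'⟩)

end CfsgLib.Orth.Aut
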