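import Cfsg.Agent.Lib.Orth.Aut.Points
import Cfsg.Agent.Lib.Orth.Aut.PolarFund
import Cfsg.Agent.Lib.Orth.GammaMem

/-!
# Automorphisms of `POmega` come from semisimilarities
-/

set_option autoImplicit false
set_option linter.all false

namespace CfsgLib.Orth.Aut

open scoped Matrix
open Matrix Cfsg.Geo CfsgLib.Orth CfsgLib.Perm.Asch CfsgLib.Perm.Trans CfsgLib.Perm.Trans.Quad CfsgLib.ProjGeom

variable {ι : Type} [Fintype ι] [DecidableEq ι] {F : Type*} [Field F]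
variable {Q : (ι → F) → F}

local notation "pol" => QuadraticMap.polar
local notation "V" => (ι → F)

/-- two distinct lines share one point at most -/
theorem meet_unique {l l' : TSLine Q} (hne : l.1 ≠ l'.1) {a b : V} (ha : a ≠ 0) (hb : b ≠ 0) (hal : a ∈ l.1)
    (hal' : a ∈ l'.1) (hbl : b ∈ l.1) (hbl' : b ∈ l'.1) : Prop1 a b := by
  by_contra h
  have hli : LinearIndependent F ![a, b] := (LinearIndependent.pair_iff' ha).2 fun s hs =>
    h ⟨s, fun e => hb (by rw [← hs, e, zero_smul]), hs.symm⟩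
  exact hne ((span_eq_of_mem l.2.1 hal hbl hli).trans (span_eq_of_mem l'.2.1 hal' hbl' hli).symm)

variable [Fintype F] (hQ : IsNondegenerateQuadraticForm Q)
include hQ

/-- singular vectors are orthogonal iff they lie on a common line -/
theorem orth_iff_line (hn : 7 ≤ Fintype.card ι) {u v : V} (hu0 : u ≠ 0) (hu : Q u = 0) (hv0 : v ≠ 0) (hv : Q v = 0) :
    pol Q u v = 0 ↔ ∃ m : TSLine Q, u ∈ m.1 ∧ v ∈ m.1 := by
  refine ⟨fun h => ?_, fun ⟨m, h1, h2⟩ => perp_self hQ m.2.2 u h1 v h2⟩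
  by_cases hc : ∃ c : F, c • u = v
  · obtain ⟨c, rfl⟩ := hc
    obtain ⟨l, -, -, hul, -, -⟩ := exists_star_pair hQ hn hu0 hu
    exact ⟨l, hul, l.1.smul_mem c hul⟩
  · have hli : LinearIndependent F ![u, v] := (LinearIndependent.pair_iff' hu0).2 fun s hs => hc ⟨s, hs⟩
    exact ⟨mkLine hQ hli hu hv h, Submodule.subset_span (by simp), Submodule.subset_span (by simp)⟩

/-- the point map of an automorphism -/
theorem exists_pointMap (hn : 7 ≤ Fintype.card ι) (hT : NotTriality Q) (β : MulAut (Cfsg.POmega F Q)) :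
    ∃ f : PointMap Q, ∀ u, u ≠ 0 → Q u = 0 → ∀ m : TSLine Q, u ∈ m.1 ↔ f.toFun u ∈ (lineMap hQ hn β m).1 := by
  classical
  obtain ⟨f, hf⟩ : ∃ f : V → V, ∀ u, u ≠ 0 → Q u = 0 →
      f u ≠ 0 ∧ Q (f u) = 0 ∧ ∀ m : TSLine Q, u ∈ m.1 ↔ f u ∈ (lineMap hQ hn β m).1 := by
    refine ⟨fun u => if h : u ≠ 0 ∧ Q u = 0 then Classical.choose (exists_image_point hQ hn hT β h.1 h.2) else u,
      fun u hu0 hu => ?_⟩
    beta_reduce
    rw [dif_pos ⟨hu0, hu⟩]
    exact Classical.choose_spec (exists_image_point hQ hn hT β hu0 hu)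
  have hb := lineMap_bijective hQ hn β
  have hne : ∀ {l l' : TSLine Q}, l.1 ≠ l'.1 → (lineMap hQ hn β l).1 ≠ (lineMap hQ hn β l').1 := fun h e =>
    h (congrArg Subtype.val (hb.1 (Subtype.ext e)))
  have hprop : ∀ u v, u ≠ 0 → Q u = 0 → v ≠ 0 → Q v = 0 → (Prop1 (f u) (f v) ↔ Prop1 u v) := by
    intro u v hu0 hu hv0 hv
    obtain ⟨hfu0, hfu, hsu⟩ := hf u hu0 hu
    obtain ⟨hfv0, hfv, hsv⟩ := hf v hv0 hv
    obtain ⟨l, l', hll, hul, hul', -⟩ := exists_star_pair hQ hn hu0 hu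
    constructor
    · intro h
      exact meet_unique hll hu0 hv0 hul hul' ((hsv l).2 ((h.mem_iff _).2 ((hsu l).1 hul)))
        ((hsv l').2 ((h.mem_iff _).2 ((hsu l').1 hul')))
    · intro h
      exact meet_unique (hne hll) hfu0 hfv0 ((hsu l).1 hul) ((hsu l').1 hul') ((hsv l).1 ((h.mem_iff _).2 hul))
        ((hsv l').1 ((h.mem_iff _).2 hul'))
  refine ⟨⟨f, fun u h0 h => (hf u h0 h).1, fun u h0 h => (hf u h0 h).2.1, hprop, fun u v hu0 hu hv0 hv => ?_,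
    fun u v w hu0 hu hv0 hv huv hw0 hw => ?_, fun w hw0 hw => ?_⟩, fun u hu0 hu => (hf u hu0 hu).2.2⟩
  · obtain ⟨hfu0, hfu, hsu⟩ := hf u hu0 hu
    obtain ⟨hfv0, hfv, hsv⟩ := hf v hv0 hv
    rw [orth_iff_line hQ hn hu0 hu hv0 hv, orth_iff_line hQ hn hfu0 hfu hfv0 hfv]
    constructor
    · rintro ⟨M, h1, h2⟩
      obtain ⟨m, rfl⟩ := hb.2 M
      exact ⟨m, (hsu m).2 h1, (hsv m).2 h2⟩
    · rintro ⟨m, h1, h2⟩
      exact ⟨_, (hsu m).1 h1, (hsv m).1 h2⟩
  · have hwQ : Q w = 0 := span_pair_singular hQ hu hv huv w hw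
    obtain ⟨-, -, hsu⟩ := hf u hu0 hu
    obtain ⟨-, -, hsv⟩ := hf v hv0 hv
    obtain ⟨-, -, hsw⟩ := hf w hw0 hwQ
    by_cases hc : ∃ c : F, c • u = v
    · obtain ⟨c, rfl⟩ := hc
      obtain ⟨s, t, rfl⟩ := Submodule.mem_span_pair.1 hw
      obtain ⟨d, -, hd⟩ := (hprop u _ hu0 hu hw0 hwQ).2
        ⟨s + t * c, fun e => hw0 (by rw [smul_smul, ← add_smul, e, zero_smul]), by rw [smul_smul, ← add_smul]⟩
      rw [hd]
      exact Submodule.smul_mem _ _ (Submodule.subset_span (by simp))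
    · have hli : LinearIndependent F ![u, v] := (LinearIndependent.pair_iff' hu0).2 fun s hs => hc ⟨s, hs⟩
      obtain ⟨m, hm⟩ : ∃ m : TSLine Q, m.1 = Submodule.span F {u, v} := ⟨mkLine hQ hli hu hv huv, rfl⟩
      have h1 : f u ∈ (lineMap hQ hn β m).1 := (hsu m).1 (hm ▸ Submodule.subset_span (by simp))
      have h2 : f v ∈ (lineMap hQ hn β m).1 := (hsv m).1 (hm ▸ Submodule.subset_span (by simp))
      have hli' : LinearIndependent F ![f u, f v] := (LinearIndependent.pair_iff' (hf u hu0 hu).1).2 fun s hs => by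
        obtain ⟨d, -, hd⟩ := (hprop u v hu0 hu hv0 hv).1
          ⟨s, fun e => (hf v hv0 hv).1 (by rw [← hs, e, zero_smul]), hs.symm⟩
        exact hc ⟨d, hd.symm⟩
      rw [← span_eq_of_mem (lineMap hQ hn β m).2.1 h1 h2 hli']
      exact (hsw m).1 (hm ▸ hw)
  · obtain ⟨u, hu0, hu, hstar⟩ := exists_image_point hQ hn hT β.symm hw0 hw
    obtain ⟨l, l', hll, hwl, hwl', -⟩ := exists_star_pair hQ hn hw0 hw
    obtain ⟨hfu0, -, hsu⟩ := hf u hu0 hu
    refine ⟨u, hu0, hu, ?_⟩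
    have key : ∀ m : TSLine Q, w ∈ m.1 → f u ∈ m.1 := fun m hm => by
      have h1 := (hsu _).1 ((hstar m).1 hm)
      have e : lineMap hQ hn β (lineMap hQ hn β.symm m) = m := by
        have h := lineMap_symm hQ hn β.symm m
        rwa [MulEquiv.symm_symm] at h
      rwa [e] at h1
    exact meet_unique hll hw0 hfu0 hwl hwl' (key l hwl) (key l' hwl')

theorem RootAt.conj {x : Cfsg.POmega F Q} {l : Submodule F V} (h : RootAt Q x l) (t : Cfsg.Omega F Q) :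
    RootAt Q (QuotientGroup.mk' (Subgroup.center (Cfsg.Omega F Q)) t * x *
      (QuotientGroup.mk' (Subgroup.center (Cfsg.Omega F Q)) t)⁻¹) (l.map (Matrix.mulVecLin (omv t : Matrix ι ι F))) := by
  obtain ⟨s, hs, rfl, rfl⟩ := h
  exact ⟨t * s * t⁻¹, hs.conj (omv_iso t), rline_conj _ _, by rw [map_mul, map_mul, map_inv]⟩

/-- every automorphism is induced by a semisimilarity -/
theorem exists_ind (hn : 7 ≤ Fintype.card ι) (hT : NotTriality Q) (β : MulAut (Cfsg.POmega F Q)) :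
    ∃ (g : GL ι F) (σ : F ≃+* F) (h : Cfsg.IsSemisimilarityPair Q g σ), β = ind h := by
  obtain ⟨f, hf⟩ := exists_pointMap hQ hn hT β
  obtain ⟨g, σ, h, hgf⟩ := exists_semisim hQ hn f
  refine ⟨g, σ, h, MulEquiv.ext fun x => ?_⟩
  obtain ⟨X, rfl⟩ := QuotientGroup.mk'_surjective _ x
  obtain ⟨Y, hY⟩ := QuotientGroup.mk'_surjective _ (β (QuotientGroup.mk' _ X))
  rw [← hY]
  show (QuotientGroup.mk Y : Cfsg.POmega F Q) = QuotientGroup.mk (omegaAut h X)
  -- both lifts send each singular point to the same place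
  have hmove : ∀ u, u ≠ 0 → Q u = 0 →
      Prop1 ((omv Y : Matrix ι ι F) *ᵥ f.toFun u) (f.toFun ((omv X : Matrix ι ι F) *ᵥ u)) := by
    intro u hu0 hu
    have hXi := omv_iso (Q := Q) X
    have hXu0 : (omv X : Matrix ι ι F) *ᵥ u ≠ 0 := fun e => hu0 (by
      have := congrArg (((omv X)⁻¹ : GL ι F).1 *ᵥ ·) e
      simpa only [gl_inv_mulVec, Matrix.mulVec_zero] using this)
    have hXuQ : Q ((omv X : Matrix ι ι F) *ᵥ u) = 0 := (hXi u 0).trans hu
    obtain ⟨l, l', hll, hul, hul', -⟩ := exists_star_pair hQ hn hu0 hu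
    have himg : ∀ m : TSLine Q, u ∈ m.1 → ∃ m' : TSLine Q,
        m'.1 = m.1.map (Matrix.mulVecLin (omv X : Matrix ι ι F)) ∧
          (lineMap hQ hn β m').1 = (lineMap hQ hn β m).1.map (Matrix.mulVecLin (omv Y : Matrix ι ι F)) := by
      intro m _
      obtain ⟨x, hx⟩ := exists_rootAt hQ (by omega) m
      have hcx := RootAt.conj hQ hx X
      refine ⟨⟨_, hcx.line hQ⟩, rfl, ?_⟩
      have h1 := lineMap_spec hQ hn β ⟨_, hcx.line hQ⟩ hcx
      have h2 := RootAt.conj hQ (lineMap_spec hQ hn β m hx) Y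
      rw [map_mul, map_mul, map_inv, ← hY] at h1
      exact RootAt.unique hQ (by omega) h1 h2
    obtain ⟨k, hk, hk'⟩ := himg l hul
    obtain ⟨k', hk2, hk2'⟩ := himg l' hul'
    have hkk : k.1 ≠ k'.1 := fun e => hll (Submodule.map_injective_of_injective
      (f := Matrix.mulVecLin (omv X : Matrix ι ι F)) (Matrix.mulVec_injective_iff_isUnit.2 (omv X).isUnit)
      (by rw [← hk, e, hk2]))
    have hYne : (omv Y : Matrix ι ι F) *ᵥ f.toFun u ≠ 0 := fun e => f.ne_zero u hu0 hu (by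
      have := congrArg (((omv Y)⁻¹ : GL ι F).1 *ᵥ ·) e
      simpa only [gl_inv_mulVec, Matrix.mulVec_zero] using this)
    refine meet_unique (fun e => hkk (congrArg Subtype.val ((lineMap_bijective hQ hn β).1 (Subtype.ext e))))
      hYne (f.ne_zero _ hXu0 hXuQ) ?_ ?_ ((hf _ hXu0 hXuQ k).1 ?_) ((hf _ hXu0 hXuQ k').1 ?_)
    · rw [hk']; exact ⟨_, (hf u hu0 hu l).1 hul, rfl⟩
    · rw [hk2']; exact ⟨_, (hf u hu0 hu l').1 hul', rfl⟩
    · rw [hk]; exact ⟨_, hul, rfl⟩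
    · rw [hk2]; exact ⟨_, hul', rfl⟩
  obtain ⟨Z, hZ⟩ : ∃ Z, Z = Y⁻¹ * omegaAut h X := ⟨_, rfl⟩
  have hsemi : ∀ v, (omv (omegaAut h X) : Matrix ι ι F) *ᵥ semi g σ v = semi g σ ((omv X : Matrix ι ι F) *ᵥ v) :=
    fun v => semiConj_semi g σ X.1.1 v
  have hfix : ∀ w, w ≠ 0 → Q w = 0 → ∃ c : F, (omv Z : Matrix ι ι F) *ᵥ w = c • w := by
    intro w hw0 hw
    obtain ⟨u, hu0, hu, hwu⟩ := f.surj w hw0 hw
    obtain ⟨d, hd, hdw⟩ := hwu.trans (hgf u hu0 hu).symm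
    obtain ⟨d', hd', hdw'⟩ := hwu
    obtain ⟨a, ha, hau⟩ := hgf ((omv X : Matrix ι ι F) *ᵥ u) (fun e => hu0 (by
      have := congrArg (((omv X)⁻¹ : GL ι F).1 *ᵥ ·) e
      simpa only [gl_inv_mulVec, Matrix.mulVec_zero] using this)) ((omv_iso (Q := Q) X u 0).trans hu)
    obtain ⟨b, hb, hbu⟩ := hmove u hu0 hu
    refine ⟨d⁻¹ * (a⁻¹ * (b * d')), ?_⟩
    have e1 : (omv (omegaAut h X) : Matrix ι ι F) *ᵥ (d • w) = a⁻¹ • b • (omv Y : Matrix ι ι F) *ᵥ (d' • w) := by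
      rw [← hdw, hsemi, ← hdw', ← hbu, hau, inv_smul_smul₀ ha]
    rw [Matrix.mulVec_smul, Matrix.mulVec_smul] at e1
    rw [hZ]
    show ((omv Y)⁻¹ * omv (omegaAut h X) : GL ι F).1 *ᵥ w = _
    rw [gl_mul_mulVec, ← inv_smul_smul₀ hd ((omv (omegaAut h X) : Matrix ι ι F) *ᵥ w), e1]
    simp only [smul_smul, Matrix.mulVec_smul, gl_inv_mulVec, mul_assoc]
  obtain ⟨-, c, hc⟩ := semi_scalar_of_fix hQ (by omega) (T := fun v => (omv Z : Matrix ι ι F) *ᵥ v)
    (σ := RingEquiv.refl F) (fun _ _ => Matrix.mulVec_add _ _ _) (fun _ _ => Matrix.mulVec_smul _ _ _)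
    (fun v e => by
      have := congrArg (((omv Z)⁻¹ : GL ι F).1 *ᵥ ·) e
      simpa only [gl_inv_mulVec, Matrix.mulVec_zero] using this) hfix
  refine QuotientGroup.eq.2 (Subgroup.mem_center_iff.2 fun B => omv_injective (Units.ext ?_))
  rw [← hZ]
  have hscal : (omv Z : Matrix ι ι F) = c • 1 := Matrix.ext_iff_mulVec.2 fun v => by
    rw [Matrix.smul_mulVec, Matrix.one_mulVec]; exact hc v
  show (omv B : Matrix ι ι F) * omv Z = omv Z * omv B
  rw [hscal, mul_smul_comm, mul_one, smul_mul_assoc, one_mul]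

/-- outside triality the automorphism group is the image of the semisimilarity group -/
theorem gammaPOmega_top (hn : 7 ≤ Fintype.card ι) (hT : NotTriality Q) : Cfsg.gammaPOmega F Q = ⊤ := by
  rw [gammaPOmega_eq, eq_top_iff]
  intro β _
  obtain ⟨g, σ, h, rfl⟩ := exists_ind hQ hn hT β
  exact ⟨g, σ, h, rfl⟩

end CfsgLib.Orth.Aut
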