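import Cfsg.Agent.Lib.Orth.GammaMem
import Cfsg.Agent.Lib.Orth.PGO
import Cfsg.Agent.Lib.Orth.Centre
import Cfsg.Agent.Lib.Orth.Facts
import Cfsg.Agent.Lib.AutPSL.Field
import Cfsg.Prelude.Def_KGroupFacts

/-!
# Orders: semisimilarity automorphisms and inner automorphisms
-/

set_option autoImplicit false
set_option linter.all false

namespace CfsgLib.Orth

open Matrix Cfsg.Geo CfsgLib.Perm.Trans CfsgLib.Perm.Trans.Quad

variable {ι : Type} [Fintype ι] [DecidableEq ι] {F : Type*} [Field F] [Fintype F] {Q : (ι → F) → F}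
  (hQ : IsNondegenerateQuadraticForm Q)
include hQ

theorem pomega_center_bot (hn : 5 ≤ Fintype.card ι) : Subgroup.center (Cfsg.POmega F Q) = ⊥ := by
  haveI := pomega_isSimple hQ hn
  refine ((Subgroup.Normal.eq_bot_or_eq_top (inferInstanceAs (Subgroup.center (Cfsg.POmega F Q)).Normal)).resolve_right
    fun h => ?_)
  have hperf : commutator (Cfsg.POmega F Q) = ⊤ := by
    rw [commutator_def, ← Subgroup.map_top_of_surjective (QuotientGroup.mk' (Subgroup.center (Cfsg.Omega F Q)))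
      (QuotientGroup.mk'_surjective _), ← Subgroup.map_commutator, ← commutator_def, omega_perfect hQ hn]
  have h1 : commutator (Cfsg.POmega F Q) = ⊥ := by
    rw [commutator_def, Subgroup.commutator_eq_bot_iff_le_centralizer, Subgroup.coe_top, Subgroup.centralizer_univ, h]
  exact bot_ne_top (h1.symm.trans hperf)

theorem card_inn (hn : 5 ≤ Fintype.card ι) :
    Nat.card ↥(Cfsg.Inn (Cfsg.POmega F Q)) = Nat.card (Cfsg.POmega F Q) := by
  refine (Nat.card_congr (MonoidHom.ofInjective (f := (MulAut.conj : Cfsg.POmega F Q →* MulAut (Cfsg.POmega F Q))) ?_).toEquiv).symm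
  refine (injective_iff_map_eq_one _).2 fun g hg => ?_
  have hg' : g ∈ Subgroup.center (Cfsg.POmega F Q) := Subgroup.mem_center_iff.2 fun x => by
    have := DFunLike.congr_fun hg x
    rw [MulAut.conj_apply, MulAut.one_apply, mul_inv_eq_iff_eq_mul] at this
    exact this.symm
  rwa [pomega_center_bot hQ hn] at hg'

/-- equal induced automorphisms have the same field automorphism and proportional matrices -/
theorem ind_inj (hn : 5 ≤ Fintype.card ι) {g g' : GL ι F} {σ σ' : F ≃+* F} {h : Cfsg.IsSemisimilarityPair Q g σ}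
    {h' : Cfsg.IsSemisimilarityPair Q g' σ'} (e : ind h = ind h') :
    σ = σ' ∧ ∃ c : F, (g : Matrix ι ι F) = c • (g' : Matrix ι ι F) := by
  have h1 : ind (semisim_mul (semisim_inv h') h) = 1 := by
    rw [← ind_mul (semisim_inv h') h, e, ind_mul,
      ind_congr _ (semisim_one (Q := Q)) (by rw [← map_mul, inv_mul_cancel, map_one]) (RingEquiv.self_trans_symm σ'),
      ind_one]
  obtain ⟨hσ, c, hc⟩ := ind_eq_one hQ hn _ h1
  have hσσ : σ = σ' := RingEquiv.ext fun x => σ'.symm.injective ((DFunLike.congr_fun hσ x).trans (σ'.symm_apply_apply x).symm)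
  refine ⟨hσσ, σ' c, ?_⟩
  have h2 : fieldGL σ'.symm (g'⁻¹ * g) = fieldGL σ'.symm g'⁻¹ * fieldGL σ'.symm g := map_mul _ _ _
  rw [← h2, fieldGL_coe] at hc
  have h3 : ((g'⁻¹ * g : GL ι F) : Matrix ι ι F) = σ' c • 1 := Matrix.ext fun i j => by
    have h4 := congrArg σ' (congrFun (congrFun hc i) j)
    simp only [Matrix.map_apply, σ'.apply_symm_apply, Matrix.smul_apply, smul_eq_mul, map_mul] at h4
    rw [h4, Matrix.smul_apply, smul_eq_mul]
    congr 1
    by_cases hij : i = j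
    · rw [hij, Matrix.one_apply_eq, map_one]
    · rw [Matrix.one_apply_ne hij, map_zero]
  rw [show g = g' * (g'⁻¹ * g) by group, Units.val_mul, h3, mul_smul_comm, mul_one]

/-- when every field automorphism occurs, the semisimilarity group is an extension of `PGO` by `Gal` -/
theorem card_gammaSub (hn : 5 ≤ Fintype.card ι) (hlift : ∀ σ : F ≃+* F, ∃ g, Cfsg.IsSemisimilarityPair Q g σ) :
    Nat.card ↥(gammaSub Q) = Nat.card ↥(Cfsg.pgoAut F Q) * Nat.card (RingAut F) := by
  choose G hG using hlift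
  rw [pgoAut_eq, ← Nat.card_prod]
  have hmem : ∀ g, simHom Q g ∈ gammaSub Q := fun g => ⟨g.1, _, sim_pair g.2, rfl⟩
  refine (Nat.card_eq_of_bijective (fun x : ↥(simHom Q).range × RingAut F =>
    (⟨x.1.1 * ind (hG x.2), (gammaSub Q).mul_mem (by obtain ⟨g, hg⟩ := x.1.2; exact hg ▸ hmem g) ⟨_, _, hG x.2, rfl⟩⟩ :
      ↥(gammaSub Q))) ⟨?_, ?_⟩).symm
  · rintro ⟨⟨_, a, rfl⟩, σ⟩ ⟨⟨_, b, rfl⟩, τ⟩ e
    have e' : ind (sim_pair a.2) * ind (hG σ) = ind (sim_pair b.2) * ind (hG τ) := congrArg Subtype.val e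
    obtain rfl : σ = τ := by
      have e'' := e'
      rw [ind_mul, ind_mul] at e''
      exact RingEquiv.ext fun x => DFunLike.congr_fun (ind_inj hQ hn e'').1 x
    exact Prod.ext (Subtype.ext (mul_right_cancel e')) rfl
  · rintro ⟨_, g, σ, h, rfl⟩
    obtain ⟨c, hc⟩ := h
    obtain ⟨d, hd⟩ := hG σ
    have hcd : g * (G σ)⁻¹ ∈ Cfsg.Geo.quadSimilarityGroup (F := F) Q := by
      refine ⟨c * d⁻¹, fun v => ?_⟩
      obtain ⟨w, rfl⟩ := semi_surjective (G σ) σ v
      show Q (((g * (G σ)⁻¹ : GL ι F) : Matrix ι ι F) *ᵥ ((G σ : Matrix ι ι F) *ᵥ fun i => σ (w i))) =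
        _ * Q ((G σ : Matrix ι ι F) *ᵥ fun i => σ (w i))
      rw [gl_mul_mulVec, gl_inv_mulVec, hc, hd, Units.val_mul, mul_assoc, Units.inv_mul_cancel_left]
    refine ⟨⟨⟨_, ⟨_, hcd⟩, rfl⟩, σ⟩, Subtype.ext ?_⟩
    show ind (sim_pair hcd) * ind (hG σ) = ind _
    rw [ind_mul]
    exact ind_congr _ _ (by rw [fieldGL_refl, inv_mul_cancel_right]) (RingEquiv.ext fun x => rfl)

/-- when every multiplier is a square, `PGO = PO` -/
theorem card_pgo_mul (hn : 5 ≤ Fintype.card ι)
    (hsq : ∀ g : ↥(Cfsg.Geo.quadSimilarityGroup (F := F) Q), IsSquare (simMult hQ (by omega) g : F)) :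
    Nat.card ↥(Cfsg.pgoAut F Q) * Nat.card ({c : F | c ^ 2 = 1} : Set F) = Nat.card ↥(Cfsg.isometryGroup F Q) := by
  let f : ↥(Cfsg.isometryGroup F Q) →* MulAut (Cfsg.POmega F Q) :=
    (simHom Q).comp (Subgroup.inclusion fun g hg => iso_sim hg)
  have hr : f.range = Cfsg.pgoAut F Q := by
    rw [pgoAut_eq]
    refine le_antisymm (by rintro _ ⟨g, rfl⟩; exact ⟨_, rfl⟩) ?_
    rintro _ ⟨g, rfl⟩
    obtain ⟨t, ht⟩ := hsq g
    have ht0 : t ≠ 0 := fun e => (simMult hQ (by omega) g).ne_zero (by rw [ht, e, mul_zero])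
    obtain ⟨g', hg'⟩ : ∃ g', g' = g * scalarSim hQ (Units.mk0 t ht0)⁻¹ := ⟨_, rfl⟩
    have hm : simMult hQ (by omega) g' = 1 := by
      rw [hg', map_mul, simMult_scalar]
      exact Units.ext (by push_cast; rw [ht, Units.val_mk0]; field_simp)
    refine ⟨⟨g'.1, (simMult_eq_one_iff hQ (by omega) g').1 hm⟩, ?_⟩
    show simHom Q g' = simHom Q g
    rw [hg', map_mul, scalar_mem_simHom_ker hQ hn, mul_one]
  have hne : Nonempty ι := Fintype.card_pos_iff.1 (by omega)
  obtain ⟨i⟩ := hne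
  have hentry : ∀ a : ↥f.ker, ((a.1.1 : GL ι F) : Matrix ι ι F) = ((a.1.1 : GL ι F) : Matrix ι ι F) i i • 1 ∧
      ((a.1.1 : GL ι F) : Matrix ι ι F) i i ^ 2 = 1 := fun a => by
    obtain ⟨c, hc⟩ := (simHom_ker hQ hn ⟨a.1.1, iso_sim a.1.2⟩).1 a.2
    have he : ((a.1.1 : GL ι F) : Matrix ι ι F) i i = c := by
      rw [show ((a.1.1 : GL ι F) : Matrix ι ι F) = c • 1 from hc, Matrix.smul_apply, Matrix.one_apply_eq, smul_eq_mul, mul_one]
    refine ⟨he ▸ hc, ?_⟩
    obtain ⟨v, hv⟩ := exists_ns hQ (by omega)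
    have h1 := mem_iso.1 a.1.2 v
    rw [show ((a.1.1 : GL ι F) : Matrix ι ι F) = c • 1 from hc, smul_mulVec, one_mulVec, qsmul hQ] at h1
    rw [he]
    exact mul_right_cancel₀ hv (by rw [h1, one_mul])
  have hk : Nat.card ↥f.ker = Nat.card ({c : F | c ^ 2 = 1} : Set F) := by
    refine Nat.card_eq_of_bijective (fun a => ⟨_, (hentry a).2⟩) ⟨fun a b e => ?_, fun ⟨c, hc⟩ => ?_⟩
    · exact Subtype.ext (Subtype.ext (Units.ext (by
        rw [(hentry a).1, (hentry b).1]; exact congrArg (fun x => x • 1) (congrArg Subtype.val e))))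
    · have hc0 : c ≠ 0 := fun e => by simp [e] at hc
      have hm : (scalarSim hQ (Units.mk0 c hc0)).1 ∈ Cfsg.isometryGroup F Q :=
        (simMult_eq_one_iff hQ (by omega) _).1 (by
          rw [simMult_scalar]; exact Units.ext (by push_cast; rw [← sq]; exact hc))
      refine ⟨⟨⟨_, hm⟩, scalar_mem_simHom_ker hQ hn _⟩, Subtype.ext ?_⟩
      show ((scalarSim hQ (Units.mk0 c hc0)).1 : Matrix ι ι F) i i = c
      rw [scalarSim_coe, Matrix.smul_apply, Matrix.one_apply_eq, smul_eq_mul, mul_one, Units.val_mk0]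
  rw [← hr, ← hk, ← Subgroup.index_ker, mul_comm, Subgroup.card_mul_index]

/-- in characteristic two `PGO` is twice `POmega` -/
theorem card_pgo_two (hn : 5 ≤ Fintype.card ι) (h : (2 : F) = 0) :
    Nat.card ↥(Cfsg.pgoAut F Q) = 2 * Nat.card (Cfsg.POmega F Q) := by
  haveI : CharP F 2 := CharTwo.of_one_ne_zero_of_two_eq_zero one_ne_zero h
  have h1 := card_pgo_mul hQ hn fun g => isSquare_of_two h _
  have hone : ({c : F | c ^ 2 = 1} : Set F) = {1} := Set.ext fun c => by
    simp only [Set.mem_setOf_eq, Set.mem_singleton_iff]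
    exact ⟨fun h => CharTwo.sq_injective (h.trans (one_pow 2).symm), fun h => by rw [h]; ring⟩
  have h2 := card_pomega_mul hQ (by omega) (Or.inr (by omega))
  rw [card_center_omega_two hQ hn h, card_sqClass_two h] at h2
  rw [hone, Nat.card_coe_set_eq, Set.ncard_singleton, mul_one] at h1
  rw [h1, ← h2]; ring

/-- in odd dimension over odd fields `PGO` is twice `POmega` -/
theorem card_pgo_odd (hn : 5 ≤ Fintype.card ι) (h2 : (2 : F) ≠ 0) (hodd : Odd (Fintype.card ι)) :
    Nat.card ↥(Cfsg.pgoAut F Q) = 2 * Nat.card (Cfsg.POmega F Q) := by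
  have h1 := card_pgo_mul hQ hn fun g => by
    obtain ⟨j, hj⟩ := hodd
    have hd := (det_sq_sim hQ (g := (g.1 : Matrix ι ι F)) (simMult_spec hQ (by omega) g)).trans
      (congrArg (fun k => (simMult hQ (by omega) g : F) ^ k) hj)
    rw [pow_succ, pow_mul'] at hd
    refine ⟨(g.1 : Matrix ι ι F).det / (simMult hQ (by omega) g : F) ^ j, ?_⟩
    field_simp
    linear_combination -hd
  have hpair : ({c : F | c ^ 2 = 1} : Set F) = {1, -1} := Set.ext fun c => by
    simp only [Set.mem_setOf_eq, Set.mem_insert_iff, Set.mem_singleton_iff]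
    exact sq_eq_one_iff
  have hne : (1 : F) ≠ -1 := fun e => h2 (by linear_combination e)
  rw [hpair, Nat.card_coe_set_eq, Set.ncard_pair hne] at h1
  have hno : ¬ ∃ g : ↥(Cfsg.isometryGroup F Q), g ∈ Cfsg.Omega F Q ∧ ((g : GL ι F) : Matrix ι ι F) = -1 := by
    rintro ⟨g, hg, hgm⟩
    have hd : ((g : GL ι F) : Matrix ι ι F).det = 1 := by
      have hle : Cfsg.Omega F Q ≤ ((Matrix.GeneralLinearGroup.det).comp (Cfsg.isometryGroup F Q).subtype).ker :=
        Abelianization.commutator_subset_ker _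
      exact congrArg Units.val (hle hg)
    rw [hgm, Matrix.det_neg, Matrix.det_one, hodd.neg_one_pow, mul_one] at hd
    exact hne hd.symm
  have h3 := card_pomega_mul hQ (by omega) (hex_of_two h2)
  rw [card_center_omega_of_not hQ hn hno, card_sqClass_odd h2] at h3
  omega

omit hQ in
/-- coordinatewise field automorphisms -/
theorem semisim_field {σ : F ≃+* F} (h : ∀ v, Q (fun i => σ (v i)) = σ (Q v)) :
    Cfsg.IsSemisimilarityPair Q (1 : GL ι F) σ :=
  ⟨1, fun v => by rw [Units.val_one, Matrix.one_mulVec, Units.val_one, one_mul, h]⟩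

omit hQ in
theorem quadFormOdd_field {m : ℕ} (σ : F ≃+* F) (v : Unit ⊕ (Fin m ⊕ Fin m) → F) :
    Cfsg.quadFormOdd m F (fun i => σ (v i)) = σ (Cfsg.quadFormOdd m F v) := by
  simp [Cfsg.quadFormOdd, map_sum]

omit hQ in
theorem quadFormPlus_field {m : ℕ} (σ : F ≃+* F) (v : Fin m ⊕ Fin m → F) :
    Cfsg.quadFormPlus m F (fun i => σ (v i)) = σ (Cfsg.quadFormPlus m F v) := by
  simp [Cfsg.quadFormPlus, map_sum]

end CfsgLib.Orth
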