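import Cfsg.Agent.Lib.Orth.Aut.Card
import Cfsg.Agent.Lib.Perm.Trans.QuadStd

/-!
# The forms of minus type over one field are isometric
-/

set_option autoImplicit false
set_option linter.all false

namespace CfsgLib.Orth

open Matrix Cfsg.Geo CfsgLib.Perm.Trans CfsgLib.Perm.Trans.Quad

variable {F : Type*} [Field F] [Fintype F]

/-- any two anisotropic binary forms `x² + a x y + b y²` are equivalent -/
theorem exists_binary_equiv {a b a' b' : F}
    (hab : ∀ z₁ z₂ : F, z₁ ^ 2 + a * z₁ * z₂ + b * z₂ ^ 2 = 0 → z₁ = 0 ∧ z₂ = 0)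
    (hab' : ∀ z₁ z₂ : F, z₁ ^ 2 + a' * z₁ * z₂ + b' * z₂ ^ 2 = 0 → z₁ = 0 ∧ z₂ = 0) :
    ∃ u₀ u₁ : F, 2 * u₀ + a * u₁ = a' ∧ u₀ ^ 2 + a * u₀ * u₁ + b * u₁ ^ 2 = b' := by
  by_cases h2 : (2 : F) = 0
  · haveI : CharP F 2 := CharTwo.of_one_ne_zero_of_two_eq_zero one_ne_zero h2
    have hne : ∀ {a b : F}, (∀ z₁ z₂ : F, z₁ ^ 2 + a * z₁ * z₂ + b * z₂ ^ 2 = 0 → z₁ = 0 ∧ z₂ = 0) →
        a ≠ 0 ∧ ∀ x : F, x ^ 2 + x ≠ b / a ^ 2 := by
      intro a b hab
      have ha : a ≠ 0 := fun e => by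
        obtain ⟨t, ht⟩ := isSquare_of_two h2 b
        exact one_ne_zero (hab t 1 (by subst e; linear_combination ht + t * t * h2)).2
      refine ⟨ha, fun x hx => one_ne_zero (hab (a * x) 1 ?_).2⟩
      have hb : b = a ^ 2 * (x ^ 2 + x) := by rw [hx]; field_simp
      rw [hb]
      linear_combination (a ^ 2 * x ^ 2 + a ^ 2 * x) * h2
    obtain ⟨ha, hb⟩ := hne hab
    obtain ⟨ha', hb'⟩ := hne hab'
    let φ : F →+ F :=
      { toFun := fun x => x ^ 2 + x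
        map_zero' := by ring
        map_add' := fun x y => by rw [CharTwo.add_sq]; ring }
    have hk : φ.ker.carrier = ({0, 1} : Set F) := Set.ext fun x => by
      show x ^ 2 + x = 0 ↔ x ∈ ({0, 1} : Set F)
      rw [show x ^ 2 + x = x * (x + 1) by ring, mul_eq_zero, Set.mem_insert_iff, Set.mem_singleton_iff, CharTwo.add_eq_zero]
    have hkc : Nat.card φ.ker = 2 := by
      show Nat.card φ.ker.carrier = 2
      rw [hk, Nat.card_coe_set_eq, Set.ncard_pair zero_ne_one]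
    have hidx : φ.range.index = 2 := by
      have h1 := φ.range.card_mul_index
      have h3 := φ.ker.card_mul_index
      rw [AddSubgroup.index_ker, hkc] at h3
      have hpos : 0 < Nat.card φ.range := Nat.card_pos
      exact Nat.eq_of_mul_eq_mul_left hpos (h1.trans (h3.symm.trans (mul_comm _ _)))
    obtain ⟨c, hc⟩ := AddSubgroup.index_eq_two_iff.1 hidx
    obtain ⟨x, hx⟩ : b / a ^ 2 + b' / a' ^ 2 ∈ φ.range :=
      (AddSubgroup.add_mem_iff_of_index_two hidx).2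
        (iff_of_false (fun ⟨x, hx⟩ => hb x hx) (fun ⟨x, hx⟩ => hb' x hx))
    refine ⟨a' * x, a' / a, by rw [h2]; field_simp; ring, ?_⟩
    have hx' : x ^ 2 + x = b / a ^ 2 + b' / a' ^ 2 := hx
    field_simp at hx' ⊢
    linear_combination hx' + (a' ^ 2 * b) * h2
  · obtain ⟨D, hD⟩ : ∃ D, D = a ^ 2 - 4 * b := ⟨_, rfl⟩
    obtain ⟨D', hD'⟩ : ∃ D, D = a' ^ 2 - 4 * b' := ⟨_, rfl⟩
    have hns : ∀ {a b : F}, (∀ z₁ z₂ : F, z₁ ^ 2 + a * z₁ * z₂ + b * z₂ ^ 2 = 0 → z₁ = 0 ∧ z₂ = 0) →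
        ¬ IsSquare (a ^ 2 - 4 * b) := fun {a b} hab ⟨s, hs⟩ =>
      one_ne_zero (hab ((s - a) / 2) 1 (by field_simp; linear_combination -hs)).2
    have hDns : ¬ IsSquare D := hD ▸ hns hab
    have hD0 : D ≠ 0 := fun e => hDns (e ▸ IsSquare.zero)
    have hD'0 : D' ≠ 0 := fun e => hns hab' (hD' ▸ e ▸ IsSquare.zero)
    obtain ⟨s, hs⟩ : IsSquare (D' / D) := by
      rcases sqc_dichotomy hDns hD'0 with h | h
      · exact absurd ((sqc_eq_one_iff hD'0).1 h) (hD' ▸ hns hab')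
      · rw [← sqc_eq_one_iff (div_ne_zero hD'0 hD0)]
        have h1 : sqc (D' / D) * sqc D = sqc D' := by
          rw [← sqc_mul (div_ne_zero hD'0 hD0) hD0, div_mul_cancel₀ _ hD0]
        rw [h] at h1
        exact mul_eq_right.1 h1
    refine ⟨(a' - a * s) / 2, s, by field_simp; ring, ?_⟩
    have h' : D' = s * s * D := by rw [← hs, div_mul_cancel₀ _ hD0]
    rw [hD, hD'] at h'
    field_simp
    linear_combination h'

/-- a linear map carrying one minus form to another -/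
theorem exists_minus_map {m : ℕ} {a b a' b' : F}
    (hab : ∀ z₁ z₂ : F, z₁ ^ 2 + a * z₁ * z₂ + b * z₂ ^ 2 = 0 → z₁ = 0 ∧ z₂ = 0)
    (hab' : ∀ z₁ z₂ : F, z₁ ^ 2 + a' * z₁ * z₂ + b' * z₂ ^ 2 = 0 → z₁ = 0 ∧ z₂ = 0) :
    ∃ g : GL ((Fin m ⊕ Fin m) ⊕ Fin 2) F, ∀ v, Cfsg.quadFormMinus m F a b ((g : Matrix ((Fin m ⊕ Fin m) ⊕ Fin 2) ((Fin m ⊕ Fin m) ⊕ Fin 2) F) *ᵥ v) =
      Cfsg.quadFormMinus m F a' b' v := by
  obtain ⟨u₀, u₁, h1, h2⟩ := exists_binary_equiv hab hab'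
  let L : ((Fin m ⊕ Fin m) ⊕ Fin 2 → F) →ₗ[F] ((Fin m ⊕ Fin m) ⊕ Fin 2 → F) :=
    { toFun := fun v => Sum.elim (fun i => v (.inl i)) ![v (.inr 0) + u₀ * v (.inr 1), u₁ * v (.inr 1)]
      map_add' := fun v w => by
        ext (i | i)
        · simp
        · fin_cases i <;> simp <;> ring
      map_smul' := fun c v => by
        ext (i | i)
        · simp
        · fin_cases i <;> simp <;> ring }
  have hL : ∀ v, Cfsg.quadFormMinus m F a b (L v) = Cfsg.quadFormMinus m F a' b' v := fun v => by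
    simp only [Cfsg.quadFormMinus, L, LinearMap.coe_mk, AddHom.coe_mk, Sum.elim_inl, Sum.elim_inr,
      Matrix.cons_val_zero, Matrix.cons_val_one]
    linear_combination (v (Sum.inr 0) * v (Sum.inr 1)) * h1 + (v (Sum.inr 1) ^ 2) * h2
  have hinj : Function.Injective L := (injective_iff_map_eq_zero L).2 fun v hv => by
    have e1 : ∀ i, v (.inl i) = 0 := fun i => congrFun hv (.inl i)
    have h0 := hL v
    rw [hv] at h0
    simp only [Cfsg.quadFormMinus, Pi.zero_apply, e1, mul_zero, Finset.sum_const_zero, zero_add, add_zero, sq] at h0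
    obtain ⟨z0, z1⟩ := hab' (v (.inr 0)) (v (.inr 1)) (by linear_combination -h0)
    ext (i | i)
    · exact e1 i
    · fin_cases i
      · exact z0
      · exact z1
  refine ⟨((Matrix.mulVec_injective_iff_isUnit (A := LinearMap.toMatrix' L)).1 (fun v w e' => hinj (by
    simpa only [LinearMap.toMatrix'_mulVec] using e'))).unit, fun v => ?_⟩
  rw [IsUnit.unit_spec, LinearMap.toMatrix'_mulVec, hL]

omit [Fintype F] in
theorem quadFormMinus_field {m : ℕ} (a b : F) (σ : F ≃+* F) (v : (Fin m ⊕ Fin m) ⊕ Fin 2 → F) :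
    Cfsg.quadFormMinus m F (σ a) (σ b) (fun i => σ (v i)) = σ (Cfsg.quadFormMinus m F a b v) := by
  simp [Cfsg.quadFormMinus, map_sum]

theorem minus_lift {m : ℕ} {a b : F} (hab : ∀ z₁ z₂ : F, z₁ ^ 2 + a * z₁ * z₂ + b * z₂ ^ 2 = 0 → z₁ = 0 ∧ z₂ = 0)
    (σ : F ≃+* F) : ∃ g, Cfsg.IsSemisimilarityPair (Cfsg.quadFormMinus m F a b) g σ := by
  obtain ⟨g, hg⟩ := exists_minus_map (m := m) hab (a' := σ a) (b' := σ b) (fun z₁ z₂ h => by
    have h' : σ.symm z₁ ^ 2 + a * σ.symm z₁ * σ.symm z₂ + b * σ.symm z₂ ^ 2 = 0 := σ.injective (by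
      simp only [map_add, map_mul, map_pow, map_zero, σ.apply_symm_apply]; exact h)
    obtain ⟨h1, h2⟩ := hab _ _ h'
    exact ⟨σ.symm.injective (h1.trans (map_zero _).symm), σ.symm.injective (h2.trans (map_zero _).symm)⟩)
  exact ⟨g, 1, fun v => by rw [hg, quadFormMinus_field, Units.val_one, one_mul]⟩

end CfsgLib.Orth
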