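import Cfsg.Agent.Lib.Orth.Aut.StdForms
import Cfsg.Agent.Lib.Orth.Aut.MinusEquiv
import Cfsg.Agent.Lib.Orth.PGOInst

/-!
# The order of the automorphism group
-/

set_option autoImplicit false
set_option linter.all false

namespace CfsgLib.Orth

open Matrix Cfsg.Geo CfsgLib.Perm.Trans CfsgLib.Perm.Trans.Quad

theorem card_of_quot {X A : Type*} [Group X] [Group A] {H K : Subgroup X} (hKH : K ≤ H) (φ : ↥H →* A)
    (hs : Function.Surjective φ) (hk : φ.ker = K.subgroupOf H) : Nat.card ↥H = Nat.card A * Nat.card ↥K := by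
  rw [← Subgroup.card_mul_index φ.ker, Subgroup.index_ker, MonoidHom.range_eq_top.2 hs, Subgroup.card_top, hk,
    Nat.card_congr (Subgroup.subgroupOfEquivOfLe hKH).toEquiv, mul_comm]

variable {ι : Type} [Fintype ι] [DecidableEq ι] {F : Type*} [Field F] [Fintype F] {Q : (ι → F) → F}

theorem card_mulAut_of_top (hQ : IsNondegenerateQuadraticForm Q) (hn : 5 ≤ Fintype.card ι)
    (htop : Cfsg.gammaPOmega F Q = ⊤) (hlift : ∀ σ : F ≃+* F, ∃ g, Cfsg.IsSemisimilarityPair Q g σ)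
    {p f : ℕ} [Fact p.Prime] (hF : Fintype.card F = p ^ f) :
    Nat.card (MulAut (Cfsg.POmega F Q)) = Nat.card ↥(Cfsg.pgoAut F Q) * f := by
  rw [← CfsgLib.AutPSL.card_ringAut hF, ← card_gammaSub hQ hn hlift, ← gammaPOmega_eq, htop, Subgroup.card_top]

theorem two_eq_zero_iff_of_card {p f : ℕ} [hp : Fact p.Prime] (hF : Fintype.card F = p ^ f) : (2 : F) = 0 ↔ p = 2 := by
  haveI : CharP F p := charP_of_card_eq_prime_pow hF
  rw [show (2 : F) = ((2 : ℕ) : F) from (Nat.cast_ofNat).symm, CharP.cast_eq_zero_iff F p,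
    Nat.prime_dvd_prime_iff_eq hp.out Nat.prime_two]

theorem parity_half {x m : ℕ} (hx : Odd x) : Even (m * (x - 1) / 2) ↔ ¬ (Odd m ∧ x % 4 = 3) := by
  obtain ⟨k, rfl⟩ := hx
  rw [show m * (2 * k + 1 - 1) = m * k * 2 by rw [Nat.add_sub_cancel]; ring, Nat.mul_div_cancel _ two_pos,
    Nat.even_mul, Nat.odd_iff, Nat.even_iff, Nat.even_iff]
  omega

/-- the minus type -/
theorem card_mulAut_minus {F : Type*} [Field F] [Fintype F] {p f : ℕ} [Fact p.Prime] (hF : Fintype.card F = p ^ f)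
    {m : ℕ} (hm : 3 ≤ m) {a b : F} (hab : ∀ z₁ z₂ : F, z₁ ^ 2 + a * z₁ * z₂ + b * z₂ ^ 2 = 0 → z₁ = 0 ∧ z₂ = 0) :
    Nat.card (MulAut (Cfsg.POmega F (Cfsg.quadFormMinus m F a b))) =
      (if p = 2 then 2 else (if Even ((m + 1) * (p ^ f - 1) / 2) then 4 else 8)) * f *
        Nat.card (Cfsg.POmega F (Cfsg.quadFormMinus m F a b)) := by
  have hn : 5 ≤ Fintype.card ((Fin m ⊕ Fin m) ⊕ Fin 2) := by simp; omega
  have hQ := quadFormMinus_nd (m := m) a b hab
  rw [card_mulAut_of_top hQ hn (Aut.gamma_top_minus hm a b hab) (minus_lift hab) hF]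
  suffices h : Nat.card ↥(Cfsg.pgoAut F (Cfsg.quadFormMinus m F a b)) =
      (if p = 2 then 2 else (if Even ((m + 1) * (p ^ f - 1) / 2) then 4 else 8)) *
        Nat.card (Cfsg.POmega F (Cfsg.quadFormMinus m F a b)) by rw [h]; ring
  by_cases hp : p = 2
  · rw [if_pos hp, card_pgo_two hQ hn ((two_eq_zero_iff_of_card hF).2 hp)]
  have h2 : (2 : F) ≠ 0 := fun e => hp ((two_eq_zero_iff_of_card hF).1 e)
  have hodd : Odd (Fintype.card F) := hF ▸ Odd.pow ((Fact.out : p.Prime).odd_of_ne_two hp)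
  have hsim := hsim_minus (F := F) (m := m) (by omega) h2 hab
  have hKH := (inn_le_psoAut hQ hn h2).trans (psoAut_le_pgoAut hQ)
  rw [if_neg hp, ← card_inn hQ hn]
  have hpar := parity_half (m := m + 1) hodd
  have hev : Odd (m + 1) ↔ Even m := Nat.odd_add_one.trans Nat.not_odd_iff_even
  by_cases hc : Even m ∧ Fintype.card F % 4 = 3
  · obtain ⟨φ, hs, hk⟩ := pgo_mod_inn_dihedral hQ hn h2 minus_card hsim ((spn_neg_one_minus hodd (by omega) hab).2 hc)
    rw [card_of_quot hKH φ hs hk, DihedralGroup.nat_card,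
      if_neg (by rw [← hF, hpar, not_not, hev]; exact hc)]
  · obtain ⟨φ, hs, hk⟩ := pgo_mod_inn_klein hQ hn h2 minus_card hsim
      (fun e => hc ((spn_neg_one_minus hodd (by omega) hab).1 e))
    rw [card_of_quot hKH φ hs hk, if_pos (by rw [← hF, hpar, hev]; exact hc)]
    simp [Nat.card_eq_fintype_card]

end CfsgLib.Orth
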