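import Cfsg.Agent.Lib.Orth.Aut.RootAut

/-!
# The permutation of totally singular lines induced by an automorphism
-/

set_option autoImplicit false
set_option linter.all false

namespace CfsgLib.Orth.Aut

open scoped Matrix
open Matrix Cfsg.Geo CfsgLib.Orth CfsgLib.Perm.Asch CfsgLib.Perm.Trans CfsgLib.Perm.Trans.Quad

variable {ι : Type} [Fintype ι] [DecidableEq ι] {F : Type*} [Field F]
variable {Q : (ι → F) → F}

local notation "pol" => QuadraticMap.polar
local notation "V" => (ι → F)

/-- totally singular lines -/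
def TSLine (Q : V → F) : Type _ :=
  {l : Submodule F V // Module.finrank F ↥l = 2 ∧ ∀ x ∈ l, Q x = 0}

/-- orthogonal subspaces -/
def Perp (Q : V → F) (A B : Submodule F V) : Prop := ∀ a ∈ A, ∀ b ∈ B, pol Q a b = 0

/-- commuting lines -/
def Rel (Q : V → F) (l l' : Submodule F V) : Prop := l ⊓ l' ≠ ⊥ ∨ Perp Q l l'

/-- adjacent lines: meeting, spanning a totally singular plane -/
def Adj (Q : V → F) (l l' : Submodule F V) : Prop := l ≠ l' ∧ l ⊓ l' ≠ ⊥ ∧ Perp Q l l'

theorem Perp.symm {A B : Submodule F V} (h : Perp Q A B) : Perp Q B A :=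
  fun b hb a ha => by rw [pcomm]; exact h a ha b hb

/-- a basis of a plane through a given vector -/
theorem exists_basis_through {l : Submodule F V} (hl : Module.finrank F l = 2) {w : V} (hw : w ∈ l) (hw0 : w ≠ 0) :
    ∃ v ∈ l, LinearIndependent F ![w, v] ∧ l = Submodule.span F {w, v} := by
  obtain ⟨v, hv, hvn⟩ : ∃ v ∈ l, v ∉ Submodule.span F {w} := by
    by_contra hcon
    push Not at hcon
    have h1 := Submodule.finrank_mono (show l ≤ Submodule.span F {w} from hcon)
    rw [hl, finrank_span_singleton hw0] at h1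
    omega
  have hli : LinearIndependent F ![w, v] := (LinearIndependent.pair_iff' hw0).2 fun a ha =>
    hvn (ha ▸ Submodule.smul_mem _ a (Submodule.mem_span_singleton_self w))
  refine ⟨v, hv, hli, (Submodule.eq_of_le_of_finrank_eq ?_ (by rw [finrank_span_pair hli, hl])).symm⟩
  rw [Submodule.span_le]
  intro y hy
  rcases hy with rfl | rfl
  · exact hw
  · exact hv

variable (hQ : IsNondegenerateQuadraticForm Q)
include hQ

theorem perp_self {l : Submodule F V} (hl : ∀ x ∈ l, Q x = 0) : Perp Q l l := fun a ha b hb => by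
  rw [QuadraticMap.polar, hl _ (l.add_mem ha hb), hl a ha, hl b hb]; ring

omit hQ in
theorem move_mul (g h : GL ι F) (x : V) :
    move (g * h) x = move g ((h : Matrix ι ι F) *ᵥ x) + move h x := by
  rw [move_apply, move_apply, move_apply, gl_mul_mulVec]; abel

omit hQ in
theorem rline_mul_le (g h : GL ι F) : rline (g * h) ≤ rline g ⊔ rline h := by
  rintro _ ⟨x, rfl⟩
  rw [move_mul]
  exact Submodule.add_mem _ (Submodule.mem_sup_left ⟨_, rfl⟩) (Submodule.mem_sup_right ⟨_, rfl⟩)

theorem IsRootElt.eq_of_fix {g h : GL ι F} (hg : g ∈ Cfsg.isometryGroup F Q) (hh : IsRootElt Q h)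
    (hfix : ∀ y ∈ rline h, (g : Matrix ι ι F) *ᵥ y = y) : g * h = h * g := by
  obtain ⟨u, v, hli, hu, hv, huv, hE⟩ := hh
  rw [rline_isE hQ hli hv hE] at hfix
  have h' := hE.conj hg
  rw [hfix u (Submodule.subset_span (by simp)), hfix v (Submodule.subset_span (by simp))] at h'
  exact mul_inv_eq_iff_eq_mul.1 (h'.unique hE)

omit hQ in
theorem IsRootElt.iso (hQ : IsNondegenerateQuadraticForm Q) {g : GL ι F} (hg : IsRootElt Q g) :
    g ∈ Cfsg.isometryGroup F Q := by
  obtain ⟨u, v, hli, hu, hv, huv, hE⟩ := hg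
  obtain ⟨k, hk, hkE⟩ := exists_E hQ hu huv
  exact hE.unique hkE ▸ hk

/-- commuting root elements -/
theorem root_comm_iff {g h : GL ι F} (hg : IsRootElt Q g) (hh : IsRootElt Q h) :
    g * h = h * g ↔ Rel Q (rline g) (rline h) := by
  have hgi := hg.iso hQ
  obtain ⟨hl, hls⟩ := hg.rline_ts hQ
  obtain ⟨hl', hls'⟩ := hh.rline_ts hQ
  constructor
  · intro hc
    by_contra hcon
    obtain ⟨h1, h2⟩ := not_or.1 hcon
    rw [not_not] at h1
    refine h2 ?_
    intro a ha b hb
    -- `g` stabilises the line of `h`, hence fixes it pointwise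
    have hstab : (rline h).map (Matrix.mulVecLin (g : Matrix ι ι F)) = rline h := by
      rw [← rline_conj, mul_inv_eq_iff_eq_mul.2 hc]
    have hb0 : move g b = 0 := by
      have hm : move g b ∈ rline g ⊓ rline h := by
        refine ⟨⟨b, rfl⟩, ?_⟩
        rw [move_apply]
        exact Submodule.sub_mem _ (hstab ▸ Submodule.mem_map_of_mem hb) hb
      rwa [h1, Submodule.mem_bot] at hm
    obtain ⟨u, v, hli, hu, hv, huv, hE⟩ := hg
    rw [isE_move hE hv] at hb0
    rw [rline_isE hQ hli hv hE] at ha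
    obtain ⟨s, t, rfl⟩ := Submodule.mem_span_pair.1 ha
    obtain ⟨e1, e2⟩ := (LinearIndependent.pair_iff.1 hli) (-pol Q b v) (pol Q b u) (by
      rw [neg_smul, neg_add_eq_sub]; exact hb0)
    rw [padd_left hQ, psmul_left hQ, psmul_left hQ, pcomm u b, pcomm v b, e2, neg_eq_zero.1 e1]
    ring
  · rintro (hm | hp)
    · obtain ⟨w, hw, hw0⟩ := Submodule.exists_mem_ne_zero_of_ne_bot hm
      obtain ⟨v, hv, hliv, hlv⟩ := exists_basis_through hl hw.1 hw0
      obtain ⟨b, hb, hlib, hlb⟩ := exists_basis_through hl' hw.2 hw0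
      obtain ⟨α, hα, hgE⟩ := hg.exists_scal hQ hlv
      obtain ⟨β, hβ, hhE⟩ := hh.exists_scal hQ hlb
      have hwb : pol Q w b = 0 := perp_self hQ hls' w hw.2 b hb
      have hgw : (g : Matrix ι ι F) *ᵥ w = w := by
        rw [hgE, hls v hv, psmul_right hQ, pself hQ, hls w hw.1, perp_self hQ hls w hw.1 v hv]
        module
      obtain ⟨κ, hgb⟩ : ∃ κ, (g : Matrix ι ι F) *ᵥ b = b + κ • w := by
        refine ⟨-(pol Q b v * α), ?_⟩
        rw [hgE, hls v hv, psmul_right hQ, pcomm b w, hwb]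
        module
      have h' := hhE.conj hgi
      rw [mulVec_smul, hgw, hgb] at h'
      refine mul_inv_eq_iff_eq_mul.1 (h'.unique fun x => ?_)
      rw [hhE]
      simp only [qadd hQ, qsmul hQ, psmul_right hQ, padd_right hQ, hls' b hb, hls w hw.1, pcomm b w, hwb]
      module
    · exact IsRootElt.eq_of_fix hQ hgi hh fun y hy => hg.fix_perp hQ fun a ha => hp.symm y hy a ha

/-- products of two commuting root elements on different lines -/
theorem root_mul_iff {g h : GL ι F} (hg : IsRootElt Q g) (hh : IsRootElt Q h) (hne : rline g ≠ rline h)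
    (hrel : Rel Q (rline g) (rline h)) : IsRootElt Q (g * h) ↔ Adj Q (rline g) (rline h) := by
  obtain ⟨hl, hls⟩ := hg.rline_ts hQ
  obtain ⟨hl', hls'⟩ := hh.rline_ts hQ
  by_cases hm : rline g ⊓ rline h = ⊥
  · refine iff_of_false (fun hp => ?_) fun ha => ha.2.1 hm
    have hperp : Perp Q (rline g) (rline h) := hrel.resolve_left fun h' => h' hm
    have hfix : ∀ y ∈ rline h, (g : Matrix ι ι F) *ᵥ y = y := fun y hy =>
      hg.fix_perp hQ fun a ha => hperp.symm y hy a ha
    obtain ⟨hp2, -⟩ := hp.rline_ts hQ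
    obtain ⟨u, v, hli, hu, hv, huv, hE⟩ := hg
    have hlg := rline_isE hQ hli hv hE
    have hlguv : u ∈ rline g ∧ v ∈ rline g := ⟨hlg ▸ Submodule.subset_span (by simp), hlg ▸ Submodule.subset_span (by simp)⟩
    have hgl : rline g ≤ rline (g * h) := by
      rw [hlg, Submodule.span_le]
      intro y hy
      have hnot : ∀ a b : V, a ∈ rline g → b ∈ rline g → LinearIndependent F ![b, a] →
          ∃ z, (∀ c ∈ rline h, pol Q z c = 0) ∧ pol Q z b = 0 ∧ pol Q z a = 1 := by
        intro a b ha hb hab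
        have : a ∉ rline h ⊔ Submodule.span F {b} := fun hc => by
          obtain ⟨c, hc', d, hd, hcd⟩ := Submodule.mem_sup.1 hc
          obtain ⟨s, rfl⟩ := Submodule.mem_span_singleton.1 hd
          have hc0 : c = 0 := (Submodule.eq_bot_iff _).1 hm c
            ⟨by rw [eq_sub_of_add_eq hcd]; exact Submodule.sub_mem _ ha (Submodule.smul_mem _ _ hb), hc'⟩
          rw [hc0, zero_add] at hcd
          exact one_ne_zero ((LinearIndependent.pair_iff.1 hab) (-s) 1 (by rw [← hcd]; module)).2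
        obtain ⟨p, hp', hpa⟩ := exists_qperp_ne hQ this
        exact ⟨p, fun c hc => hp' c (Submodule.mem_sup_left hc),
          hp' b (Submodule.mem_sup_right (Submodule.mem_span_singleton_self b)), by rw [pcomm]; exact hpa⟩
      have hswap : LinearIndependent F ![v, u] := LinearIndependent.pair_symm_iff.1 hli
      rcases hy with rfl | hy
      · obtain ⟨z, hz, hzu, hzv⟩ := hnot v y hlguv.2 hlguv.1 hli
        refine ⟨-z, ?_⟩
        rw [map_neg, move_mul_of_fix hQ hfix, isE_move hE hv, hzu, hzv, move_apply,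
          hh.fix_perp hQ fun c hc => hz c hc]
        module
      · rw [Set.mem_singleton_iff] at hy
        subst hy
        obtain ⟨z, hz, hzv, hzu⟩ := hnot u y hlguv.1 hlguv.2 hswap
        refine ⟨z, ?_⟩
        rw [move_mul_of_fix hQ hfix, isE_move hE hv, hzu, hzv, move_apply, hh.fix_perp hQ fun c hc => hz c hc]
        module
    have heq := Submodule.eq_of_le_of_finrank_le hgl (by rw [hp2, hl])
    have hhl : rline h ≤ rline g := by
      rintro _ ⟨x, rfl⟩
      have e : move h x = move (g * h) x - move g x := by rw [move_mul_of_fix hQ hfix]; abel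
      rw [e]
      exact Submodule.sub_mem _ (heq ▸ ⟨x, rfl⟩) ⟨x, rfl⟩
    exact hne (Submodule.eq_of_le_of_finrank_eq hhl (by rw [hl, hl'])).symm
  · obtain ⟨w, hw, hw0⟩ := Submodule.exists_mem_ne_zero_of_ne_bot hm
    obtain ⟨a, ha, hlia, hla⟩ := exists_basis_through hl hw.1 hw0
    obtain ⟨b, hb, hlib, hlb⟩ := exists_basis_through hl' hw.2 hw0
    obtain ⟨α, hα, hgE⟩ := hg.exists_scal hQ hla
    obtain ⟨β, hβ, hhE⟩ := hh.exists_scal hQ hlb
    have hww : pol Q w w = 0 := by rw [pself hQ, hls w hw.1, mul_zero]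
    have hwa : pol Q w a = 0 := perp_self hQ hls w hw.1 a ha
    have hwb : pol Q w b = 0 := perp_self hQ hls' w hw.2 b hb
    by_cases hab : pol Q a b = 0
    · have hadj : Adj Q (rline g) (rline h) := by
        refine ⟨hne, hm, ?_⟩
        intro x hx y hy
        rw [hla] at hx; rw [hlb] at hy
        obtain ⟨s, t, rfl⟩ := Submodule.mem_span_pair.1 hx
        obtain ⟨s', t', rfl⟩ := Submodule.mem_span_pair.1 hy
        simp only [padd_left hQ, padd_right hQ, psmul_left hQ, psmul_right hQ, hww, hwb, pcomm a w, hwa, hab]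
        ring
      refine iff_of_true ⟨w, α • a + β • b, ?_, hls w hw.1, ?_, ?_, ?_⟩ hadj
      · refine (LinearIndependent.pair_iff' hw0).2 fun k hk => ?_
        have hmem : b ∈ rline g := by
          have e : b = β⁻¹ • (k • w - α • a) := by rw [hk, add_sub_cancel_left, inv_smul_smul₀ hβ]
          rw [e]
          exact Submodule.smul_mem _ _ (Submodule.sub_mem _ (Submodule.smul_mem _ _ hw.1) (Submodule.smul_mem _ _ ha))
        refine hne (Submodule.eq_of_le_of_finrank_eq ?_ (by rw [hl, hl'])).symm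
        rw [hlb, Submodule.span_le]
        intro y hy
        rcases hy with rfl | rfl
        · exact hw.1
        · exact hmem
      · rw [qadd hQ, qsmul hQ, qsmul hQ, psmul_left hQ, psmul_right hQ, hls a ha, hls' b hb, hab]; ring
      · rw [padd_right hQ, psmul_right hQ, psmul_right hQ, hwa, hwb]; ring
      · intro x
        rw [gl_mul_mulVec, hhE, hgE]
        simp only [qadd hQ, qsmul hQ, hls a ha, hls' b hb, psub_left hQ, padd_left hQ, psmul_left hQ, padd_right hQ, psmul_right hQ, hww, hwa, hwb,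
          pcomm b w, pcomm b a, hab]
        module
    · refine iff_of_false (fun hp => ?_) fun hadj => hab (hadj.2.2 a ha b hb)
      obtain ⟨-, hs⟩ := hp.rline_ts hQ
      obtain ⟨x, hx, -⟩ := exists_pol_values hQ hlia 1 0
      have h1 := hs (move (g * h) x) ⟨x, rfl⟩
      obtain ⟨κ, hκ⟩ : ∃ κ, move (g * h) x = α • a + β • b + κ • w := by
        refine ⟨-(α * pol Q x a) - β * pol Q x b - β * α * pol Q b a, ?_⟩
        rw [move_apply, gl_mul_mulVec, hhE, hgE, hls a ha, hls' b hb]
        simp only [psub_left hQ, padd_left hQ, psmul_left hQ, padd_right hQ, psmul_right hQ, hww, hwa, hwb, hx,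
          pcomm b w]
        module
      rw [hκ] at h1
      simp only [qadd hQ, qsmul hQ, padd_left hQ, psmul_left hQ, psmul_right hQ, hls a ha, hls' b hb,
        hls w hw.1, pcomm a w, hwa, pcomm b w, hwb] at h1
      exact hab (((mul_eq_zero.1 (show (α * β) * pol Q a b = 0 by linear_combination h1))).resolve_left
        (mul_ne_zero hα hβ))

variable [Fintype F]

/-- `x` is a root element of the line `l` -/
def RootAt (Q : V → F) (x : Cfsg.POmega F Q) (l : Submodule F V) : Prop :=
  ∃ s : Cfsg.Omega F Q, IsRootElt Q (omv s) ∧ rline (omv s) = l ∧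
    QuotientGroup.mk' (Subgroup.center (Cfsg.Omega F Q)) s = x

omit [Fintype F] hQ in
theorem RootAt.root {x : Cfsg.POmega F Q} {l : Submodule F V} (h : RootAt Q x l) : IsRootG Q x := by
  obtain ⟨s, hs, -, hx⟩ := h; exact ⟨s, hs, hx⟩

omit [Fintype F] hQ in
theorem IsRootG.exists_line {x : Cfsg.POmega F Q} (h : IsRootG Q x) : ∃ l, RootAt Q x l := by
  obtain ⟨s, hs, hx⟩ := h; exact ⟨_, s, hs, rfl, hx⟩

theorem exists_rootAt (hn : 5 ≤ Fintype.card ι) (l : TSLine Q) : ∃ x, RootAt Q x l.1 := by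
  obtain ⟨w, hw, hw0⟩ := Submodule.exists_mem_ne_zero_of_ne_bot (p := l.1) (fun e => by
    have := l.2.1; rw [e, finrank_bot] at this; omega)
  obtain ⟨v, hv, hli, hl⟩ := exists_basis_through l.2.1 hw hw0
  obtain ⟨g, hg, -, hgl⟩ := exists_root hQ hn hli (l.2.2 w hw) (l.2.2 v hv) (perp_self hQ l.2.2 w hw v hv)
  obtain ⟨s, hs⟩ := hg.omega hQ hn
  exact ⟨_, s, by rw [hs]; exact hg, by rw [hs, hgl, ← hl], rfl⟩

theorem RootAt.line {x : Cfsg.POmega F Q} {l : Submodule F V} (h : RootAt Q x l) :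
    Module.finrank F l = 2 ∧ ∀ y ∈ l, Q y = 0 := by
  obtain ⟨s, hs, hsl, -⟩ := h
  exact hsl ▸ hs.rline_ts hQ

/-- two lifts differ by a sign -/
theorem lift_cases (hn : 5 ≤ Fintype.card ι) {s t : Cfsg.Omega F Q}
    (h : QuotientGroup.mk' (Subgroup.center (Cfsg.Omega F Q)) s = QuotientGroup.mk' (Subgroup.center (Cfsg.Omega F Q)) t) :
    omv t = omv s ∨ ((2 : F) ≠ 0 ∧ omv t = -omv s) := by
  obtain ⟨ζ, hζ, rfl⟩ : ∃ ζ ∈ Subgroup.center (Cfsg.Omega F Q), t = s * ζ :=
    ⟨s⁻¹ * t, QuotientGroup.eq.1 h, by group⟩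
  rcases omega_center_sign hQ hn hζ with e | e
  · left
    show omv s * omv ζ = omv s
    rw [show omv ζ = 1 from Units.ext e, mul_one]
  · by_cases h2 : (2 : F) = 0
    · left
      haveI : CharP F 2 := CharTwo.of_one_ne_zero_of_two_eq_zero one_ne_zero h2
      show omv s * omv ζ = omv s
      rw [show omv ζ = 1 from Units.ext (e.trans (by ext i j; rw [Matrix.neg_apply, CharTwo.neg_eq]; rfl)), mul_one]
    · refine Or.inr ⟨h2, ?_⟩
      show omv s * omv ζ = -omv s
      rw [show omv ζ = -1 from Units.ext (by rw [Units.val_neg, Units.val_one]; exact e), mul_neg, mul_one]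

theorem RootAt.unique (hn : 5 ≤ Fintype.card ι) {x : Cfsg.POmega F Q} {l l' : Submodule F V}
    (h : RootAt Q x l) (h' : RootAt Q x l') : l = l' := by
  obtain ⟨s, hs, rfl, hx⟩ := h
  obtain ⟨t, ht, rfl, hx'⟩ := h'
  rcases lift_cases hQ hn (hx.trans hx'.symm) with e | ⟨h2, e⟩
  · rw [e]
  · exact absurd (e ▸ ht) (hs.neg_not hQ hn h2)

theorem rootAt_comm_iff (hn : 5 ≤ Fintype.card ι) {x y : Cfsg.POmega F Q} {l l' : Submodule F V}
    (hx : RootAt Q x l) (hy : RootAt Q y l') : x * y = y * x ↔ Rel Q l l' := by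
  obtain ⟨s, hs, rfl, rfl⟩ := hx
  obtain ⟨t, ht, rfl, rfl⟩ := hy
  rw [← root_comm_iff hQ hs ht]
  constructor
  · intro h
    rw [← map_mul, ← map_mul] at h
    rcases lift_cases hQ hn h with e | ⟨h2, e⟩
    · exact (show omv s * omv t = omv t * omv s from e.symm)
    · exfalso
      have e' : omv t * omv s = -(omv s * omv t) := e
      have hc : omv t * omv s * (omv t)⁻¹ = -omv s := by rw [e', neg_mul, mul_assoc, mul_inv_cancel, mul_one]
      exact hs.neg_not hQ hn h2 (hc ▸ hs.conj (omv_iso t))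
  · intro h
    rw [← map_mul, ← map_mul]
    exact congrArg _ (omv_injective h)

theorem rootAt_mul_iff (hn : 7 ≤ Fintype.card ι) {x y : Cfsg.POmega F Q} {l l' : Submodule F V}
    (hx : RootAt Q x l) (hy : RootAt Q y l') (hne : l ≠ l') (hrel : Rel Q l l') :
    IsRootG Q (x * y) ↔ Adj Q l l' := by
  obtain ⟨s, hs, rfl, rfl⟩ := hx
  obtain ⟨t, ht, rfl, rfl⟩ := hy
  rw [← root_mul_iff hQ hs ht hne hrel]
  constructor
  · rintro ⟨r, hr, he⟩
    rw [← map_mul] at he
    rcases lift_cases hQ (by omega) he with e | ⟨h2, e⟩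
    · exact (show omv s * omv t = omv r from e).symm ▸ hr
    · exfalso
      have e' : omv r = -(omv s * omv t) := by rw [show omv s * omv t = -omv r from e, neg_neg]
      obtain ⟨hr1, -⟩ := hr.rline_ts hQ
      obtain ⟨hs1, -⟩ := hs.rline_ts hQ
      obtain ⟨ht1, -⟩ := ht.rline_ts hQ
      have hle : (⊤ : Submodule F V) ≤ rline (omv r) ⊔ rline (omv s * omv t) := fun z _ => by
        have e2 : (2 : F) • z = -(move (omv r) z + move (omv s * omv t) z) := by
          rw [e', move_apply, move_apply, Units.val_neg, neg_mulVec, two_smul]; abel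
        rw [show z = (2 : F)⁻¹ • ((2 : F) • z) by rw [inv_smul_smul₀ h2], e2]
        exact Submodule.smul_mem _ _ (Submodule.neg_mem _ (Submodule.add_mem _ (Submodule.mem_sup_left ⟨z, rfl⟩)
          (Submodule.mem_sup_right ⟨z, rfl⟩)))
      have h1 := Submodule.finrank_mono hle
      have h2' := Submodule.finrank_mono (rline_mul_le (omv s) (omv t))
      have h3 := Submodule.finrank_add_le_finrank_add_finrank (rline (omv r)) (rline (omv s * omv t))
      have h4 := Submodule.finrank_add_le_finrank_add_finrank (rline (omv s)) (rline (omv t))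
      rw [finrank_top, Module.finrank_fintype_fun_eq_card] at h1
      omega
  · intro h
    exact ⟨s * t, h, map_mul _ s t⟩

/-- a line is determined by the lines commuting with it -/
theorem line_ext (hn : 7 ≤ Fintype.card ι) (l l' : TSLine Q) (hne : l.1 ≠ l'.1) :
    ∃ k : TSLine Q, Rel Q l.1 k.1 ∧ ¬ Rel Q l'.1 k.1 := by
  obtain ⟨u, hu, hu'⟩ : ∃ u ∈ l.1, u ∉ l'.1 := by
    by_contra hcon
    push Not at hcon
    exact hne (Submodule.eq_of_le_of_finrank_eq hcon (by rw [l.2.1, l'.2.1]))
  have hu0 : u ≠ 0 := fun e => hu' (e ▸ l'.1.zero_mem)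
  have huQ : Q u = 0 := l.2.2 u hu
  obtain ⟨f, -, hf, huf⟩ := exists_qpartner hQ (ndOn_top hQ) Submodule.mem_top hu0 huQ
  obtain ⟨P, hP⟩ : ∃ P, P = pairPerp hQ ⊤ u f := ⟨_, rfl⟩
  have hdim := pair_finrank hQ (P := ⊤) (e := u) (f := f) Submodule.mem_top Submodule.mem_top huQ hf huf
  rw [finrank_top, Module.finrank_fintype_fun_eq_card, ← hP] at hdim
  have hnd : NdOn Q P := hP ▸ pair_nd hQ (P := ⊤) Submodule.mem_top Submodule.mem_top huQ hf huf (ndOn_top hQ)
  have hPu : ∀ x ∈ P, pol Q x u = 0 := fun x hx => ((mem_pairPerp hQ).1 (hP ▸ hx)).2.1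
  obtain ⟨w, hwP, hwQ, hmeet, hperp⟩ : ∃ w ∈ P, Q w = 0 ∧ (∀ α β : F, β • w + α • u ∈ l'.1 → β = 0) ∧
      ∃ b ∈ l'.1, pol Q u b ≠ 0 ∨ pol Q w b ≠ 0 := by
    by_cases hperp : ∀ b ∈ l'.1, pol Q u b = 0
    · by_contra hcon
      push Not at hcon
      obtain ⟨b, hb, hb0⟩ := Submodule.exists_mem_ne_zero_of_ne_bot (p := l'.1) (fun e => by
        have := l'.2.1; rw [e, finrank_bot] at this; omega)
      -- every singular vector of `P` is orthogonal to `b`
      have hall : P ≤ LinearMap.ker (pfl hQ b) := le_of_singular_mem hQ hnd (by omega) fun w hwP hwQ => by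
        by_contra hne'
        have hne2 : pol Q w b ≠ 0 := hne'
        refine hne2 (hcon w hwP hwQ (fun α β hab => ?_) b hb).2
        have h1 := perp_self hQ l'.2.2 _ hab b hb
        rw [padd_left hQ, psmul_left hQ, psmul_left hQ, hperp b hb, mul_zero, add_zero] at h1
        exact (mul_eq_zero.1 h1).resolve_right hne2
      obtain ⟨y, hy⟩ : ∃ y, y = b - pol Q b f • u - pol Q b u • f := ⟨_, rfl⟩
      have hyP : y ∈ P := hP ▸ hy ▸ pair_proj hQ Submodule.mem_top Submodule.mem_top huQ hf huf Submodule.mem_top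
      have hbu : pol Q b u = 0 := by rw [pcomm]; exact hperp b hb
      have hy0 : y ≠ 0 := fun e => by
        rw [hy, hbu, zero_smul, sub_zero, sub_eq_zero] at e
        by_cases hc : pol Q b f = 0
        · exact hb0 (by rw [e, hc, zero_smul])
        · exact hu' (by rw [← inv_smul_smul₀ hc u, ← e]; exact l'.1.smul_mem _ hb)
      obtain ⟨z, hzP, hyz⟩ := (hnd y hyP hy0).2
      refine hyz ?_
      rw [hy, hbu, zero_smul, sub_zero, psub_left hQ, psmul_left hQ, pcomm u z, hPu z hzP, mul_zero, sub_zero, pcomm b z]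
      exact hall hzP
    · push Not at hperp
      obtain ⟨b, hb, hub⟩ := hperp
      by_contra hcon
      push Not at hcon
      -- every singular vector of `P` lies in `⟨u⟩ + l'`
      have hall : P ≤ P ⊓ (Submodule.span F {u} ⊔ l'.1) :=
        le_of_singular_mem hQ hnd (by omega) fun w hwP hwQ => by
          refine ⟨hwP, ?_⟩
          by_contra hnot
          refine hub (hcon w hwP hwQ (fun α β hab => ?_) b hb).1
          by_contra hβ
          refine hnot ?_
          have e : w = (-(β⁻¹ * α)) • u + β⁻¹ • (β • w + α • u) := by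
            match_scalars <;> field_simp <;> ring
          rw [e]
          exact Submodule.add_mem_sup (Submodule.smul_mem _ _ (Submodule.mem_span_singleton_self u))
            (Submodule.smul_mem _ _ hab)
      have h1 := (Submodule.finrank_mono hall).trans (Submodule.finrank_mono inf_le_right)
      have h2 := Submodule.finrank_add_le_finrank_add_finrank (Submodule.span F {u}) l'.1
      rw [finrank_span_singleton hu0, l'.2.1] at h2
      omega
  obtain ⟨b, hb, hub⟩ := hperp
  have hli : LinearIndependent F ![u, w] := by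
    refine (LinearIndependent.pair_iff' hu0).2 fun a ha => ?_
    have h1 : a = 0 := by
      have := congrArg (fun x => pol Q x f) ha
      simp only [psmul_left hQ, huf, mul_one] at this
      rw [this]; exact ((mem_pairPerp hQ).1 (hP ▸ hwP)).2.2
    rw [h1, zero_smul] at ha
    exact one_ne_zero (hmeet 0 1 (by rw [← ha]; simp))
  refine ⟨⟨Submodule.span F {u, w}, finrank_span_pair hli,
    span_pair_singular hQ huQ hwQ (by rw [pcomm]; exact hPu w hwP)⟩, Or.inl fun e => hu0 ?_, ?_⟩
  · exact (Submodule.eq_bot_iff _).1 e u ⟨hu, Submodule.subset_span (by simp)⟩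
  · rintro (hm | hp)
    · obtain ⟨z, hz, hz0⟩ := Submodule.exists_mem_ne_zero_of_ne_bot hm
      obtain ⟨s, t, rfl⟩ := Submodule.mem_span_pair.1 hz.2
      have ht : t = 0 := hmeet s t (by rw [add_comm]; exact hz.1)
      rw [ht, zero_smul, add_zero] at hz hz0
      have hs : s ≠ 0 := fun e => hz0 (by rw [e, zero_smul])
      exact hu' (by rw [← inv_smul_smul₀ hs u]; exact l'.1.smul_mem _ hz.1)
    · rcases hub with h | h
      · exact h (by rw [pcomm]; exact hp b hb u (Submodule.subset_span (by simp)))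
      · exact h (by rw [pcomm]; exact hp b hb w (Submodule.subset_span (by simp)))

theorem exists_image_line (hn : 7 ≤ Fintype.card ι) (β : MulAut (Cfsg.POmega F Q)) (l : TSLine Q) :
    ∃ k : TSLine Q, ∀ x, RootAt Q x l.1 → RootAt Q (β x) k.1 := by
  obtain ⟨x₀, hx₀⟩ := exists_rootAt hQ (by omega) l
  obtain ⟨k, hk⟩ := (map_root hQ hn β hx₀.root).exists_line
  refine ⟨⟨k, hk.line hQ⟩, fun x hx => ?_⟩
  obtain ⟨k', hk'⟩ := (map_root hQ hn β hx.root).exists_line
  by_contra hne
  have hne' : k ≠ k' := fun e => hne (e ▸ hk')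
  obtain ⟨j, hj1, hj2⟩ := line_ext hQ hn ⟨k, hk.line hQ⟩ ⟨k', hk'.line hQ⟩ hne'
  obtain ⟨z, hz⟩ := exists_rootAt hQ (by omega) j
  obtain ⟨i, hi⟩ := (map_root hQ hn β.symm hz.root).exists_line
  refine hj2 ?_
  rw [← rootAt_comm_iff hQ (by omega) hk' hz]
  have h1 := (rootAt_comm_iff hQ (by omega) hk hz).2 hj1
  have h2 : x₀ * β.symm z = β.symm z * x₀ := β.injective (by rw [map_mul, map_mul, β.apply_symm_apply]; exact h1)
  have h3 := (rootAt_comm_iff hQ (by omega) hx hi).2 ((rootAt_comm_iff hQ (by omega) hx₀ hi).1 h2)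
  have h4 := congrArg β h3
  rwa [map_mul, map_mul, β.apply_symm_apply] at h4

/-- the image line -/
noncomputable def lineMap (hn : 7 ≤ Fintype.card ι) (β : MulAut (Cfsg.POmega F Q)) (l : TSLine Q) : TSLine Q :=
  Classical.choose (exists_image_line hQ hn β l)

theorem lineMap_spec (hn : 7 ≤ Fintype.card ι) (β : MulAut (Cfsg.POmega F Q)) (l : TSLine Q) {x : Cfsg.POmega F Q}
    (hx : RootAt Q x l.1) : RootAt Q (β x) (lineMap hQ hn β l).1 :=
  Classical.choose_spec (exists_image_line hQ hn β l) x hx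

theorem lineMap_symm (hn : 7 ≤ Fintype.card ι) (β : MulAut (Cfsg.POmega F Q)) (l : TSLine Q) :
    lineMap hQ hn β.symm (lineMap hQ hn β l) = l := by
  obtain ⟨x, hx⟩ := exists_rootAt hQ (by omega) l
  have h := lineMap_spec hQ hn β.symm _ (lineMap_spec hQ hn β l hx)
  rw [β.symm_apply_apply] at h
  exact Subtype.ext (RootAt.unique hQ (by omega) h hx)

theorem lineMap_bijective (hn : 7 ≤ Fintype.card ι) (β : MulAut (Cfsg.POmega F Q)) :
    Function.Bijective (lineMap hQ hn β) :=
  Function.bijective_iff_has_inverse.2 ⟨lineMap hQ hn β.symm, lineMap_symm hQ hn β, fun l => by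
    have h := lineMap_symm hQ hn β.symm l
    rwa [MulEquiv.symm_symm] at h⟩

theorem lineMap_rel (hn : 7 ≤ Fintype.card ι) (β : MulAut (Cfsg.POmega F Q)) (l l' : TSLine Q) :
    Rel Q (lineMap hQ hn β l).1 (lineMap hQ hn β l').1 ↔ Rel Q l.1 l'.1 := by
  obtain ⟨x, hx⟩ := exists_rootAt hQ (by omega) l
  obtain ⟨y, hy⟩ := exists_rootAt hQ (by omega) l'
  rw [← rootAt_comm_iff hQ (by omega) (lineMap_spec hQ hn β l hx) (lineMap_spec hQ hn β l' hy),
    ← rootAt_comm_iff hQ (by omega) hx hy, ← map_mul, ← map_mul, β.injective.eq_iff]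

theorem lineMap_adj (hn : 7 ≤ Fintype.card ι) (β : MulAut (Cfsg.POmega F Q)) (l l' : TSLine Q) :
    Adj Q (lineMap hQ hn β l).1 (lineMap hQ hn β l').1 ↔ Adj Q l.1 l'.1 := by
  have key : ∀ (β : MulAut (Cfsg.POmega F Q)) (l l' : TSLine Q), Adj Q l.1 l'.1 →
      Adj Q (lineMap hQ hn β l).1 (lineMap hQ hn β l').1 := by
    intro β l l' h
    obtain ⟨x, hx⟩ := exists_rootAt hQ (by omega) l
    obtain ⟨y, hy⟩ := exists_rootAt hQ (by omega) l'
    have hr := (rootAt_mul_iff hQ hn hx hy h.1 (Or.inl h.2.1)).2 h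
    have hr' := map_root hQ hn β hr
    rw [map_mul] at hr'
    refine (rootAt_mul_iff hQ hn (lineMap_spec hQ hn β l hx) (lineMap_spec hQ hn β l' hy) (fun e => h.1 ?_)
      ((lineMap_rel hQ hn β l l').2 (Or.inl h.2.1))).1 hr'
    exact congrArg Subtype.val ((lineMap_bijective hQ hn β).1 (Subtype.ext e))
  refine ⟨fun h => ?_, key β l l'⟩
  have := key β.symm _ _ h
  rwa [lineMap_symm, lineMap_symm] at this

end CfsgLib.Orth.Aut
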