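import Cfsg.Agent.Lib.Orth.Aut.Lines
import Cfsg.Agent.Lib.Orth.SimParity

/-!
# From the permutation of lines to a permutation of singular points
-/

set_option autoImplicit false
set_option linter.all false

namespace CfsgLib.Orth.Aut

open scoped Matrix
open Matrix Cfsg.Geo CfsgLib.Orth CfsgLib.Perm.Asch CfsgLib.Perm.Trans CfsgLib.Perm.Trans.Quad

variable {ι : Type} [Fintype ι] [DecidableEq ι] {F : Type*} [Field F]
variable {Q : (ι → F) → F}

local notation "pol" => QuadraticMap.polar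
local notation "V" => (ι → F)

/-- outside the eight-dimensional hyperbolic space -/
def NotTriality (Q : V → F) : Prop :=
  Fintype.card ι = 8 → ∀ U : Submodule F V, (∀ x ∈ U, Q x = 0) → Module.finrank F U ≤ 3

/-- the meeting criterion, in terms of adjacency only -/
def Crit (Q : V → F) (l l' : Submodule F V) : Prop :=
  (∀ m m' : TSLine Q, Adj Q l m.1 → Adj Q l' m.1 → Adj Q l m'.1 → Adj Q l' m'.1 → ¬ Adj Q m.1 m'.1) ∨
  (∃ m m' k₁ k₂ k₃ : TSLine Q, Adj Q l m.1 ∧ Adj Q l' m.1 ∧ Adj Q l m'.1 ∧ Adj Q l' m'.1 ∧ m ≠ m' ∧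
    ¬ Adj Q m.1 m'.1 ∧ k₁ ≠ k₂ ∧ k₁ ≠ k₃ ∧ k₂ ≠ k₃ ∧
    (Adj Q l k₁.1 ∧ Adj Q l' k₁.1 ∧ Adj Q m.1 k₁.1 ∧ Adj Q m'.1 k₁.1) ∧
    (Adj Q l k₂.1 ∧ Adj Q l' k₂.1 ∧ Adj Q m.1 k₂.1 ∧ Adj Q m'.1 k₂.1) ∧
    (Adj Q l k₃.1 ∧ Adj Q l' k₃.1 ∧ Adj Q m.1 k₃.1 ∧ Adj Q m'.1 k₃.1))

omit [DecidableEq ι] in
theorem inf_ne_bot {A B : Submodule F V} {x : V} (hA : x ∈ A) (hB : x ∈ B) (h0 : x ≠ 0) : A ⊓ B ≠ ⊥ :=
  fun e => h0 ((Submodule.eq_bot_iff _).1 e x ⟨hA, hB⟩)

/-- the line through two vectors -/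
theorem span_eq_of_mem {l : Submodule F V} (hl : Module.finrank F l = 2) {a b : V} (ha : a ∈ l) (hb : b ∈ l)
    (h : LinearIndependent F ![a, b]) : l = Submodule.span F {a, b} := by
  refine (Submodule.eq_of_le_of_finrank_eq ?_ (by rw [finrank_span_pair h, hl])).symm
  rw [Submodule.span_le]
  intro y hy
  rcases hy with rfl | rfl
  · exact ha
  · exact hb

variable (hQ : IsNondegenerateQuadraticForm Q)
include hQ

/-- a line from two orthogonal singular vectors -/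
def mkLine {a b : V} (h : LinearIndependent F ![a, b]) (ha : Q a = 0) (hb : Q b = 0) (hab : pol Q a b = 0) : TSLine Q :=
  ⟨Submodule.span F {a, b}, finrank_span_pair h, span_pair_singular hQ ha hb hab⟩

theorem perp_span {a b c d : V} (h1 : pol Q a c = 0) (h2 : pol Q a d = 0) (h3 : pol Q b c = 0) (h4 : pol Q b d = 0) :
    Perp Q (Submodule.span F ({a, b} : Set V)) (Submodule.span F {c, d}) := by
  intro x hx y hy
  obtain ⟨s, t, rfl⟩ := Submodule.mem_span_pair.1 hx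
  obtain ⟨s', t', rfl⟩ := Submodule.mem_span_pair.1 hy
  simp only [padd_left hQ, padd_right hQ, psmul_left hQ, psmul_right hQ, h1, h2, h3, h4]
  ring

theorem crit_false_of_disjoint (l l' : TSLine Q) (hm : l.1 ⊓ l'.1 = ⊥) (hp : Perp Q l.1 l'.1) :
    ¬ Crit Q l.1 l'.1 := by
  have hll := perp_self hQ l.2.2
  have hll' := perp_self hQ l'.2.2
  have hli : ∀ {a b : V}, a ∈ l.1 → b ∈ l'.1 → a ≠ 0 → b ≠ 0 → LinearIndependent F ![a, b] := fun {a b} ha hb ha0 hb0 =>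
    (LinearIndependent.pair_iff' ha0).2 fun s hs =>
      hb0 ((Submodule.eq_bot_iff _).1 hm b ⟨hs ▸ l.1.smul_mem s ha, hb⟩)
  have hshape : ∀ m : TSLine Q, Adj Q l.1 m.1 → Adj Q l'.1 m.1 →
      ∃ a b, a ∈ l.1 ∧ b ∈ l'.1 ∧ a ≠ 0 ∧ b ≠ 0 ∧ m.1 = Submodule.span F {a, b} := fun m h1 h2 => by
    obtain ⟨a, ha, ha0⟩ := Submodule.exists_mem_ne_zero_of_ne_bot h1.2.1
    obtain ⟨b, hb, hb0⟩ := Submodule.exists_mem_ne_zero_of_ne_bot h2.2.1
    exact ⟨a, b, ha.1, hb.1, ha0, hb0, span_eq_of_mem m.2.1 ha.2 hb.2 (hli ha.1 hb.1 ha0 hb0)⟩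
  rintro (h | h)
  · obtain ⟨a, ha, ha0⟩ := Submodule.exists_mem_ne_zero_of_ne_bot (p := l.1) (fun e => by
      have := l.2.1; rw [e, finrank_bot] at this; omega)
    obtain ⟨a', ha', hlia, -⟩ := exists_basis_through l.2.1 ha ha0
    obtain ⟨b, hb, hb0⟩ := Submodule.exists_mem_ne_zero_of_ne_bot (p := l'.1) (fun e => by
      have := l'.2.1; rw [e, finrank_bot] at this; omega)
    obtain ⟨b', hb', hlib, hlb⟩ := exists_basis_through l'.2.1 hb hb0
    have ha'0 : a' ≠ 0 := hlia.ne_zero 1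
    obtain ⟨m, hm1⟩ : ∃ m : TSLine Q, m.1 = Submodule.span F {a, b} :=
      ⟨mkLine hQ (hli ha hb ha0 hb0) (l.2.2 a ha) (l'.2.2 b hb) (hp a ha b hb), rfl⟩
    obtain ⟨m', hm2⟩ : ∃ m : TSLine Q, m.1 = Submodule.span F {a', b} :=
      ⟨mkLine hQ (hli ha' hb ha'0 hb0) (l.2.2 a' ha') (l'.2.2 b hb) (hp a' ha' b hb), rfl⟩
    have hadj : ∀ {c : V} (k : TSLine Q), c ∈ l.1 → c ≠ 0 → k.1 = Submodule.span F {c, b} →
        Adj Q l.1 k.1 ∧ Adj Q l'.1 k.1 := by
      intro c k hc hc0 hk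
      have hck : c ∈ k.1 := hk ▸ Submodule.subset_span (by simp)
      have hbk : b ∈ k.1 := hk ▸ Submodule.subset_span (by simp)
      refine ⟨⟨fun e => hb0 ((Submodule.eq_bot_iff _).1 hm b ⟨e.symm ▸ hbk, hb⟩), inf_ne_bot hc hck hc0, ?_⟩,
        ⟨fun e => hc0 ((Submodule.eq_bot_iff _).1 hm c ⟨hc, e.symm ▸ hck⟩), inf_ne_bot hb hbk hb0, ?_⟩⟩
      · intro x hx y hy
        rw [hk] at hy
        obtain ⟨s, t, rfl⟩ := Submodule.mem_span_pair.1 hy
        rw [padd_right hQ, psmul_right hQ, psmul_right hQ, hll x hx c hc, hp x hx b hb]; ring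
      · intro x hx y hy
        rw [hk] at hy
        obtain ⟨s, t, rfl⟩ := Submodule.mem_span_pair.1 hy
        rw [padd_right hQ, psmul_right hQ, psmul_right hQ, hp.symm x hx c hc, hll' x hx b hb]; ring
    refine h m m' (hadj m ha ha0 hm1).1 (hadj m ha ha0 hm1).2 (hadj m' ha' ha'0 hm2).1 (hadj m' ha' ha'0 hm2).2
      ⟨fun e => ?_, inf_ne_bot (hm1 ▸ Submodule.subset_span (by simp)) (hm2 ▸ Submodule.subset_span (by simp)) hb0, ?_⟩
    · have : a' ∈ Submodule.span F ({a, b} : Set V) := by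
        rw [← hm1, e, hm2]; exact Submodule.subset_span (by simp)
      obtain ⟨s, t, hst⟩ := Submodule.mem_span_pair.1 this
      have ht : t • b = 0 := (Submodule.eq_bot_iff _).1 hm _
        ⟨by rw [eq_sub_of_add_eq' hst]; exact l.1.sub_mem ha' (l.1.smul_mem _ ha), l'.1.smul_mem _ hb⟩
      rw [ht, add_zero] at hst
      exact (LinearIndependent.pair_iff' ha0).1 hlia s hst
    · rw [hm1, hm2]
      exact perp_span hQ (hll a ha a' ha') (hp a ha b hb) (hp.symm b hb a' ha') (hll' b hb b hb)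
  · obtain ⟨m, m', k₁, k₂, k₃, m1, m2, m1', m2', hmm, hnadj, h12, h13, h23, ⟨a1, a2, a3, a4⟩, ⟨b1, b2, b3, b4⟩,
      c1, c2, c3, c4⟩ := h
    obtain ⟨a, b, ha, hb, ha0, hb0, hmab⟩ := hshape m m1 m2
    obtain ⟨a', b', ha', hb', ha'0, hb'0, hmab'⟩ := hshape m' m1' m2'
    have hperp' : Perp Q m.1 m'.1 := by
      rw [hmab, hmab']
      exact perp_span hQ (hll a ha a' ha') (hp a ha b' hb') (hp.symm b hb a' ha') (hll' b hb b' hb')
    have hne_a : ∀ s : F, a' ≠ s • a := fun s e => hnadj ⟨fun e' => hmm (Subtype.ext e'),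
      inf_ne_bot (hmab ▸ e ▸ Submodule.smul_mem _ s (Submodule.subset_span (by simp)))
        (hmab' ▸ Submodule.subset_span (by simp)) ha'0, hperp'⟩
    have hne_b : ∀ s : F, b' ≠ s • b := fun s e => hnadj ⟨fun e' => hmm (Subtype.ext e'),
      inf_ne_bot (hmab ▸ e ▸ Submodule.smul_mem _ s (Submodule.subset_span (by simp)))
        (hmab' ▸ Submodule.subset_span (by simp)) hb'0, hperp'⟩
    have hk : ∀ k : TSLine Q, Adj Q l.1 k.1 → Adj Q l'.1 k.1 → Adj Q m.1 k.1 → Adj Q m'.1 k.1 →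
        k.1 = Submodule.span F {a, b'} ∨ k.1 = Submodule.span F {a', b} := by
      intro k k1 k2 k3 k4
      obtain ⟨c, d, hc, hd, hc0, hd0, hkcd⟩ := hshape k k1 k2
      have hmeet : ∀ {x y : V}, x ∈ l.1 → y ∈ l'.1 → Submodule.span F ({x, y} : Set V) ⊓ k.1 ≠ ⊥ →
          (∃ s : F, c = s • x) ∨ ∃ s : F, d = s • y := by
        intro x y hx hy h
        obtain ⟨z, hz, hz0⟩ := Submodule.exists_mem_ne_zero_of_ne_bot h
        obtain ⟨s, t, hst⟩ := Submodule.mem_span_pair.1 hz.1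
        obtain ⟨s', t', hst'⟩ := Submodule.mem_span_pair.1 (hkcd ▸ hz.2)
        have e : s • x - s' • c = t' • d - t • y := by
          rw [← hst] at hst'
          linear_combination (norm := module) -hst'
        have e0 : s • x - s' • c = 0 := (Submodule.eq_bot_iff _).1 hm _
          ⟨l.1.sub_mem (l.1.smul_mem _ hx) (l.1.smul_mem _ hc), e ▸ l'.1.sub_mem (l'.1.smul_mem _ hd) (l'.1.smul_mem _ hy)⟩
        rw [e0] at e
        by_cases hs : s' = 0
        · have ht' : t' ≠ 0 := fun e' => hz0 (by rw [← hst', hs, e', zero_smul, zero_smul, add_zero])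
          exact Or.inr ⟨t'⁻¹ * t, by rw [← smul_smul, ← sub_eq_zero.1 e.symm, inv_smul_smul₀ ht']⟩
        · exact Or.inl ⟨s'⁻¹ * s, by rw [← smul_smul, sub_eq_zero.1 e0, inv_smul_smul₀ hs]⟩
      have hin : ∀ {x y x' y' : V}, (∃ s : F, c = s • x) → (∃ s : F, d = s • y) →
          k.1 = Submodule.span F {x, y} := by
        rintro x y _ _ ⟨s, hs⟩ ⟨t, ht⟩
        rw [hkcd]
        refine Submodule.eq_of_le_of_finrank_le ?_ ?_
        · rw [Submodule.span_le]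
          intro z hz
          rcases hz with rfl | hz
          · rw [hs]; exact Submodule.smul_mem _ _ (Submodule.subset_span (by simp))
          · rw [Set.mem_singleton_iff] at hz
            rw [hz, ht]; exact Submodule.smul_mem _ _ (Submodule.subset_span (by simp))
        · rw [← hkcd, k.2.1]
          classical
          refine (finrank_span_le_card ({x, y} : Set V)).trans ?_
          rw [Set.toFinset_insert, Set.toFinset_singleton]; exact Finset.card_le_two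
      have hcs : ∀ {s t : F}, c = s • a → c = t • a' → False := fun {s t} e e' => by
        have ht : t ≠ 0 := fun h => hc0 (by rw [e', h, zero_smul])
        exact hne_a (t⁻¹ * s) (by rw [← smul_smul, ← e, e', inv_smul_smul₀ ht])
      have hds : ∀ {s t : F}, d = s • b → d = t • b' → False := fun {s t} e e' => by
        have ht : t ≠ 0 := fun h => hd0 (by rw [e', h, zero_smul])
        exact hne_b (t⁻¹ * s) (by rw [← smul_smul, ← e, e', inv_smul_smul₀ ht])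
      rcases hmeet ha hb (hmab ▸ k3.2.1) with ⟨s, hs⟩ | ⟨s, hs⟩ <;>
        rcases hmeet ha' hb' (hmab' ▸ k4.2.1) with ⟨t, ht⟩ | ⟨t, ht⟩
      · exact (hcs hs ht).elim
      · exact Or.inl (hin (x' := a) (y' := b) ⟨s, hs⟩ ⟨t, ht⟩)
      · exact Or.inr (hin (x' := a) (y' := b) ⟨t, ht⟩ ⟨s, hs⟩)
      · exact (hds hs ht).elim
    rcases hk k₁ a1 a2 a3 a4 with e1 | e1 <;> rcases hk k₂ b1 b2 b3 b4 with e2 | e2 <;>
      rcases hk k₃ c1 c2 c3 c4 with e3 | e3 <;>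
      first
        | exact h12 (Subtype.ext (e1.trans e2.symm))
        | exact h13 (Subtype.ext (e1.trans e3.symm))
        | exact h23 (Subtype.ext (e2.trans e3.symm))

variable [Fintype F]

theorem crit_of_meet (hn : 7 ≤ Fintype.card ι) (hT : NotTriality Q) (l l' : TSLine Q) (hne : l.1 ≠ l'.1)
    (hm : l.1 ⊓ l'.1 ≠ ⊥) (hnp : ¬ Perp Q l.1 l'.1) : Crit Q l.1 l'.1 := by
  by_cases hno : ∀ m m' : TSLine Q, Adj Q l.1 m.1 → Adj Q l'.1 m.1 → Adj Q l.1 m'.1 → Adj Q l'.1 m'.1 → ¬ Adj Q m.1 m'.1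
  · exact Or.inl hno
  refine Or.inr ?_
  push Not at hno
  obtain ⟨m₁, m₂, p1, p2, p3, p4, hadj12⟩ := hno
  obtain ⟨u, hu, hu0⟩ := Submodule.exists_mem_ne_zero_of_ne_bot hm
  obtain ⟨a₀, ha₀, hlia, hla⟩ := exists_basis_through l.2.1 hu.1 hu0
  obtain ⟨b₀, hb₀, hlib, hlb⟩ := exists_basis_through l'.2.1 hu.2 hu0
  have huQ : Q u = 0 := l.2.2 u hu.1
  have hua : pol Q u a₀ = 0 := perp_self hQ l.2.2 u hu.1 a₀ ha₀
  have hub : pol Q u b₀ = 0 := perp_self hQ l'.2.2 u hu.2 b₀ hb₀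
  have huu : pol Q u u = 0 := by rw [pself hQ, huQ, mul_zero]
  have hab : pol Q a₀ b₀ ≠ 0 := fun e => hnp (by
    rw [hla, hlb]; exact perp_span hQ huu hub (by rw [pcomm]; exact hua) e)
  obtain ⟨b, hb⟩ : ∃ b, b = (pol Q a₀ b₀)⁻¹ • b₀ := ⟨_, rfl⟩
  have hbQ : Q b = 0 := by rw [hb, qsmul hQ, l'.2.2 b₀ hb₀, mul_zero]
  have haQ : Q a₀ = 0 := l.2.2 a₀ ha₀
  have hab1 : pol Q a₀ b = 1 := by rw [hb, psmul_right hQ, inv_mul_cancel₀ hab]
  have hub' : pol Q u b = 0 := by rw [hb, psmul_right hQ, hub, mul_zero]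
  obtain ⟨P, hP⟩ : ∃ P, P = pairPerp hQ ⊤ a₀ b := ⟨_, rfl⟩
  have hPn : NdOn Q P := hP ▸ pair_nd hQ (P := ⊤) Submodule.mem_top Submodule.mem_top haQ hbQ hab1 (ndOn_top hQ)
  have hPd := pair_finrank hQ (P := ⊤) (e := a₀) (f := b) Submodule.mem_top Submodule.mem_top haQ hbQ hab1
  rw [finrank_top, Module.finrank_fintype_fun_eq_card, ← hP] at hPd
  have huP : u ∈ P := by rw [hP, mem_pairPerp hQ]; exact ⟨Submodule.mem_top, hua, hub'⟩
  obtain ⟨f, hfP, hfQ, huf⟩ := exists_qpartner hQ hPn huP hu0 huQ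
  obtain ⟨W, hW⟩ : ∃ W, W = pairPerp hQ P u f := ⟨_, rfl⟩
  have hWn : NdOn Q W := hW ▸ pair_nd hQ huP hfP huQ hfQ huf hPn
  have hWd := pair_finrank hQ huP hfP huQ hfQ huf
  rw [← hW] at hWd
  have hWm : ∀ c ∈ W, pol Q c a₀ = 0 ∧ pol Q c b₀ = 0 ∧ pol Q c u = 0 ∧ pol Q c f = 0 := fun c hc => by
    obtain ⟨hcP, hcu, hcf⟩ := (mem_pairPerp hQ).1 (hW ▸ hc)
    obtain ⟨-, hca, hcb⟩ := (mem_pairPerp hQ).1 (hP ▸ hcP)
    refine ⟨hca, ?_, hcu, hcf⟩
    rw [hb, psmul_right hQ] at hcb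
    exact (mul_eq_zero.1 hcb).resolve_left (inv_ne_zero hab)
  have hliu : ∀ {c : V}, c ∈ W → c ≠ 0 → LinearIndependent F ![u, c] := fun {c} hc hc0 =>
    (LinearIndependent.pair_iff' hu0).2 fun s hs => by
      have h1 := congrArg (fun x => pol Q x f) hs
      simp only [psmul_left hQ, huf, mul_one, (hWm c hc).2.2.2] at h1
      exact hc0 (by rw [← hs, h1, zero_smul])
  obtain ⟨L, hL⟩ : ∃ L : ∀ c, c ∈ W → c ≠ 0 → Q c = 0 → TSLine Q, ∀ c h1 h2 h3,
      (L c h1 h2 h3).1 = Submodule.span F {u, c} :=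
    ⟨fun c h1 h2 h3 => mkLine hQ (hliu h1 h2) huQ h3 (by rw [pcomm]; exact (hWm c h1).2.2.1), fun _ _ _ _ => rfl⟩
  have hLadj : ∀ c h1 h2 h3, Adj Q l.1 (L c h1 h2 h3).1 ∧ Adj Q l'.1 (L c h1 h2 h3).1 := by
    intro c h1 h2 h3
    obtain ⟨e1, e2, e3, e4⟩ := hWm c h1
    have hcL : c ∈ (L c h1 h2 h3).1 := hL c h1 h2 h3 ▸ Submodule.subset_span (by simp)
    have huL : u ∈ (L c h1 h2 h3).1 := hL c h1 h2 h3 ▸ Submodule.subset_span (by simp)
    have ha0L : a₀ ∉ (L c h1 h2 h3).1 := fun h => by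
      rw [hL] at h
      obtain ⟨s, t, hst⟩ := Submodule.mem_span_pair.1 h
      have := congrArg (fun x => pol Q x b₀) hst
      simp only [padd_left hQ, psmul_left hQ, hub, e2, mul_zero, add_zero] at this
      exact hab this.symm
    have hb0L : b₀ ∉ (L c h1 h2 h3).1 := fun h => by
      rw [hL] at h
      obtain ⟨s, t, hst⟩ := Submodule.mem_span_pair.1 h
      have := congrArg (fun x => pol Q a₀ x) hst
      simp only [padd_right hQ, psmul_right hQ, pcomm a₀ u, hua, pcomm a₀ c, e1, mul_zero, add_zero] at this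
      exact hab this.symm
    refine ⟨⟨fun e => ha0L (e ▸ ha₀), inf_ne_bot hu.1 huL hu0, ?_⟩, ⟨fun e => hb0L (e ▸ hb₀), inf_ne_bot hu.2 huL hu0, ?_⟩⟩
    · rw [hla, hL]
      exact perp_span hQ huu (by rw [pcomm]; exact e3) (by rw [pcomm]; exact hua) (by rw [pcomm]; exact e1)
    · rw [hlb, hL]
      exact perp_span hQ huu (by rw [pcomm]; exact e3) (by rw [pcomm]; exact hub) (by rw [pcomm]; exact e2)
  have hLinj : ∀ {c d : V} {h1 h2 h3 h1' h2' h3'}, L c h1 h2 h3 = L d h1' h2' h3' → ∃ s : F, c = s • d := by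
    intro c d h1 h2 h3 h1' h2' h3' e
    have hc : c ∈ Submodule.span F ({u, d} : Set V) := by
      rw [← hL d h1' h2' h3', ← e, hL]; exact Submodule.subset_span (by simp)
    obtain ⟨s, t, hst⟩ := Submodule.mem_span_pair.1 hc
    refine ⟨t, ?_⟩
    have h' := congrArg (fun x => pol Q x f) hst
    simp only [padd_left hQ, psmul_left hQ, huf, (hWm d h1').2.2.2, (hWm c h1).2.2.2, mul_zero, mul_one, add_zero] at h'
    rw [← hst, h', zero_smul, zero_add]
  have hLrel : ∀ {c d : V} {h1 h2 h3 h1' h2' h3'}, (¬ ∃ s : F, c = s • d) → pol Q c d = 0 →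
      Adj Q (L c h1 h2 h3).1 (L d h1' h2' h3').1 := by
    intro c d h1 h2 h3 h1' h2' h3' hne' hcd
    refine ⟨fun e => hne' (hLinj (Subtype.ext e)), inf_ne_bot (x := u) (hL c h1 h2 h3 ▸ Submodule.subset_span (by simp))
      (hL d h1' h2' h3' ▸ Submodule.subset_span (by simp)) hu0, ?_⟩
    rw [hL, hL]
    exact perp_span hQ huu (by rw [pcomm]; exact (hWm d h1').2.2.1) (hWm c h1).2.2.1 hcd
  -- the adjacent pair gives two orthogonal singular points of `W`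
  have hpt : ∀ m : TSLine Q, Adj Q l.1 m.1 → Adj Q l'.1 m.1 → ∃ c ∈ W, c ≠ 0 ∧ Q c = 0 ∧ c ∈ m.1 ∧ u ∈ m.1 := by
    intro m h1 h2
    obtain ⟨x, hx, hx0⟩ := Submodule.exists_mem_ne_zero_of_ne_bot h1.2.1
    have hum : u ∈ m.1 := by
      obtain ⟨s, t, hst⟩ := Submodule.mem_span_pair.1 (hla ▸ hx.1)
      have h' := h2.2.2 b₀ hb₀ x hx.2
      rw [← hst, padd_right hQ, psmul_right hQ, psmul_right hQ, pcomm b₀ u, hub, mul_zero, zero_add, pcomm b₀ a₀] at h'
      have ht : t = 0 := (mul_eq_zero.1 h').resolve_right hab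
      rw [ht, zero_smul, add_zero] at hst
      have hs : s ≠ 0 := fun e => hx0 (by rw [← hst, e, zero_smul])
      rw [← inv_smul_smul₀ hs u, hst]
      exact m.1.smul_mem _ hx.2
    obtain ⟨y, hy, hliy, -⟩ := exists_basis_through m.2.1 hum hu0
    have hya : pol Q y a₀ = 0 := by rw [pcomm]; exact h1.2.2 a₀ ha₀ y hy
    have hyb : pol Q y b = 0 := by rw [hb, psmul_right hQ, pcomm y b₀, h2.2.2 b₀ hb₀ y hy, mul_zero]
    have hyu : pol Q y u = 0 := perp_self hQ m.2.2 y hy u hum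
    have hyP : y ∈ P := by rw [hP, mem_pairPerp hQ]; exact ⟨Submodule.mem_top, hya, hyb⟩
    have hproj := pair_proj hQ huP hfP huQ hfQ huf hyP
    rw [hyu, zero_smul, sub_zero, ← hW] at hproj
    refine ⟨_, hproj, fun e => ?_, ?_, m.1.sub_mem hy (m.1.smul_mem _ hum), hum⟩
    · exact (LinearIndependent.pair_iff' hu0).1 hliy (pol Q y f) (sub_eq_zero.1 e).symm
    · exact m.2.2 _ (m.1.sub_mem hy (m.1.smul_mem _ hum))
  obtain ⟨c₁, hc₁, hc₁0, hc₁Q, hc₁m, hum₁⟩ := hpt m₁ p1 p2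
  obtain ⟨c₂, hc₂, hc₂0, hc₂Q, hc₂m, hum₂⟩ := hpt m₂ p3 p4
  have hc12 : pol Q c₁ c₂ = 0 := hadj12.2.2 c₁ hc₁m c₂ hc₂m
  have hnp12 : ∀ s : F, c₂ ≠ s • c₁ := fun s e => hadj12.1 (by
    rw [span_eq_of_mem m₁.2.1 hum₁ hc₁m (hliu hc₁ hc₁0), span_eq_of_mem m₂.2.1 hum₂ (e ▸ hc₂m) (hliu (e ▸ hc₂) (e ▸ hc₂0))]
    have hs : s ≠ 0 := fun h => hc₂0 (by rw [e, h, zero_smul])
    rw [Submodule.span_insert, Submodule.span_insert, Submodule.span_singleton_smul_eq (IsUnit.mk0 s hs)])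
  obtain ⟨g₁, hg₁, hg₁Q, hcg⟩ := exists_qpartner hQ hWn hc₁ hc₁0 hc₁Q
  have hg₁0 : g₁ ≠ 0 := fun e => by rw [e, pzero_right hQ] at hcg; exact zero_ne_one hcg
  obtain ⟨W', hW'⟩ : ∃ W', W' = pairPerp hQ W c₁ g₁ := ⟨_, rfl⟩
  have hW'n : NdOn Q W' := hW' ▸ pair_nd hQ hc₁ hg₁ hc₁Q hg₁Q hcg hWn
  have hW'd := pair_finrank hQ hc₁ hg₁ hc₁Q hg₁Q hcg
  rw [← hW'] at hW'd
  have hW'm : ∀ x ∈ W', x ∈ W ∧ pol Q x c₁ = 0 ∧ pol Q x g₁ = 0 := fun x hx => (mem_pairPerp hQ).1 (hW' ▸ hx)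
  have hproj := pair_proj hQ hc₁ hg₁ hc₁Q hg₁Q hcg hc₂
  rw [pcomm c₂ c₁, hc12, zero_smul, sub_zero, ← hW'] at hproj
  obtain ⟨d₁, hd₁⟩ : ∃ d, d = c₂ - pol Q c₂ g₁ • c₁ := ⟨_, rfl⟩
  rw [← hd₁] at hproj
  have hd₁0 : d₁ ≠ 0 := fun e => hnp12 _ (sub_eq_zero.1 (hd₁ ▸ e))
  have hd₁Q : Q d₁ = 0 := by rw [hd₁, qsub hQ, qsmul hQ, psmul_right hQ, hc₂Q, hc₁Q, pcomm c₂ c₁, hc12]; ring
  obtain ⟨d₂, hd₂, hd₂Q, hdd⟩ := exists_qpartner hQ hW'n hproj hd₁0 hd₁Q
  obtain ⟨W₃, hW₃⟩ : ∃ W₃, W₃ = pairPerp hQ W' d₁ d₂ := ⟨_, rfl⟩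
  have hW₃ne : W₃ ≠ ⊥ := fun e => by
    have hW₃d := pair_finrank hQ hproj hd₂ hd₁Q hd₂Q hdd
    rw [← hW₃, e, finrank_bot] at hW₃d
    -- only the dimension eight is left
    rcases Nat.lt_or_ge (Fintype.card ι) 8 with h | h
    · have h1 : 2 ≤ Module.finrank F W' := by
        have hli : LinearIndependent F ![d₁, d₂] := (LinearIndependent.pair_iff' hd₁0).2 fun s hs => by
          have h' := congrArg (fun x => pol Q d₁ x) hs
          simp only [psmul_right hQ, pself hQ d₁, hd₁Q, hdd, mul_zero] at h'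
          exact zero_ne_one h'
        rw [← finrank_span_pair hli]
        refine Submodule.finrank_mono ?_
        rw [Submodule.span_le]
        intro y hy
        rcases hy with rfl | rfl
        · exact hproj
        · exact hd₂
      have e4 : Module.finrank F W' + 2 ≤ Module.finrank F W := by
        have hli : LinearIndependent F ![c₁, g₁] := (LinearIndependent.pair_iff' hc₁0).2 fun s hs => by
          have h' := congrArg (fun x => pol Q c₁ x) hs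
          simp only [psmul_right hQ, pself hQ c₁, hc₁Q, hcg, mul_zero] at h'
          exact zero_ne_one h'
        have hdisj : W' ⊓ Submodule.span F {c₁, g₁} = ⊥ := (Submodule.eq_bot_iff _).2 fun y hy => by
          obtain ⟨s, t, hst⟩ := Submodule.mem_span_pair.1 hy.2
          obtain ⟨-, y1, y2⟩ := hW'm y hy.1
          rw [← hst, padd_left hQ, psmul_left hQ, psmul_left hQ, pself hQ c₁, hc₁Q, pcomm g₁ c₁, hcg] at y1
          rw [← hst, padd_left hQ, psmul_left hQ, psmul_left hQ, pself hQ g₁, hg₁Q, hcg] at y2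
          simp only [mul_zero, zero_add, mul_one, add_zero] at y1 y2
          rw [← hst, y1, y2, zero_smul, zero_smul, add_zero]
        have h5 := Submodule.finrank_sup_add_finrank_inf_eq W' (Submodule.span F {c₁, g₁})
        rw [hdisj, finrank_bot, add_zero, finrank_span_pair hli] at h5
        rw [← h5]
        refine Submodule.finrank_mono (sup_le (fun y hy => (hW'm y hy).1) ?_)
        rw [Submodule.span_le]
        intro y hy
        rcases hy with rfl | rfl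
        · exact hc₁
        · exact hg₁
      have e5 : Module.finrank F W + 4 ≤ Fintype.card ι := by
        have hle : (Submodule.span F {a₀, b} ⊔ Submodule.span F {u, f}) ≤ qperp hQ W := by
          refine sup_le ?_ ?_ <;> rw [Submodule.span_le] <;> intro y hy c hc
          · rcases hy with rfl | rfl
            · rw [pcomm]; exact (hWm c hc).1
            · rw [pcomm, hb, psmul_right hQ, (hWm c hc).2.1, mul_zero]
          · rcases hy with rfl | rfl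
            · rw [pcomm]; exact (hWm c hc).2.2.1
            · rw [pcomm]; exact (hWm c hc).2.2.2
        have hd1 : LinearIndependent F ![a₀, b] := (LinearIndependent.pair_iff' (show a₀ ≠ 0 from hlia.ne_zero 1)).2 fun s hs => by
          have h' := congrArg (fun x => pol Q a₀ x) hs
          simp only [psmul_right hQ, pself hQ a₀, haQ, hab1, mul_zero] at h'
          exact zero_ne_one h'
        have hd2 : LinearIndependent F ![u, f] := (LinearIndependent.pair_iff' hu0).2 fun s hs => by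
          have h' := congrArg (fun x => pol Q u x) hs
          simp only [psmul_right hQ, huu, huf, mul_zero] at h'
          exact zero_ne_one h'
        have hdisj : Submodule.span F ({a₀, b} : Set V) ⊓ Submodule.span F {u, f} = ⊥ := (Submodule.eq_bot_iff _).2 fun y hy => by
          obtain ⟨s, t, hst⟩ := Submodule.mem_span_pair.1 hy.1
          obtain ⟨s', t', hst'⟩ := Submodule.mem_span_pair.1 hy.2
          have hfa := ((mem_pairPerp hQ).1 (hP ▸ hfP)).2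
          have y1 := congrArg (fun x => pol Q x a₀) (hst.trans hst'.symm)
          have y2 := congrArg (fun x => pol Q x b) (hst.trans hst'.symm)
          simp only [padd_left hQ, psmul_left hQ, pself hQ a₀, pself hQ b, haQ, hbQ, pcomm b a₀, hab1, hua, hub',
            hfa.1, hfa.2, mul_zero, mul_one, zero_add, add_zero] at y1 y2
          rw [← hst, y1, y2, zero_smul, zero_smul, add_zero]
        have h5 := Submodule.finrank_sup_add_finrank_inf_eq (Submodule.span F ({a₀, b} : Set V)) (Submodule.span F {u, f})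
        rw [hdisj, finrank_bot, add_zero, finrank_span_pair hd1, finrank_span_pair hd2] at h5
        have := Submodule.finrank_mono hle
        have := finrank_qperp_le hQ W
        omega
      omega
    · have h8 : Fintype.card ι = 8 := by omega
      have hdW := (hW'm d₁ hproj).1
      obtain ⟨a1, a2, a3, a4⟩ := hWm c₁ hc₁
      obtain ⟨b1, b2, b3, b4⟩ := hWm d₁ hdW
      have hli : LinearIndependent F ![u, a₀, c₁, d₁] := by
        rw [Fintype.linearIndependent_iff]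
        intro g hg
        simp only [Fin.sum_univ_four, Matrix.cons_val_zero, Matrix.cons_val_one, Matrix.cons_val] at hg
        have f1 := congrArg (fun x => pol Q x b) hg
        have f2 := congrArg (fun x => pol Q x f) hg
        have f3 := congrArg (fun x => pol Q x g₁) hg
        have f4 := congrArg (fun x => pol Q x d₂) hg
        simp only [padd_left hQ, psmul_left hQ, pzero_left hQ] at f1 f2 f3 f4
        have cb : pol Q c₁ b = 0 := by rw [hb, psmul_right hQ, a2, mul_zero]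
        have db : pol Q d₁ b = 0 := by rw [hb, psmul_right hQ, b2, mul_zero]
        have af : pol Q a₀ f = 0 := by rw [pcomm]; exact ((mem_pairPerp hQ).1 (hP ▸ hfP)).2.1
        obtain ⟨ga, -, gu, -⟩ := hWm g₁ hg₁
        obtain ⟨da, -, du, -⟩ := hWm d₂ (hW'm d₂ hd₂).1
        simp only [hub', hab1, cb, db, huf, af, a4, b4, pcomm u g₁, gu, pcomm a₀ g₁, ga, hcg, (hW'm d₁ hproj).2.2,
          pcomm u d₂, du, pcomm a₀ d₂, da, pcomm c₁ d₂, (hW'm d₂ hd₂).2.1, hdd, mul_zero, mul_one, zero_add,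
          add_zero] at f1 f2 f3 f4
        intro i
        fin_cases i <;> assumption
      have hts : ∀ x ∈ Submodule.span F (Set.range ![u, a₀, c₁, d₁]), Q x = 0 := by
        intro x hx
        obtain ⟨g, rfl⟩ := (Submodule.mem_span_range_iff_exists_fun F).1 hx
        have hc1d : pol Q c₁ d₁ = 0 := by rw [pcomm]; exact (hW'm d₁ hproj).2.1
        simp only [Fin.sum_univ_four, Matrix.cons_val_zero, Matrix.cons_val_one, Matrix.cons_val, qadd hQ, qsmul hQ,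
          padd_left hQ, psmul_left hQ, psmul_right hQ, huQ, haQ, hc₁Q, hd₁Q, hua, pcomm u c₁, a3, pcomm u d₁, b3,
          pcomm a₀ c₁, a1, pcomm a₀ d₁, b1, hc1d, mul_zero, add_zero, zero_add]
      have h3 := hT h8 _ hts
      rw [finrank_span_eq_card hli, Fintype.card_fin] at h3
      omega
  obtain ⟨w, hw, hwQ⟩ := exists_nonsingular hQ (hW₃ ▸ pair_nd hQ hproj hd₂ hd₁Q hd₂Q hdd hW'n) hW₃ne
  obtain ⟨hwW', hwd1, hwd2⟩ := (mem_pairPerp hQ).1 (hW₃ ▸ hw)
  obtain ⟨d₃, hd₃⟩ : ∃ d, d = d₁ + (-Q w) • d₂ + w := ⟨_, rfl⟩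
  have hd₃W' : d₃ ∈ W' := hd₃ ▸ W'.add_mem (W'.add_mem hproj (W'.smul_mem _ hd₂)) hwW'
  have hd₃Q : Q d₃ = 0 := by
    rw [hd₃]
    simp only [qadd hQ, qsmul hQ, padd_left hQ, psmul_left hQ, psmul_right hQ, hd₁Q, hd₂Q, hdd, pcomm d₁ w, hwd1,
      pcomm d₂ w, hwd2]
    ring
  have hd₂0 : d₂ ≠ 0 := fun e => by rw [e, pzero_right hQ] at hdd; exact zero_ne_one hdd
  have hd₃0 : d₃ ≠ 0 := fun e => by
    have h' := congrArg (fun x => pol Q x d₂) e
    simp only [hd₃, padd_left hQ, psmul_left hQ, hdd, pself hQ d₂, hd₂Q, hwd2, pzero_left hQ, mul_zero, add_zero] at h'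
    exact one_ne_zero h'
  have hnp13 : ¬ ∃ s : F, d₁ = s • d₃ := fun ⟨s, hs⟩ => by
    have h1 := congrArg (fun x => pol Q x d₂) hs
    have h2 := congrArg (fun x => pol Q x d₁) hs
    simp only [psmul_left hQ, hd₃, padd_left hQ, hdd, pself hQ d₂, pself hQ d₁, hd₁Q, hd₂Q, hwd1, hwd2, pcomm d₂ d₁,
      mul_zero, add_zero, zero_add, mul_one] at h1 h2
    rw [← h1, one_mul, zero_eq_neg] at h2
    exact hwQ h2
  have hnp12' : ¬ ∃ s : F, d₁ = s • d₂ := fun ⟨s, hs⟩ => by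
    have h1 := congrArg (fun x => pol Q x d₂) hs
    simp only [psmul_left hQ, hdd, pself hQ d₂, hd₂Q, mul_zero] at h1
    exact one_ne_zero h1
  have hnp23 : ¬ ∃ s : F, d₂ = s • d₃ := fun ⟨s, hs⟩ => by
    have h1 := congrArg (fun x => pol Q x d₂) hs
    simp only [psmul_left hQ, hd₃, padd_left hQ, hdd, pself hQ d₂, hd₂Q, hwd2, mul_zero, add_zero, mul_one] at h1
    rw [← h1, zero_smul] at hs
    exact hd₂0 hs
  have hW'W : ∀ {x : V}, x ∈ W' → x ∈ W := fun hx => (hW'm _ hx).1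
  have hx12 : ∀ {x : V}, x ∈ W' → x ≠ 0 → (¬ ∃ s : F, c₁ = s • x) ∧ (¬ ∃ s : F, g₁ = s • x) := by
    intro x hx hx0
    constructor <;> rintro ⟨s, hs⟩
    · have h1 := congrArg (fun y => pol Q y g₁) hs
      simp only [psmul_left hQ, hcg, (hW'm x hx).2.2, mul_zero] at h1
      exact one_ne_zero h1
    · have h1 := congrArg (fun y => pol Q c₁ y) hs
      simp only [psmul_right hQ, hcg, pcomm c₁ x, (hW'm x hx).2.1, mul_zero] at h1
      exact one_ne_zero h1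
  refine ⟨L c₁ hc₁ hc₁0 hc₁Q, L g₁ hg₁ hg₁0 hg₁Q, L d₁ (hW'W hproj) hd₁0 hd₁Q, L d₂ (hW'W hd₂) hd₂0 hd₂Q,
    L d₃ (hW'W hd₃W') hd₃0 hd₃Q, (hLadj _ _ _ _).1, (hLadj _ _ _ _).2, (hLadj _ _ _ _).1, (hLadj _ _ _ _).2,
    fun e => ?_, fun h => ?_, fun e => hnp12' (hLinj e), fun e => hnp13 (hLinj e), fun e => hnp23 (hLinj e),
    ⟨(hLadj _ _ _ _).1, (hLadj _ _ _ _).2, hLrel (hx12 hproj hd₁0).1 (by rw [pcomm]; exact (hW'm _ hproj).2.1),
      hLrel (hx12 hproj hd₁0).2 (by rw [pcomm]; exact (hW'm _ hproj).2.2)⟩,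
    ⟨(hLadj _ _ _ _).1, (hLadj _ _ _ _).2, hLrel (hx12 hd₂ hd₂0).1 (by rw [pcomm]; exact (hW'm _ hd₂).2.1),
      hLrel (hx12 hd₂ hd₂0).2 (by rw [pcomm]; exact (hW'm _ hd₂).2.2)⟩,
    ⟨(hLadj _ _ _ _).1, (hLadj _ _ _ _).2, hLrel (hx12 hd₃W' hd₃0).1 (by rw [pcomm]; exact (hW'm _ hd₃W').2.1),
      hLrel (hx12 hd₃W' hd₃0).2 (by rw [pcomm]; exact (hW'm _ hd₃W').2.2)⟩⟩
  · obtain ⟨s, hs⟩ := hLinj e
    have h1 := congrArg (fun x => pol Q x g₁) hs
    simp only [psmul_left hQ, hcg, pself hQ g₁, hg₁Q, mul_zero] at h1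
    exact one_ne_zero h1
  · have h1 := h.2.2 c₁ (hL c₁ hc₁ hc₁0 hc₁Q ▸ Submodule.subset_span (by simp)) g₁
      (hL g₁ hg₁ hg₁0 hg₁Q ▸ Submodule.subset_span (by simp))
    rw [hcg] at h1
    exact one_ne_zero h1

/-- meeting of lines in terms of the two preserved relations -/
theorem meet_iff (hn : 7 ≤ Fintype.card ι) (hT : NotTriality Q) (l l' : TSLine Q) :
    l.1 ⊓ l'.1 ≠ ⊥ ↔ (l = l' ∨ (Rel Q l.1 l'.1 ∧ (Adj Q l.1 l'.1 ∨ Crit Q l.1 l'.1))) := by
  constructor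
  · intro hm
    by_cases he : l = l'
    · exact Or.inl he
    refine Or.inr ⟨Or.inl hm, ?_⟩
    by_cases hp : Perp Q l.1 l'.1
    · exact Or.inl ⟨fun e => he (Subtype.ext e), hm, hp⟩
    · exact Or.inr (crit_of_meet hQ hn hT l l' (fun e => he (Subtype.ext e)) hm hp)
  · rintro (rfl | ⟨hr, ha | hc⟩)
    · rw [inf_idem]
      exact fun e => by have := l.2.1; rw [e, finrank_bot] at this; omega
    · exact ha.2.1
    · intro hm
      exact crit_false_of_disjoint hQ l l' hm (hr.resolve_left fun h => h hm) hc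

theorem lineMap_crit (hn : 7 ≤ Fintype.card ι) (β : MulAut (Cfsg.POmega F Q)) (l l' : TSLine Q)
    (h : Crit Q l.1 l'.1) : Crit Q (lineMap hQ hn β l).1 (lineMap hQ hn β l').1 := by
  have hb := lineMap_bijective hQ hn β
  have ha := lineMap_adj hQ hn β
  rcases h with h | ⟨m, m', k₁, k₂, k₃, m1, m2, m3, m4, hmm, hna, h12, h13, h23, ⟨a1, a2, a3, a4⟩, ⟨b1, b2, b3, b4⟩,
      c1, c2, c3, c4⟩
  · refine Or.inl fun M M' q1 q2 q3 q4 => ?_
    obtain ⟨m, rfl⟩ := hb.2 M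
    obtain ⟨m', rfl⟩ := hb.2 M'
    rw [ha] at q1 q2 q3 q4 ⊢
    exact h m m' q1 q2 q3 q4
  · exact Or.inr ⟨_, _, _, _, _, (ha _ _).2 m1, (ha _ _).2 m2, (ha _ _).2 m3, (ha _ _).2 m4, hb.1.ne hmm,
      fun h => hna ((ha _ _).1 h), hb.1.ne h12, hb.1.ne h13, hb.1.ne h23,
      ⟨(ha _ _).2 a1, (ha _ _).2 a2, (ha _ _).2 a3, (ha _ _).2 a4⟩,
      ⟨(ha _ _).2 b1, (ha _ _).2 b2, (ha _ _).2 b3, (ha _ _).2 b4⟩,
      ⟨(ha _ _).2 c1, (ha _ _).2 c2, (ha _ _).2 c3, (ha _ _).2 c4⟩⟩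

theorem lineMap_meet (hn : 7 ≤ Fintype.card ι) (hT : NotTriality Q) (β : MulAut (Cfsg.POmega F Q)) (l l' : TSLine Q) :
    (lineMap hQ hn β l).1 ⊓ (lineMap hQ hn β l').1 ≠ ⊥ ↔ l.1 ⊓ l'.1 ≠ ⊥ := by
  rw [meet_iff hQ hn hT, meet_iff hQ hn hT, (lineMap_bijective hQ hn β).1.eq_iff, lineMap_rel, lineMap_adj]
  refine or_congr Iff.rfl (and_congr Iff.rfl (or_congr Iff.rfl ⟨fun h => ?_, lineMap_crit hQ hn β l l'⟩))
  have := lineMap_crit hQ hn β.symm _ _ h
  rwa [lineMap_symm, lineMap_symm] at this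

/-- a singular point is the common point of two non-orthogonal lines -/
theorem exists_star_pair (hn : 7 ≤ Fintype.card ι) {u : V} (hu0 : u ≠ 0) (hu : Q u = 0) :
    ∃ l l' : TSLine Q, l.1 ≠ l'.1 ∧ u ∈ l.1 ∧ u ∈ l'.1 ∧ ¬ Perp Q l.1 l'.1 := by
  obtain ⟨f, -, hf, huf⟩ := exists_qpartner hQ (ndOn_top hQ) Submodule.mem_top hu0 hu
  obtain ⟨P, hP⟩ : ∃ P, P = pairPerp hQ ⊤ u f := ⟨_, rfl⟩
  have hPn : NdOn Q P := hP ▸ pair_nd hQ (P := ⊤) Submodule.mem_top Submodule.mem_top hu hf huf (ndOn_top hQ)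
  have hPd := pair_finrank hQ (P := ⊤) (e := u) (f := f) Submodule.mem_top Submodule.mem_top hu hf huf
  rw [finrank_top, Module.finrank_fintype_fun_eq_card, ← hP] at hPd
  obtain ⟨a, haP, ha0, haQ⟩ := exists_qsingular hQ hPn (by omega)
  obtain ⟨b, hbP, hbQ, hab⟩ := exists_qpartner hQ hPn haP ha0 haQ
  have hli : ∀ {x : V}, x ∈ P → x ≠ 0 → LinearIndependent F ![u, x] := fun {x} hx hx0 =>
    (LinearIndependent.pair_iff' hu0).2 fun s hs => hx0 (by
      have h := congrArg (fun y => pol Q y f) hs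
      simp only [psmul_left hQ, huf, mul_one, ((mem_pairPerp hQ).1 (hP ▸ hx)).2.2] at h
      rw [← hs, h, zero_smul])
  have hb0 : b ≠ 0 := fun e => by rw [e, pzero_right hQ] at hab; exact zero_ne_one hab
  have hux : ∀ {x : V}, x ∈ P → pol Q u x = 0 := fun {x} hx => by
    rw [pcomm]; exact ((mem_pairPerp hQ).1 (hP ▸ hx)).2.1
  refine ⟨mkLine hQ (hli haP ha0) hu haQ (hux haP), mkLine hQ (hli hbP hb0) hu hbQ (hux hbP), fun e => ?_,
    Submodule.subset_span (by simp), Submodule.subset_span (by simp), fun h => ?_⟩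
  · have : b ∈ Submodule.span F ({u, a} : Set V) := by
      rw [show Submodule.span F ({u, a} : Set V) = Submodule.span F {u, b} from e]; exact Submodule.subset_span (by simp)
    obtain ⟨s, t, hst⟩ := Submodule.mem_span_pair.1 this
    have h1 := congrArg (fun x => pol Q a x) hst
    simp only [padd_right hQ, psmul_right hQ, pcomm a u, hux haP, pself hQ a, haQ, hab, mul_zero, add_zero] at h1
    exact zero_ne_one h1
  · exact one_ne_zero (hab.symm.trans (h a (Submodule.subset_span (by simp)) b (Submodule.subset_span (by simp))))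

omit [Fintype F] in
theorem mem_star_iff {l l' : TSLine Q} (hne : l.1 ≠ l'.1) {u : V} (hu0 : u ≠ 0) (hul : u ∈ l.1) (hul' : u ∈ l'.1)
    (hnp : ¬ Perp Q l.1 l'.1) (m : TSLine Q) : u ∈ m.1 ↔ l.1 ⊓ m.1 ≠ ⊥ ∧ l'.1 ⊓ m.1 ≠ ⊥ := by
  refine ⟨fun h => ⟨inf_ne_bot hul h hu0, inf_ne_bot hul' h hu0⟩, fun ⟨h1, h2⟩ => ?_⟩
  obtain ⟨p, hp, hp0⟩ := Submodule.exists_mem_ne_zero_of_ne_bot h1
  obtain ⟨p', hp', hp'0⟩ := Submodule.exists_mem_ne_zero_of_ne_bot h2
  by_contra hum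
  have hlip : LinearIndependent F ![u, p] := (LinearIndependent.pair_iff' hu0).2 fun s hs => by
    have hs0 : s ≠ 0 := fun e => hp0 (by rw [← hs, e, zero_smul])
    exact hum (by rw [← inv_smul_smul₀ hs0 u, hs]; exact m.1.smul_mem _ hp.2)
  have hlip' : LinearIndependent F ![u, p'] := (LinearIndependent.pair_iff' hu0).2 fun s hs => by
    have hs0 : s ≠ 0 := fun e => hp'0 (by rw [← hs, e, zero_smul])
    exact hum (by rw [← inv_smul_smul₀ hs0 u, hs]; exact m.1.smul_mem _ hp'.2)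
  refine hnp ?_
  rw [span_eq_of_mem l.2.1 hul hp.1 hlip, span_eq_of_mem l'.2.1 hul' hp'.1 hlip']
  exact perp_span hQ (perp_self hQ l.2.2 u hul u hul) (perp_self hQ l'.2.2 u hul' p' hp'.1)
    (perp_self hQ l.2.2 p hp.1 u hul) (perp_self hQ m.2.2 p hp.2 p' hp'.2)

theorem exists_image_point (hn : 7 ≤ Fintype.card ι) (hT : NotTriality Q) (β : MulAut (Cfsg.POmega F Q)) {u : V}
    (hu0 : u ≠ 0) (hu : Q u = 0) :
    ∃ w : V, w ≠ 0 ∧ Q w = 0 ∧ ∀ m : TSLine Q, u ∈ m.1 ↔ w ∈ (lineMap hQ hn β m).1 := by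
  obtain ⟨l, l', hne, hul, hul', hnp⟩ := exists_star_pair hQ hn hu0 hu
  have hm : (lineMap hQ hn β l).1 ⊓ (lineMap hQ hn β l').1 ≠ ⊥ :=
    (lineMap_meet hQ hn hT β l l').2 (inf_ne_bot hul hul' hu0)
  obtain ⟨w, hw, hw0⟩ := Submodule.exists_mem_ne_zero_of_ne_bot hm
  have hne' : (lineMap hQ hn β l).1 ≠ (lineMap hQ hn β l').1 := fun e =>
    hne (congrArg Subtype.val ((lineMap_bijective hQ hn β).1 (Subtype.ext e)))
  have hnp' : ¬ Perp Q (lineMap hQ hn β l).1 (lineMap hQ hn β l').1 := fun h =>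
    hnp ((lineMap_adj hQ hn β l l').1 ⟨hne', hm, h⟩).2.2
  refine ⟨w, hw0, (lineMap hQ hn β l).2.2 w hw.1, fun m => ?_⟩
  rw [mem_star_iff hQ hne hu0 hul hul' hnp, mem_star_iff hQ hne' hw0 hw.1 hw.2 hnp', lineMap_meet hQ hn hT,
    lineMap_meet hQ hn hT]

end CfsgLib.Orth.Aut
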