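import Cfsg.Agent.Lib.Orth.Aut.Roots
import Cfsg.Agent.Lib.Perm.Trans.QuadSimple
import Mathlib.GroupTheory.Sylow

/-!
# Automorphisms permute the long root elements
-/

set_option autoImplicit false
set_option linter.all false

namespace CfsgLib.Orth.Aut

open scoped Matrix
open Matrix Cfsg.Geo CfsgLib.Orth CfsgLib.Perm.Asch CfsgLib.Perm.Trans CfsgLib.Perm.Trans.Quad

variable {ι : Type} [Fintype ι] [DecidableEq ι] {F : Type*} [Field F]
variable {Q : (ι → F) → F}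

local notation "pol" => QuadraticMap.polar
local notation "V" => (ι → F)
local notation "Ω" => Cfsg.Omega F Q
local notation "mk" => QuotientGroup.mk' (Subgroup.center (Cfsg.Omega F Q))

/-- the vector stabiliser -/
def fixVec (Q : V → F) (u : V) : Subgroup (Cfsg.Omega F Q) where
  carrier := {s | (omv s : Matrix ι ι F) *ᵥ u = u}
  one_mem' := by show ((1 : GL ι F) : Matrix ι ι F) *ᵥ u = u; rw [Units.val_one, one_mulVec]
  mul_mem' {a b} ha hb := by
    show ((omv a * omv b : GL ι F) : Matrix ι ι F) *ᵥ u = u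
    rw [gl_mul_mulVec, show (omv b : Matrix ι ι F) *ᵥ u = u from hb, show (omv a : Matrix ι ι F) *ᵥ u = u from ha]
  inv_mem' {a} ha := by
    show (((omv a)⁻¹ : GL ι F) : Matrix ι ι F) *ᵥ u = u
    conv_lhs => rw [← show (omv a : Matrix ι ι F) *ᵥ u = u from ha]
    exact gl_inv_mulVec _ u

variable [Fintype F] (hQ : IsNondegenerateQuadraticForm Q)
include hQ

theorem rootGrp_isPGroup (p : ℕ) [Fact p.Prime] [CharP F p] (hn : 5 ≤ Fintype.card ι) (L : SPt Q) :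
    IsPGroup p (rootGrp hQ L) := by
  intro g
  obtain ⟨u, hu0, hu, hL⟩ := L.2
  have hul : u ∈ L.1 := hL ▸ Submodule.mem_span_singleton_self u
  obtain ⟨a, ha, hga⟩ := g.2 u hul hu0
  have key : ∀ k : ℕ, IsE Q u ((k : F) • a) (omv g.1 ^ k) := by
    intro k
    induction k with
    | zero => rw [Nat.cast_zero, zero_smul, pow_zero]; exact zero_smul F u ▸ IsE.one hQ hu 0
    | succ k ih =>
      rw [Nat.cast_succ, add_smul, one_smul, pow_succ]
      exact ih.mul hQ hu (by rw [psmul_right hQ, ha, mul_zero]) ha hga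
  refine ⟨1, Subtype.ext (Subtype.ext (Subtype.ext ?_))⟩
  rw [pow_one]
  have h1 := key p
  rw [CharP.cast_eq_zero, zero_smul] at h1
  show omv g.1 ^ p = 1
  exact h1.unique (zero_smul F u ▸ IsE.one hQ hu 0)

/-- elements commuting with the two radicals are root elements up to sign -/
theorem root_of_centralizes (hn : 7 ≤ Fintype.card ι) {e₁ f₁ e₂ f₂ : V} (he₁ : Q e₁ = 0) (hf₁ : Q f₁ = 0)
    (hef : pol Q e₁ f₁ = 1) {P : Submodule F V} (hP : P = pairPerp hQ ⊤ e₁ f₁) (he₂P : e₂ ∈ P) (hf₂P : f₂ ∈ P)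
    (he₂ : Q e₂ = 0) (hf₂ : Q f₂ = 0) (hef₂ : pol Q e₂ f₂ = 1) {w : GL ι F} (hw : w ∈ Cfsg.isometryGroup F Q)
    (hA : ∀ a, pol Q e₁ a = 0 → ∀ g, IsE Q e₁ a g → w * g = g * w)
    (hB : ∀ a ∈ P, pol Q e₂ a = 0 → ∀ g, IsE Q e₂ a g → w * g = g * w) :
    w = 1 ∨ w = -1 ∨ IsRootElt Q w ∨ IsRootElt Q (-w) := by
  have hnd : NdOn Q P := hP ▸ pair_nd hQ (P := ⊤) Submodule.mem_top Submodule.mem_top he₁ hf₁ hef (ndOn_top hQ)
  have hPm : ∀ x ∈ P, pol Q x e₁ = 0 ∧ pol Q x f₁ = 0 := fun x hx => ((mem_pairPerp hQ).1 (hP ▸ hx)).2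
  have hdim := pair_finrank hQ (P := ⊤) (e := e₁) (f := f₁) Submodule.mem_top Submodule.mem_top he₁ hf₁ hef
  rw [finrank_top, Module.finrank_fintype_fun_eq_card, ← hP] at hdim
  have he11 : pol Q e₁ e₁ = 0 := by rw [pself hQ, he₁, mul_zero]
  -- `w` moves `⟨e₁, a⟩` into itself
  have hmove : ∀ a ∈ P, (∃ μ ν : F, (w : Matrix ι ι F) *ᵥ a = μ • a + ν • e₁) ∧
      (a ≠ 0 → ∃ μ ν : F, (w : Matrix ι ι F) *ᵥ e₁ = μ • a + ν • e₁) := by
    intro a ha
    have ha1 : pol Q e₁ a = 0 := by rw [pcomm, (hPm a ha).1]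
    obtain ⟨g, hg, hgE⟩ := exists_E hQ he₁ ha1
    have hc := hA a ha1 g hgE
    have himg : ∀ x, ∃ μ ν : F, (w : Matrix ι ι F) *ᵥ move g x = μ • a + ν • e₁ := fun x => by
      have e : (w : Matrix ι ι F) *ᵥ move g x = move g ((w : Matrix ι ι F) *ᵥ x) := by
        rw [move_apply, move_apply, mulVec_sub, ← gl_mul_mulVec, ← gl_mul_mulVec, hc]
      refine ⟨pol Q ((w : Matrix ι ι F) *ᵥ x) e₁,
        -pol Q ((w : Matrix ι ι F) *ᵥ x) a - Q a * pol Q ((w : Matrix ι ι F) *ᵥ x) e₁, ?_⟩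
      rw [e, move_apply, hgE]
      module
    by_cases ha0 : a = 0
    · exact ⟨⟨0, 0, by rw [ha0, mulVec_zero]; simp⟩, fun h => absurd ha0 h⟩
    obtain ⟨y, hyP, hay⟩ := (hnd a ha ha0).2
    have h1 : ∃ μ ν : F, (w : Matrix ι ι F) *ᵥ e₁ = μ • a + ν • e₁ := by
      obtain ⟨μ, ν, h⟩ := himg y
      have hm : move g y = (-pol Q y a) • e₁ := by rw [move_apply, hgE, (hPm y hyP).1]; module
      rw [hm, mulVec_smul] at h
      have hne : -pol Q y a ≠ 0 := neg_ne_zero.2 (by rw [pcomm]; exact hay)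
      refine ⟨(-pol Q y a)⁻¹ * μ, (-pol Q y a)⁻¹ * ν, ?_⟩
      rw [← smul_smul, ← smul_smul, ← smul_add, ← h, inv_smul_smul₀ hne]
    refine ⟨?_, fun _ => h1⟩
    obtain ⟨μ, ν, h⟩ := himg f₁
    have hm : move g f₁ = a + (-Q a) • e₁ := by
      rw [move_apply, hgE, pcomm f₁ e₁, hef, pcomm f₁ a, (hPm a ha).2]; module
    rw [hm, mulVec_add, mulVec_smul] at h
    obtain ⟨μ', ν', h'⟩ := h1
    refine ⟨μ + Q a * μ', ν + Q a * ν', ?_⟩
    rw [h'] at h
    linear_combination (norm := module) h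
  have he₂0 : e₂ ≠ 0 := fun e => by rw [e, pzero_left hQ] at hef₂; exact zero_ne_one hef₂
  have hf₂0 : f₂ ≠ 0 := fun e => by rw [e, pzero_right hQ] at hef₂; exact zero_ne_one hef₂
  obtain ⟨lam, hlam⟩ : ∃ lam : F, (w : Matrix ι ι F) *ᵥ e₁ = lam • e₁ := by
    obtain ⟨μ, ν, h⟩ := (hmove e₂ he₂P).2 he₂0
    obtain ⟨μ', ν', h'⟩ := (hmove f₂ hf₂P).2 hf₂0
    refine ⟨ν, ?_⟩
    have h4 := congrArg (fun x => pol Q x f₂) (h.symm.trans h')
    simp only [padd_left hQ, psmul_left hQ, hef₂, pcomm e₁ f₂, (hPm f₂ hf₂P).1, pself hQ f₂, hf₂, mul_zero,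
      add_zero, mul_one] at h4
    rw [h, h4, zero_smul, zero_add]
  -- on `P` the element is `λ⁻¹` modulo `e₁`
  have hwa : ∀ a ∈ P, ∃ ν : F, (w : Matrix ι ι F) *ᵥ a = lam⁻¹ • a + ν • e₁ := by
    intro a ha
    by_cases ha0 : a = 0
    · exact ⟨0, by rw [ha0, mulVec_zero]; simp⟩
    obtain ⟨μ, ν, h⟩ := (hmove a ha).1
    have ha1 : pol Q e₁ a = 0 := by rw [pcomm, (hPm a ha).1]
    obtain ⟨g, hg, hgE⟩ := exists_E hQ he₁ ha1
    have h' := hgE.conj hw
    rw [hlam, h, show w * g * w⁻¹ = g from mul_inv_eq_iff_eq_mul.2 (hA a ha1 g hgE)] at h'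
    obtain ⟨y, hyP, hay⟩ := (hnd a ha ha0).2
    have e := (hgE y).symm.trans (h' y)
    simp only [psmul_right hQ, padd_right hQ, (hPm y hyP).1, mul_zero, zero_smul, add_zero, sub_zero, zero_add] at e
    have e' : (pol Q y a * (lam * μ - 1)) • e₁ = 0 := by linear_combination (norm := module) e
    have he₁0 : e₁ ≠ 0 := fun e0 => by rw [e0, pzero_left hQ] at hef; exact zero_ne_one hef
    have hlm : lam * μ = 1 := sub_eq_zero.1 (((mul_eq_zero.1 ((smul_eq_zero.1 e').resolve_right he₁0)).resolve_left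
      (by rw [pcomm]; exact hay)))
    exact ⟨ν, by rw [h, eq_inv_of_mul_eq_one_right hlm]⟩
  obtain ⟨z, hzP, hz⟩ := exists_nonsingular hQ hnd (fun e => he₂0 (by rw [e] at he₂P; exact he₂P))
  have hlam2 : lam⁻¹ * lam⁻¹ = 1 := by
    obtain ⟨ν, hν⟩ := hwa z hzP
    have h1 := mem_iso.1 hw z
    rw [hν, qadd hQ, qsmul hQ, qsmul hQ, psmul_left hQ, psmul_right hQ, he₁, (hPm z hzP).1] at h1
    exact mul_right_cancel₀ hz (by linear_combination h1)
  have hlam1 : lam = 1 ∨ lam = -1 := by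
    rcases mul_self_eq_one_iff.1 hlam2 with e | e
    · exact Or.inl (inv_eq_one.1 e)
    · exact Or.inr (by rw [← inv_inv lam, e, inv_neg, inv_one])
  -- normalise the sign
  obtain ⟨W, hWi, hWe, hWP, hWA, hWB, hback⟩ : ∃ W, W ∈ Cfsg.isometryGroup F Q ∧ (W : Matrix ι ι F) *ᵥ e₁ = e₁ ∧
      (∀ a ∈ P, ∃ ν : F, (W : Matrix ι ι F) *ᵥ a = a + ν • e₁) ∧
      (∀ a, pol Q e₁ a = 0 → ∀ g, IsE Q e₁ a g → W * g = g * W) ∧
      (∀ a ∈ P, pol Q e₂ a = 0 → ∀ g, IsE Q e₂ a g → W * g = g * W) ∧ (W = w ∨ W = -w) := by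
    rcases hlam1 with e | e
    · refine ⟨w, hw, by rw [hlam, e, one_smul], fun a ha => ?_, hA, hB, Or.inl rfl⟩
      obtain ⟨ν, hν⟩ := hwa a ha
      exact ⟨ν, by rw [hν, e, inv_one, one_smul]⟩
    · refine ⟨-w, ?_, ?_, fun a ha => ?_, fun a ha g hg => ?_, fun a ha ha' g hg => ?_, Or.inr rfl⟩
      · exact mem_iso.2 fun x => by rw [Units.val_neg, neg_mulVec, qneg hQ, mem_iso.1 hw]
      · rw [Units.val_neg, neg_mulVec, hlam, e, neg_one_smul, neg_neg]
      · obtain ⟨ν, hν⟩ := hwa a ha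
        exact ⟨-ν, by rw [Units.val_neg, neg_mulVec, hν, e, inv_neg, inv_one]; module⟩
      · exact Units.ext (by rw [Units.val_mul, Units.val_mul, Units.val_neg, neg_mul, mul_neg, ← Units.val_mul, hA a ha g hg, Units.val_mul])
      · exact Units.ext (by rw [Units.val_mul, Units.val_mul, Units.val_neg, neg_mul, mul_neg, ← Units.val_mul, hB a ha ha' g hg, Units.val_mul])
  obtain ⟨φ, hφ⟩ : ∃ φ : V →ₗ[F] F, φ = (pfl hQ f₁).comp (Matrix.mulVecLin (W : Matrix ι ι F)) := ⟨_, rfl⟩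
  have hWφ : ∀ a ∈ P, (W : Matrix ι ι F) *ᵥ a = a + pol Q ((W : Matrix ι ι F) *ᵥ a) f₁ • e₁ := by
    intro a ha
    obtain ⟨ν, hν⟩ := hWP a ha
    conv_rhs => rw [hν, padd_left hQ, psmul_left hQ, (hPm a ha).2, hef, zero_add, mul_one]
    exact hν
  obtain ⟨p₀, hp₀⟩ : ∃ p₀, ∀ x, pol Q x p₀ = -pol Q ((W : Matrix ι ι F) *ᵥ x) f₁ := by
    obtain ⟨p₀, hp₀⟩ := exists_prep hQ (fun i => -pol Q ((W : Matrix ι ι F) *ᵥ Pi.single i 1) f₁)
    refine ⟨p₀, fun x => ?_⟩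
    rw [hp₀]
    conv_rhs => rw [pi_eq_sum_univ' x, mulVec_sum]
    rw [show pol Q (∑ i, (W : Matrix ι ι F) *ᵥ x i • Pi.single i 1) f₁ =
        pfl hQ f₁ (∑ i, (W : Matrix ι ι F) *ᵥ x i • Pi.single i 1) from rfl, map_sum, dotProduct,
      ← Finset.sum_neg_distrib]
    refine Finset.sum_congr rfl fun i _ => ?_
    rw [mulVec_smul, map_smul, smul_eq_mul]
    show -pol Q _ f₁ * x i = -(x i * pol Q _ f₁)
    ring
  obtain ⟨b, hb⟩ : ∃ b, b = p₀ - pol Q p₀ f₁ • e₁ - pol Q p₀ e₁ • f₁ := ⟨_, rfl⟩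
  have hbP : b ∈ P := hP ▸ hb ▸ pair_proj hQ Submodule.mem_top Submodule.mem_top he₁ hf₁ hef Submodule.mem_top
  have hWa : ∀ a ∈ P, (W : Matrix ι ι F) *ᵥ a = a - pol Q a b • e₁ := by
    intro a ha
    rw [hWφ a ha, hb, psub_right hQ, psub_right hQ, psmul_right hQ, psmul_right hQ, (hPm a ha).1, (hPm a ha).2,
      hp₀, mul_zero, sub_zero, mul_zero, sub_zero]
    module
  obtain ⟨h, hh, hhE⟩ := exists_E hQ he₁ (show pol Q e₁ b = 0 by rw [pcomm, (hPm b hbP).1])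
  have hWh : W = h := by
    obtain ⟨k, hk⟩ : ∃ k, k = h⁻¹ * W := ⟨_, rfl⟩
    have hki : k ∈ Cfsg.isometryGroup F Q := hk ▸ mul_mem (inv_mem hh) hWi
    have hkfix : ∀ x, (W : Matrix ι ι F) *ᵥ x = (h : Matrix ι ι F) *ᵥ x → (k : Matrix ι ι F) *ᵥ x = x := fun x hx => by
      rw [hk, gl_mul_mulVec, hx, gl_inv_mulVec]
    have k1 : (k : Matrix ι ι F) *ᵥ e₁ = e₁ := hkfix e₁ (by
      rw [hWe, hhE, he11, pcomm e₁ b, (hPm b hbP).1]; module)
    have k2 : ∀ a ∈ P, (k : Matrix ι ι F) *ᵥ a = a := fun a ha => hkfix a (by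
      rw [hWa a ha, hhE, (hPm a ha).1]; module)
    obtain ⟨y, hy⟩ : ∃ y, y = (k : Matrix ι ι F) *ᵥ f₁ := ⟨_, rfl⟩
    have hy1 : pol Q y e₁ = 1 := by
      have := iso_pol hki f₁ e₁
      rw [k1, ← hy, pcomm f₁ e₁, hef] at this
      exact this
    have hyQ : Q y = 0 := by rw [hy, mem_iso.1 hki, hf₁]
    have hproj := pair_proj hQ (P := ⊤) Submodule.mem_top Submodule.mem_top he₁ hf₁ hef (Submodule.mem_top (x := y))
    rw [← hP, hy1, one_smul] at hproj
    have hzero : y - pol Q y f₁ • e₁ - f₁ = 0 := by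
      by_contra hne
      obtain ⟨a, ha, hpa⟩ := (hnd _ hproj hne).2
      refine hpa ?_
      have h3 : pol Q y a = 0 := by
        have := iso_pol hki f₁ a
        rw [k2 a ha, ← hy, pcomm f₁ a, (hPm a ha).2] at this
        exact this
      rw [psub_left hQ, psub_left hQ, psmul_left hQ, h3, pcomm e₁ a, (hPm a ha).1, pcomm f₁ a, (hPm a ha).2]
      ring
    rw [sub_eq_zero, sub_eq_iff_eq_add] at hzero
    have h0 : pol Q y f₁ = 0 := by
      rw [hzero, qadd hQ, qsmul hQ, hf₁, he₁, psmul_right hQ, pcomm f₁ e₁, hef] at hyQ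
      linear_combination hyQ
    rw [h0, zero_smul, add_zero] at hzero
    have hkone : k = 1 := gl_ext_vec fun x => by
      rw [Units.val_one, one_mulVec]
      have hx := pair_proj hQ (P := ⊤) Submodule.mem_top Submodule.mem_top he₁ hf₁ hef (Submodule.mem_top (x := x))
      rw [← hP] at hx
      have hx' := k2 _ hx
      rw [mulVec_sub, mulVec_sub, mulVec_smul, mulVec_smul, k1, ← hy, hzero] at hx'
      linear_combination (norm := module) hx'
    rw [hk, inv_mul_eq_one] at hkone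
    exact hkone.symm
  -- `b` is fixed by the radical of `e₂` in `P`
  have hfixb : ∀ a ∈ P, pol Q e₂ a = 0 → pol Q b e₂ • a - pol Q b a • e₂ - (Q a * pol Q b e₂) • e₂ = 0 := by
    intro a ha ha2
    obtain ⟨g, hg, hgE⟩ := exists_E hQ he₂ ha2
    have hge : (g : Matrix ι ι F) *ᵥ e₁ = e₁ := by
      rw [hgE, pcomm e₁ e₂, (hPm e₂ he₂P).1, pcomm e₁ a, (hPm a ha).1]; module
    have h' := hhE.conj hg
    rw [hge, ← hWh, show g * W * g⁻¹ = W from mul_inv_eq_iff_eq_mul.2 (hWB a ha ha2 g hgE).symm, hWh] at h'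
    obtain ⟨d, hd⟩ : ∃ d, d = pol Q b e₂ • a - pol Q b a • e₂ - (Q a * pol Q b e₂) • e₂ := ⟨_, rfl⟩
    have hgb : (g : Matrix ι ι F) *ᵥ b = b + d := by rw [hd, hgE]; module
    rw [hgb] at h'
    rw [← hd]
    have hdP : d ∈ P := hd ▸ P.sub_mem (P.sub_mem (P.smul_mem _ ha) (P.smul_mem _ he₂P)) (P.smul_mem _ he₂P)
    by_contra hne
    obtain ⟨y, hyP, hdy⟩ := (hnd d hdP hne).2
    have e := (hhE y).symm.trans (h' y)
    simp only [padd_right hQ, (hPm y hyP).1, mul_zero, zero_smul, add_zero, sub_zero, pcomm y d] at e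
    have e' : pol Q d y • e₁ = 0 := by linear_combination (norm := module) e
    have he₁0 : e₁ ≠ 0 := fun e0 => by rw [e0, pzero_left hQ] at hef; exact zero_ne_one hef
    exact hdy ((smul_eq_zero.1 e').resolve_right he₁0)
  obtain ⟨R, hR⟩ : ∃ R, R = pairPerp hQ P e₂ f₂ := ⟨_, rfl⟩
  have hRn : NdOn Q R := hR ▸ pair_nd hQ he₂P hf₂P he₂ hf₂ hef₂ hnd
  have hRm : ∀ a ∈ R, a ∈ P ∧ pol Q a e₂ = 0 ∧ pol Q a f₂ = 0 := fun a ha => (mem_pairPerp hQ).1 (hR ▸ ha)
  have hbe : pol Q b e₂ = 0 := by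
    obtain ⟨a, haR, ha⟩ := exists_nonsingular hQ hRn (fun e => by
      have h1 := pair_finrank hQ he₂P hf₂P he₂ hf₂ hef₂
      rw [← hR, e, finrank_bot] at h1
      omega)
    obtain ⟨haP, hae, haf⟩ := hRm a haR
    have h1 := congrArg (fun x => pol Q x a) (hfixb a haP (by rw [pcomm, hae]))
    simp only [psub_left hQ, psmul_left hQ, pcomm e₂ a, hae, mul_zero, sub_zero, pzero_left hQ, pself hQ a] at h1
    rcases eq_or_ne (2 : F) 0 with h2 | h2
    · obtain ⟨c, hcR, hac⟩ := (hRn a haR (fun e => ha (by rw [e, qzero hQ]))).2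
      obtain ⟨hcP, hce, -⟩ := hRm c hcR
      have h1' := congrArg (fun x => pol Q x c) (hfixb a haP (by rw [pcomm, hae]))
      simp only [psub_left hQ, psmul_left hQ, pcomm e₂ c, hce, mul_zero, sub_zero, pzero_left hQ] at h1'
      exact (mul_eq_zero.1 h1').resolve_right hac
    · exact (mul_eq_zero.1 h1).resolve_right (mul_ne_zero h2 ha)
  have hbR : b - pol Q b f₂ • e₂ = 0 := by
    by_contra hne
    have hmem : b - pol Q b f₂ • e₂ ∈ R := by
      have h1 := pair_proj hQ he₂P hf₂P he₂ hf₂ hef₂ hbP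
      rwa [hbe, zero_smul, sub_zero, ← hR] at h1
    obtain ⟨a, haR, hda⟩ := (hRn _ hmem hne).2
    obtain ⟨haP, hae, -⟩ := hRm a haR
    have h1 := hfixb a haP (by rw [pcomm, hae])
    rw [hbe] at h1
    have h3 : pol Q b a • e₂ = 0 := by linear_combination (norm := module) -h1
    refine hda ?_
    rw [psub_left hQ, psmul_left hQ, (smul_eq_zero.1 h3).resolve_right he₂0, pcomm e₂ a, hae]
    ring
  rw [sub_eq_zero] at hbR
  have hroot : pol Q b f₂ = 0 → W = 1 := fun hc => by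
    rw [hWh]
    refine hhE.unique ?_
    rw [hbR, hc]
    exact IsE.one hQ he₁ 0 |> fun h => by simpa using h
  have hroot' : pol Q b f₂ ≠ 0 → IsRootElt Q W := fun hc => by
    refine ⟨pol Q b f₂ • e₁, e₂, ?_, by rw [qsmul hQ, he₁, mul_zero], he₂,
      by rw [psmul_left hQ, pcomm e₁ e₂, (hPm e₂ he₂P).1, mul_zero], ?_⟩
    · rw [LinearIndependent.pair_iff]
      intro s t hst
      have h1 := congrArg (fun x => pol Q x f₁) hst
      simp only [padd_left hQ, psmul_left hQ, hef, (hPm e₂ he₂P).2, mul_zero, add_zero, mul_one, pzero_left hQ] at h1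
      have hs : s = 0 := (mul_eq_zero.1 h1).resolve_right hc
      refine ⟨hs, ?_⟩
      rw [hs, zero_smul, zero_add] at hst
      exact (smul_eq_zero.1 hst).resolve_right he₂0
    · refine IsE.smul hQ ?_
      rw [hWh, ← hbR]
      exact hhE
  by_cases hc : pol Q b f₂ = 0
  · have h1 := hroot hc
    rcases hback with e | e
    · exact Or.inl (e ▸ h1)
    · exact Or.inr (Or.inl (by rw [← neg_neg w, ← e, h1]))
  · have h1 := hroot' hc
    rcases hback with e | e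
    · exact Or.inr (Or.inr (Or.inl (e ▸ h1)))
    · exact Or.inr (Or.inr (Or.inr (e ▸ h1)))

/-- the images of root elements in `POmega` -/
def IsRootG (Q : V → F) (x : Cfsg.POmega F Q) : Prop :=
  ∃ s : Cfsg.Omega F Q, IsRootElt Q (omv s) ∧ QuotientGroup.mk' (Subgroup.center (Cfsg.Omega F Q)) s = x

/-- some Sylow subgroup has all its non-trivial central elements root elements -/
theorem exists_sylow_root (p : ℕ) [Fact p.Prime] [CharP F p] (hn : 7 ≤ Fintype.card ι) :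
    ∃ U : Sylow p (Cfsg.POmega F Q), Nontrivial (U : Subgroup (Cfsg.POmega F Q)) ∧
      ∀ z ∈ (U : Subgroup (Cfsg.POmega F Q)), (∀ y ∈ (U : Subgroup (Cfsg.POmega F Q)), z * y = y * z) → z ≠ 1 →
        IsRootG Q z := by
  classical
  haveI : Finite (Cfsg.POmega F Q) := Quotient.finite _
  obtain ⟨e₁, -, he10, he₁⟩ := exists_qsingular hQ (ndOn_top hQ) (by
    rw [finrank_top, Module.finrank_fintype_fun_eq_card]; omega)
  obtain ⟨f₁, -, hf₁, hef⟩ := exists_qpartner hQ (ndOn_top hQ) Submodule.mem_top he10 he₁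
  obtain ⟨P, hP⟩ : ∃ P, P = pairPerp hQ ⊤ e₁ f₁ := ⟨_, rfl⟩
  have hdim := pair_finrank hQ (P := ⊤) (e := e₁) (f := f₁) Submodule.mem_top Submodule.mem_top he₁ hf₁ hef
  rw [finrank_top, Module.finrank_fintype_fun_eq_card, ← hP] at hdim
  have hnd : NdOn Q P := hP ▸ pair_nd hQ (P := ⊤) Submodule.mem_top Submodule.mem_top he₁ hf₁ hef (ndOn_top hQ)
  obtain ⟨e₂, he₂P, he20, he₂⟩ := exists_qsingular hQ hnd (by omega)
  obtain ⟨f₂, hf₂P, hf₂, hef₂⟩ := exists_qpartner hQ hnd he₂P he20 he₂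
  have he12 : pol Q e₁ e₂ = 0 := by rw [pcomm, ((mem_pairPerp hQ).1 (hP ▸ he₂P)).2.1]
  obtain ⟨A, hA⟩ : ∃ A, A = rootGrp hQ (spt e₁ he10 he₁) := ⟨_, rfl⟩
  obtain ⟨B, hB⟩ : ∃ B, B = rootGrp hQ (spt e₂ he20 he₂) ⊓ fixVec Q e₁ := ⟨_, rfl⟩
  have hBA : B ≤ Subgroup.normalizer (A : Set (Cfsg.Omega F Q)) := by
    intro k hk
    have hfix : ∀ k' : Cfsg.Omega F Q, k' ∈ fixVec Q e₁ → k' • spt e₁ he10 he₁ = spt e₁ he10 he₁ := fun k' hk' => by
      rw [smul_spt k' he10 he₁]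
      exact (spt_eq_iff).2 ⟨1, by rw [one_smul]; exact hk'⟩
    refine Subgroup.mem_normalizer_iff.2 fun x => ⟨fun hx => ?_, fun hx => ?_⟩
    · have h' := rootGrp_conj hQ (by omega) k x _ (hA ▸ hx)
      rw [hfix k (hB ▸ hk).2] at h'
      exact hA ▸ h'
    · have h' := rootGrp_conj hQ (by omega) k⁻¹ (k * x * k⁻¹) _ (hA ▸ hx)
      rw [hfix k⁻¹ (inv_mem (hB ▸ hk).2), show k⁻¹ * (k * x * k⁻¹) * k⁻¹⁻¹ = x by group] at h'
      exact hA ▸ h'
  have hS : IsPGroup p (A ⊔ B : Subgroup (Cfsg.Omega F Q)) := by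
    refine IsPGroup.to_sup_of_normal_left' (hA ▸ rootGrp_isPGroup hQ p (by omega) _) ?_ hBA
    exact hB ▸ (rootGrp_isPGroup hQ p (by omega) _).to_le inf_le_left
  obtain ⟨U, hU⟩ := (hS.map (QuotientGroup.mk' (Subgroup.center (Cfsg.Omega F Q)))).exists_le_sylow
  have memA : ∀ a, pol Q e₁ a = 0 → ∀ s : Cfsg.Omega F Q, IsE Q e₁ a (omv s) → s ∈ A := by
    intro a ha s hs
    rw [hA]
    intro u hu hu0
    obtain ⟨c, rfl⟩ := Submodule.mem_span_singleton.1 hu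
    have hc : c ≠ 0 := fun e => hu0 (by rw [e, zero_smul])
    refine ⟨c⁻¹ • a, by rw [psmul_left hQ, psmul_right hQ, ha]; ring, ?_⟩
    refine IsE.smul hQ ?_
    rwa [smul_smul, mul_inv_cancel₀ hc, one_smul]
  have memB : ∀ a ∈ P, pol Q e₂ a = 0 → ∀ s : Cfsg.Omega F Q, IsE Q e₂ a (omv s) → s ∈ B := by
    intro a haP ha s hs
    rw [hB]
    refine ⟨fun u hu hu0 => ?_, ?_⟩
    · obtain ⟨c, rfl⟩ := Submodule.mem_span_singleton.1 hu
      have hc : c ≠ 0 := fun e => hu0 (by rw [e, zero_smul])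
      refine ⟨c⁻¹ • a, by rw [psmul_left hQ, psmul_right hQ, ha]; ring, ?_⟩
      refine IsE.smul hQ ?_
      rwa [smul_smul, mul_inv_cancel₀ hc, one_smul]
    · show (omv s : Matrix ι ι F) *ᵥ e₁ = e₁
      rw [hs, he12, pcomm e₁ a, ((mem_pairPerp hQ).1 (hP ▸ haP)).2.1]
      module
  obtain ⟨sr, hsr⟩ := exists_omega_E hQ (by omega) he₁ he12
  have hne : (QuotientGroup.mk' (Subgroup.center (Cfsg.Omega F Q))) sr ≠ 1 := fun e => by
    rw [QuotientGroup.mk'_apply, QuotientGroup.eq_one_iff] at e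
    have hf0 := hsr f₁
    obtain ⟨c, hc⟩ := scalar_of_fix hQ (by omega) (g := omv sr) fun u hu => by
      by_cases hu0 : u = 0
      · exact ⟨1, by rw [hu0, mulVec_zero, smul_zero]⟩
      · exact center_fix hQ (by omega) e hu0 hu
    rw [hc, pcomm f₁ e₁, hef, pcomm f₁ e₂, ((mem_pairPerp hQ).1 (hP ▸ he₂P)).2.2, he₂] at hf0
    have h1 := congrArg (fun x => pol Q x f₂) hf0
    simp only [psub_left hQ, padd_left hQ, psmul_left hQ, pcomm f₁ f₂, ((mem_pairPerp hQ).1 (hP ▸ hf₂P)).2.2,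
      hef₂] at h1
    norm_num at h1
  refine ⟨U, ⟨⟨1, one_mem _⟩, ⟨_, hU ⟨sr, Subgroup.mem_sup_left (memA e₂ he12 sr hsr), rfl⟩⟩,
    fun e => hne (congrArg Subtype.val e).symm⟩, fun z hzU hz hz1 => ?_⟩
  obtain ⟨s, rfl⟩ := QuotientGroup.mk'_surjective _ z
  -- commutation holds exactly in `Omega`
  have hexact : ∀ k ∈ A ⊔ B, s * k = k * s := by
    intro k hk
    have h1 := hz _ (hU ⟨k, hk, rfl⟩)
    rw [← map_mul, ← map_mul, QuotientGroup.mk'_apply, QuotientGroup.mk'_apply, QuotientGroup.eq] at h1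
    obtain ⟨ζ, hζ, hsk⟩ : ∃ ζ ∈ Subgroup.center (Cfsg.Omega F Q), k * s = s * k * ζ := ⟨_, h1, by group⟩
    suffices hζ1 : ζ = 1 by rw [hsk, hζ1, mul_one]
    rcases omega_center_sign hQ (by omega) hζ with e | e
    · exact omv_injective (Units.ext e)
    · by_cases h2 : (2 : F) = 0
      · haveI : CharP F 2 := CharTwo.of_one_ne_zero_of_two_eq_zero one_ne_zero h2
        refine omv_injective (Units.ext (e.trans ?_))
        ext i j
        rw [Matrix.neg_apply, CharTwo.neg_eq]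
        rfl
      · exfalso
        obtain ⟨j, hj⟩ := hS ⟨k, hk⟩
        have hodd : Odd (p ^ j) := (((Fact.out : p.Prime).odd_of_ne_two) fun e' => h2 (by
          subst e'; exact CharP.cast_eq_zero F 2)).pow
        have hk1 : k ^ p ^ j = 1 := congrArg Subtype.val hj
        have hcomm : Commute k ζ := (Subgroup.mem_center_iff.1 hζ k)
        have hconj : s⁻¹ * k * s = k * ζ := by rw [mul_assoc, hsk]; group
        have h3 : (k * ζ) ^ p ^ j = 1 := by
          rw [← hconj]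
          calc (s⁻¹ * k * s) ^ p ^ j = (s⁻¹ * k * s⁻¹⁻¹) ^ p ^ j := by rw [inv_inv]
            _ = s⁻¹ * k ^ p ^ j * s⁻¹⁻¹ := conj_pow
            _ = 1 := by rw [hk1]; group
        rw [hcomm.mul_pow, hk1, one_mul] at h3
        have h4 := congrArg (fun x : Cfsg.Omega F Q => (omv x : Matrix ι ι F)) h3
        change ((omvHom Q (ζ ^ p ^ j) : GL ι F) : Matrix ι ι F) = ((omvHom Q 1 : GL ι F) : Matrix ι ι F) at h4
        rw [map_pow, map_one, Units.val_pow_eq_pow_val, Units.val_one] at h4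
        rw [show ((omvHom Q ζ : GL ι F) : Matrix ι ι F) = -1 from e, hodd.neg_one_pow] at h4
        have : Nonempty ι := Fintype.card_pos_iff.1 (by omega)
        obtain ⟨i⟩ := this
        have h5 := congrFun (congrFun h4 i) i
        rw [Matrix.neg_apply, Matrix.one_apply_eq] at h5
        exact h2 (by linear_combination -h5)
  have hgl : ∀ {u a : V} {g : GL ι F}, Q u = 0 → pol Q u a = 0 → IsE Q u a g →
      (∀ k : Cfsg.Omega F Q, IsE Q u a (omv k) → k ∈ A ⊔ B) → omv s * g = g * omv s := by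
    intro u a g hu ha hg hmem
    obtain ⟨k, hk⟩ := exists_omega_E hQ (by omega) hu ha
    rw [hg.unique hk]
    exact congrArg omv (hexact k (hmem k hk))
  have hsc : ∀ t : Cfsg.Omega F Q, ((omv t : Matrix ι ι F) = 1 ∨ (omv t : Matrix ι ι F) = -1) →
      t ∈ Subgroup.center (Cfsg.Omega F Q) := fun t ht => Subgroup.mem_center_iff.2 fun x => omv_injective (Units.ext (by
    show (omv x : Matrix ι ι F) * (omv t : Matrix ι ι F) = (omv t : Matrix ι ι F) * (omv x : Matrix ι ι F)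
    rcases ht with e | e <;> rw [e] <;> simp))
  rcases root_of_centralizes hQ hn he₁ hf₁ hef hP he₂P hf₂P he₂ hf₂ hef₂ (omv_iso s)
      (fun a ha g hg => hgl he₁ ha hg fun k hk => Subgroup.mem_sup_left (memA a ha k hk))
      (fun a haP ha g hg => hgl he₂ ha hg fun k hk => Subgroup.mem_sup_right (memB a haP ha k hk)) with h | h | h | h
  · exact absurd ((QuotientGroup.eq_one_iff _).2 (hsc s (Or.inl (congrArg Units.val h)))) hz1
  · exact absurd ((QuotientGroup.eq_one_iff _).2 (hsc s (Or.inr (by rw [h, Units.val_neg, Units.val_one])))) hz1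
  · exact ⟨s, h, rfl⟩
  · obtain ⟨t, ht⟩ := h.omega hQ (by omega)
    refine ⟨t, ht.symm ▸ h, QuotientGroup.eq.2 (hsc _ (Or.inr ?_))⟩
    show (((omv t)⁻¹ * omv s : GL ι F) : Matrix ι ι F) = -1
    rw [ht, show ((-omv s)⁻¹ : GL ι F) * omv s = -1 by rw [inv_neg, neg_mul, inv_mul_cancel], Units.val_neg,
      Units.val_one]

theorem isRootG_conj {x : Cfsg.POmega F Q} (hx : IsRootG Q x) (g : Cfsg.POmega F Q) : IsRootG Q (g * x * g⁻¹) := by
  obtain ⟨s, hs, rfl⟩ := hx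
  obtain ⟨t, rfl⟩ := QuotientGroup.mk'_surjective _ g
  exact ⟨t * s * t⁻¹, hs.conj (omv_iso t), by rw [map_mul, map_mul, map_inv]⟩

/-- automorphisms permute root elements -/
theorem map_root (hn : 7 ≤ Fintype.card ι) (β : MulAut (Cfsg.POmega F Q)) {x : Cfsg.POmega F Q} (hx : IsRootG Q x) :
    IsRootG Q (β x) := by
  obtain ⟨p, hp⟩ := CharP.exists F
  haveI : Fact p.Prime := ⟨CharP.char_is_prime F p⟩
  haveI : Finite (Cfsg.POmega F Q) := Quotient.finite _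
  obtain ⟨U, hUn, hU⟩ := exists_sylow_root hQ p hn
  haveI := hUn
  haveI := U.2.center_nontrivial
  obtain ⟨⟨z, hzc⟩, hz1⟩ := exists_ne (1 : Subgroup.center ↥(U : Subgroup (Cfsg.POmega F Q)))
  obtain ⟨z, hzU, hzc', hz1'⟩ : ∃ x : Cfsg.POmega F Q, x ∈ (U : Subgroup (Cfsg.POmega F Q)) ∧
      (∀ y ∈ (U : Subgroup (Cfsg.POmega F Q)), x * y = y * x) ∧ x ≠ 1 :=
    ⟨z.1, z.2, fun y hy => (congrArg Subtype.val (Subgroup.mem_center_iff.1 hzc ⟨y, hy⟩)).symm,
      fun e => hz1 (Subtype.ext (Subtype.ext e))⟩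
  have hzr := hU z hzU hzc' hz1'
  let U' : Sylow p (Cfsg.POmega F Q) := U.comapOfInjective β.symm.toMonoidHom β.symm.injective
    (fun y _ => ⟨β y, β.symm_apply_apply y⟩)
  obtain ⟨g, hg⟩ := MulAction.exists_smul_eq (Cfsg.POmega F Q) U' U
  have key : IsRootG Q (g * β z * g⁻¹) := by
    refine hU _ ?_ (fun y hy => ?_) (fun e => hz1' (β.map_eq_one_iff.1 (conj_eq_one_iff.1 e)))
    · rw [← hg, Sylow.coe_subgroup_smul, Subgroup.mem_pointwise_smul_iff_inv_smul_mem]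
      simp only [MulAut.smul_def, MulAut.conj_inv_apply]
      show β.symm (g⁻¹ * (g * β z * g⁻¹) * g) ∈ U
      rw [show g⁻¹ * (g * β z * g⁻¹) * g = β z by group, β.symm_apply_apply]
      exact hzU
    · rw [← hg, Sylow.coe_subgroup_smul, Subgroup.mem_pointwise_smul_iff_inv_smul_mem] at hy
      simp only [MulAut.smul_def, MulAut.conj_inv_apply] at hy
      obtain ⟨v, hv⟩ : ∃ v, v = g⁻¹ * y * g := ⟨_, rfl⟩
      rw [← hv] at hy
      have h1 := congrArg β (hzc' (β.symm v) hy)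
      rw [map_mul, map_mul, β.apply_symm_apply, hv] at h1
      calc g * β z * g⁻¹ * y = g * (β z * (g⁻¹ * y * g)) * g⁻¹ := by group
        _ = g * ((g⁻¹ * y * g) * β z) * g⁻¹ := by rw [h1]
        _ = y * (g * β z * g⁻¹) := by group
  obtain ⟨s, hs, hsx⟩ := hx
  obtain ⟨t, ht, htz⟩ := hzr
  obtain ⟨k, hk⟩ := root_conj hQ hn ht hs
  have hx' : x = QuotientGroup.mk' _ k * z * (QuotientGroup.mk' _ k)⁻¹ := by
    rw [← hsx, ← htz, ← map_inv, ← map_mul, ← map_mul]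
    congr 1
    exact omv_injective hk
  have h3 := isRootG_conj hQ (isRootG_conj hQ key g⁻¹) (β (QuotientGroup.mk' _ k))
  rwa [show g⁻¹ * (g * β z * g⁻¹) * g⁻¹⁻¹ = β z by group, ← map_inv, ← map_mul, ← map_mul, ← hx'] at h3

end CfsgLib.Orth.Aut
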