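import Cfsg.Agent.Lib.Orth.Centre
import Cfsg.Agent.Lib.Orth.Stab
import Cfsg.Agent.Lib.Perm.Trans.QuadSiegel
import Cfsg.Agent.Lib.Perm.Trans.QuadTransitive

/-!
# Long root elements of orthogonal groups and their lines
-/

set_option autoImplicit false
set_option linter.all false

namespace CfsgLib.Orth.Aut

open scoped Matrix
open Matrix Cfsg.Geo CfsgLib.Orth CfsgLib.Perm.Asch CfsgLib.Perm.Trans CfsgLib.Perm.Trans.Quad

variable {ι : Type} [Fintype ι] [DecidableEq ι] {F : Type*} [Field F]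
variable {Q : (ι → F) → F}

local notation "pol" => QuadraticMap.polar
local notation "V" => (ι → F)

/-- a long root element: a Siegel transformation on a totally singular line -/
def IsRootElt (Q : V → F) (g : GL ι F) : Prop :=
  ∃ u v : V, LinearIndependent F ![u, v] ∧ Q u = 0 ∧ Q v = 0 ∧ pol Q u v = 0 ∧ IsE Q u v g

/-- `g - 1` -/
def move (g : GL ι F) : V →ₗ[F] V := Matrix.mulVecLin (g : Matrix ι ι F) - 1

theorem move_apply (g : GL ι F) (x : V) : move g x = (g : Matrix ι ι F) *ᵥ x - x := by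
  simp [move]

/-- the line of a root element -/
def rline (g : GL ι F) : Submodule F V := LinearMap.range (move g)

theorem move_conj (k g : GL ι F) (x : V) :
    move (k * g * k⁻¹) ((k : Matrix ι ι F) *ᵥ x) = (k : Matrix ι ι F) *ᵥ move g x := by
  rw [move_apply, move_apply, gl_mul_mulVec, gl_mul_mulVec, gl_inv_mulVec, mulVec_sub]

theorem rline_conj (k g : GL ι F) :
    rline (k * g * k⁻¹) = (rline g).map (Matrix.mulVecLin (k : Matrix ι ι F)) := by
  refine le_antisymm ?_ ?_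
  · rintro _ ⟨x, rfl⟩
    refine ⟨_, ⟨((k⁻¹ : GL ι F) : Matrix ι ι F) *ᵥ x, rfl⟩, ?_⟩
    rw [Matrix.mulVecLin_apply, ← move_conj, gl_mulVec_inv]
  · rintro _ ⟨_, ⟨x, rfl⟩, rfl⟩
    exact ⟨(k : Matrix ι ι F) *ᵥ x, move_conj k g x⟩

variable (hQ : IsNondegenerateQuadraticForm Q)
include hQ

/-- two functionals with prescribed values -/
theorem exists_pol_values {u v : V} (h : LinearIndependent F ![u, v]) (a b : F) :
    ∃ x, pol Q x u = a ∧ pol Q x v = b := by
  have h' := LinearIndependent.pair_iff.1 h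
  obtain ⟨z, hz1, hz2⟩ : ∃ z, pol Q z u = 1 ∧ pol Q z v = 0 := by
    have hu : u ∉ Submodule.span F {v} := by
      rw [Submodule.mem_span_singleton]
      rintro ⟨c, hc⟩
      have := (h' 1 (-c) (by rw [one_smul, neg_smul, hc, add_neg_cancel])).1
      exact one_ne_zero this
    obtain ⟨p, hp, hpu⟩ := exists_qperp_ne hQ hu
    rw [pcomm] at hpu
    exact ⟨p, hpu,
      hp v (Submodule.mem_span_singleton_self v)⟩
  obtain ⟨w, hw1, hw2⟩ : ∃ w, pol Q w v = 1 ∧ pol Q w u = 0 := by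
    have hv : v ∉ Submodule.span F {u} := by
      rw [Submodule.mem_span_singleton]
      rintro ⟨c, hc⟩
      have := (h' c (-1) (by rw [neg_smul, one_smul, hc, add_neg_cancel])).2
      exact one_ne_zero (neg_eq_zero.1 this)
    obtain ⟨p, hp, hpu⟩ := exists_qperp_ne hQ hv
    rw [pcomm] at hpu
    exact ⟨p, hpu,
      hp u (Submodule.mem_span_singleton_self u)⟩
  exact ⟨a • z + b • w, by rw [padd_left hQ, psmul_left hQ, psmul_left hQ, hz1, hw2]; ring,
    by rw [padd_left hQ, psmul_left hQ, psmul_left hQ, hz2, hw1]; ring⟩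

omit hQ in
theorem isE_move {u v : V} {g : GL ι F} (hg : IsE Q u v g) (hv : Q v = 0) (x : V) :
    move g x = pol Q x u • v - pol Q x v • u := by
  rw [move_apply, hg, hv, zero_mul, zero_smul, sub_zero]
  abel

theorem rline_isE {u v : V} (h : LinearIndependent F ![u, v]) (hv : Q v = 0) {g : GL ι F} (hg : IsE Q u v g) :
    rline g = Submodule.span F {u, v} := by
  refine le_antisymm ?_ ?_
  · rintro _ ⟨x, rfl⟩
    rw [isE_move hg hv]
    exact Submodule.sub_mem _ (Submodule.smul_mem _ _ (Submodule.subset_span (by simp)))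
      (Submodule.smul_mem _ _ (Submodule.subset_span (by simp)))
  · rw [Submodule.span_le]
    intro y hy
    rcases hy with rfl | hy
    · obtain ⟨x, hx1, hx2⟩ := exists_pol_values hQ h 0 (-1)
      exact ⟨x, by rw [isE_move hg hv, hx1, hx2]; module⟩
    · rw [Set.mem_singleton_iff] at hy
      subst hy
      obtain ⟨x, hx1, hx2⟩ := exists_pol_values hQ h 1 0
      exact ⟨x, by rw [isE_move hg hv, hx1, hx2]; module⟩

omit hQ in
theorem finrank_span_pair {u v : V} (h : LinearIndependent F ![u, v]) :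
    Module.finrank F ↥(Submodule.span F ({u, v} : Set V)) = 2 := by
  have := finrank_span_eq_card h
  rwa [Matrix.range_cons, Matrix.range_cons, Matrix.range_empty, Set.union_empty, Set.singleton_union,
    Fintype.card_fin] at this

theorem span_pair_singular {u v : V} (hu : Q u = 0) (hv : Q v = 0) (huv : pol Q u v = 0) :
    ∀ x ∈ Submodule.span F ({u, v} : Set V), Q x = 0 := by
  intro x hx
  obtain ⟨a, b, rfl⟩ := Submodule.mem_span_pair.1 hx
  rw [qadd hQ, qsmul hQ, qsmul hQ, psmul_left hQ, psmul_right hQ, hu, hv, huv]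
  ring

theorem IsRootElt.rline_ts {g : GL ι F} (hg : IsRootElt Q g) :
    Module.finrank F ↥(rline g) = 2 ∧ ∀ x ∈ rline g, Q x = 0 := by
  obtain ⟨u, v, h, hu, hv, huv, hE⟩ := hg
  rw [rline_isE hQ h hv hE]
  exact ⟨finrank_span_pair h, span_pair_singular hQ hu hv huv⟩

omit hQ in
theorem IsRootElt.conj {g k : GL ι F} (hg : IsRootElt Q g) (hk : k ∈ Cfsg.isometryGroup F Q) :
    IsRootElt Q (k * g * k⁻¹) := by
  obtain ⟨u, v, h, hu, hv, huv, hE⟩ := hg
  refine ⟨(k : Matrix ι ι F) *ᵥ u, (k : Matrix ι ι F) *ᵥ v, ?_, by rw [mem_iso.1 hk, hu], by rw [mem_iso.1 hk, hv],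
    by rw [iso_pol hk, huv], hE.conj hk⟩
  rw [LinearIndependent.pair_iff] at h ⊢
  intro a b hab
  refine h a b (Matrix.mulVec_injective_iff_isUnit.2 k.isUnit ?_)
  rw [mulVec_add, mulVec_smul, mulVec_smul, hab, mulVec_zero]

theorem IsRootElt.fix_perp {g : GL ι F} (hg : IsRootElt Q g) {x : V} (hx : ∀ y ∈ rline g, pol Q x y = 0) :
    (g : Matrix ι ι F) *ᵥ x = x := by
  obtain ⟨u, v, h, hu, hv, huv, hE⟩ := hg
  rw [rline_isE hQ h hv hE] at hx
  rw [← sub_eq_zero, ← move_apply, isE_move hE hv, hx u (Submodule.subset_span (by simp)),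
    hx v (Submodule.subset_span (by simp)), zero_smul, zero_smul, sub_zero]

theorem IsRootElt.ne_one {g : GL ι F} (hg : IsRootElt Q g) : g ≠ 1 := by
  intro h
  have h1 := (hg.rline_ts hQ).1
  have h0 : rline g = ⊥ := by
    rw [h, rline, move, Units.val_one, Matrix.mulVecLin_one, Module.End.one_eq_id, sub_self, LinearMap.range_zero]
  rw [h0, finrank_bot] at h1
  exact absurd h1 (by norm_num)

/-- the negative of a root element is no root element -/
theorem IsRootElt.neg_not (hn : 5 ≤ Fintype.card ι) (h2 : (2 : F) ≠ 0) {g : GL ι F} (hg : IsRootElt Q g) :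
    ¬ IsRootElt Q (-g) := by
  intro h
  have h1 := (hg.rline_ts hQ).1
  have h1' := (h.rline_ts hQ).1
  have hle : (⊤ : Submodule F V) ≤ rline g ⊔ rline (-g) := fun x _ => by
    have e : (2 : F) • x = -(move g x + move (-g) x) := by
      rw [move_apply, move_apply, Units.val_neg, neg_mulVec, two_smul]; abel
    rw [show x = (2 : F)⁻¹ • ((2 : F) • x) by rw [inv_smul_smul₀ h2], e]
    exact Submodule.smul_mem _ _ (Submodule.neg_mem _ (Submodule.add_mem _ (Submodule.mem_sup_left ⟨x, rfl⟩)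
      (Submodule.mem_sup_right ⟨x, rfl⟩)))
  have h3 := Submodule.finrank_mono hle
  have h4 := Submodule.finrank_add_le_finrank_add_finrank (rline g) (rline (-g))
  rw [finrank_top, Module.finrank_fintype_fun_eq_card] at h3
  omega

/-- root elements of a given line are determined by the scalar -/
theorem IsRootElt.exists_scal {g : GL ι F} (hg : IsRootElt Q g) {u v : V}
    (hl : rline g = Submodule.span F {u, v}) :
    ∃ a : F, a ≠ 0 ∧ IsE Q (a • u) v g := by
  obtain ⟨u', v', h, hu, hv, huv, hE⟩ := hg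
  rw [rline_isE hQ h hv hE] at hl
  have hu' : u' ∈ Submodule.span F ({u, v} : Set V) := hl ▸ Submodule.subset_span (by simp)
  have hv' : v' ∈ Submodule.span F ({u, v} : Set V) := hl ▸ Submodule.subset_span (by simp)
  have hum : u ∈ Submodule.span F ({u', v'} : Set V) := hl ▸ Submodule.subset_span (by simp)
  have hvm : v ∈ Submodule.span F ({u', v'} : Set V) := hl ▸ Submodule.subset_span (by simp)
  obtain ⟨a, b, rfl⟩ := Submodule.mem_span_pair.1 hu'
  obtain ⟨c, d, rfl⟩ := Submodule.mem_span_pair.1 hv'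
  have hQ2 := span_pair_singular hQ hu hv huv
  have hvv : Q v = 0 := hQ2 v hvm
  have huu : Q u = 0 := hQ2 u hum
  have huv2 : pol Q u v = 0 := by
    rw [QuadraticMap.polar, hQ2 _ (Submodule.add_mem _ hum hvm), hvv, huu]; ring
  refine ⟨a * d - b * c, fun e => ?_, fun x => ?_⟩
  · have h' := LinearIndependent.pair_iff.1 h
    by_cases hd : d = 0
    · have hc : c ≠ 0 := fun e0 => (LinearIndependent.ne_zero 1 h) (by simp [hd, e0])
      have hb : b = 0 := by
        rcases mul_eq_zero.1 (show b * c = 0 by rw [hd, mul_zero, zero_sub, neg_eq_zero] at e; exact e) with h0 | h0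
        · exact h0
        · exact absurd h0 hc
      have := (h' (-c) a (by rw [hb, hd]; module)).1
      exact hc (neg_eq_zero.1 this)
    · have e' : a * d = b * c := sub_eq_zero.1 e
      have := (h' d (-b) (by linear_combination (norm := module) e' • u)).1
      exact hd this
  · rw [hE, hv, hvv]
    simp only [zero_mul, zero_smul, sub_zero, psmul_right hQ, padd_right hQ]
    module

/-- the product of commuting root elements on two lines -/
theorem move_mul_of_fix {g h : GL ι F} (hfix : ∀ y ∈ rline h, (g : Matrix ι ι F) *ᵥ y = y) (x : V) :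
    move (g * h) x = move g x + move h x := by
  have e := hfix _ ⟨x, rfl⟩
  rw [move_apply, mulVec_sub] at e
  rw [move_apply, move_apply, move_apply, gl_mul_mulVec]
  linear_combination (norm := abel) e

variable [Fintype F]

/-- root elements lie in `Omega` -/
theorem IsRootElt.omega (hn : 5 ≤ Fintype.card ι) {g : GL ι F} (hg : IsRootElt Q g) :
    ∃ s : Cfsg.Omega F Q, omv s = g := by
  obtain ⟨u, v, h, hu, hv, huv, hE⟩ := hg
  obtain ⟨s, hs⟩ := exists_omega_E hQ hn hu huv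
  exact ⟨s, hs.unique hE⟩

/-- every line carries a root element -/
theorem exists_root (hn : 5 ≤ Fintype.card ι) {u v : V} (h : LinearIndependent F ![u, v]) (hu : Q u = 0) (hv : Q v = 0)
    (huv : pol Q u v = 0) : ∃ g : GL ι F, IsRootElt Q g ∧ IsE Q u v g ∧ rline g = Submodule.span F {u, v} := by
  obtain ⟨s, hs⟩ := exists_omega_E hQ hn hu huv
  exact ⟨omv s, ⟨u, v, h, hu, hv, huv, hs⟩, hs, rline_isE hQ h hv hs⟩

/-- `Omega` is transitive on pairs spanning totally singular lines -/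
theorem exists_omega_pair (hn : 7 ≤ Fintype.card ι) {u v u' v' : V} (h : LinearIndependent F ![u, v])
    (h' : LinearIndependent F ![u', v']) (hu : Q u = 0) (hv : Q v = 0) (huv : pol Q u v = 0)
    (hu' : Q u' = 0) (hv' : Q v' = 0) (huv' : pol Q u' v' = 0) :
    ∃ s : Cfsg.Omega F Q, (omv s : Matrix ι ι F) *ᵥ u = u' ∧ (omv s : Matrix ι ι F) *ᵥ v = v' := by
  classical
  have hex : Fintype.card F ≠ 2 ∨ Fintype.card ι ≠ 4 := Or.inr (by omega)
  obtain ⟨B, hB⟩ : ∃ B : QuadraticForm F V, ⇑B = Q :=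
    ⟨QuadraticMap.ofPolar Q (fun c x => by rw [qsmul hQ, sq, smul_eq_mul]) (padd_left hQ)
      (fun c x y => by rw [psmul_left hQ, smul_eq_mul]), rfl⟩
  have hBn : (QuadraticMap.polarBilin B).Nondegenerate :=
    ⟨fun x hx => by
      by_contra hne
      obtain ⟨-, y, hy⟩ := hQ.nondegenerate x hne
      refine hy ?_
      have := hx y
      rwa [QuadraticMap.polarBilin_apply_apply, hB] at this, fun x hx => by
      by_contra hne
      obtain ⟨⟨y, hy⟩, -⟩ := hQ.nondegenerate x hne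
      refine hy ?_
      have := hx y
      rwa [QuadraticMap.polarBilin_apply_apply, hB] at this⟩
  obtain ⟨b, hb⟩ : ∃ b : Module.Basis (Fin 2) F ↥(Submodule.span F (Set.range ![u, v])), ∀ i, (b i : V) = ![u, v] i :=
    ⟨Module.Basis.span h, fun i => by rw [Module.Basis.span_apply]⟩
  obtain ⟨φ, hφ⟩ : ∃ φ : ↥(Submodule.span F (Set.range ![u, v])) →ₗ[F] V, ∀ i, φ (b i) = ![u', v'] i :=
    ⟨b.constr F ![u', v'], fun i => by simp⟩
  have hφc : ∀ x, φ x = b.repr x 0 • u' + b.repr x 1 • v' ∧ (x : V) = b.repr x 0 • u + b.repr x 1 • v := fun x => by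
    have hx := b.sum_repr x
    rw [Fin.sum_univ_two] at hx
    constructor
    · conv_lhs => rw [← hx, map_add, map_smul, map_smul, hφ, hφ]
      simp
    · conv_lhs => rw [← hx, Submodule.coe_add, Submodule.coe_smul, Submodule.coe_smul, hb, hb]
      simp
  obtain ⟨g, hg, hgX⟩ := CfsgLib.Perm.Trans.Witt.witt_extension hBn _ φ (by
    refine (injective_iff_map_eq_zero φ).2 fun x hx => ?_
    rw [(hφc x).1] at hx
    obtain ⟨e0, e1⟩ := (LinearIndependent.pair_iff.1 h') _ _ hx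
    exact Subtype.ext (by rw [(hφc x).2, e0, e1]; simp)) (fun x => by
    rw [hB, (hφc x).1, (hφc x).2, qadd hQ, qadd hQ, qsmul hQ, qsmul hQ, qsmul hQ, qsmul hQ, psmul_left hQ,
      psmul_left hQ, psmul_right hQ, psmul_right hQ, hu, hv, huv, hu', hv', huv'])
  obtain ⟨k, hk, hkg⟩ := exists_iso_of_equiv (Q := Q) g (fun x => by rw [← hB]; exact hg x)
  have hku : (k : Matrix ι ι F) *ᵥ u = u' := by
    rw [hkg, show u = ((b 0 : ↥(Submodule.span F (Set.range ![u, v]))) : V) by simp [hb], hgX, hφ]; rfl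
  have hkv : (k : Matrix ι ι F) *ᵥ v = v' := by
    rw [hkg, show v = ((b 1 : ↥(Submodule.span F (Set.range ![u, v]))) : V) by simp [hb], hgX, hφ]; rfl
  -- partners, and the perp of both planes, in which corrections are made
  have hu0 : u ≠ 0 := h.ne_zero 0
  obtain ⟨f, -, hf, huf⟩ := exists_qpartner hQ (ndOn_top hQ) Submodule.mem_top hu0 hu
  obtain ⟨P, hP⟩ : ∃ P, P = pairPerp hQ ⊤ u f := ⟨_, rfl⟩
  have hPn : NdOn Q P := hP ▸ pair_nd hQ (P := ⊤) Submodule.mem_top Submodule.mem_top hu hf huf (ndOn_top hQ)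
  obtain ⟨v₁, hv₁⟩ : ∃ v₁, v₁ = v - pol Q v f • u := ⟨_, rfl⟩
  have hv₁0 : v₁ ≠ 0 := fun e => one_ne_zero (α := F) ((LinearIndependent.pair_iff.1 h) (-pol Q v f) 1 (by
    rw [hv₁] at e
    linear_combination (norm := module) e)).2
  have hv₁Q : Q v₁ = 0 := by rw [hv₁, qsub hQ, qsmul hQ, psmul_right hQ, hv, hu, pcomm v u, huv]; ring
  have hv₁P : v₁ ∈ P := by
    rw [hP, mem_pairPerp hQ]
    refine ⟨Submodule.mem_top, ?_, ?_⟩
    · rw [hv₁, psub_left hQ, psmul_left hQ, pcomm v u, huv, pself hQ, hu]; ring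
    · rw [hv₁, psub_left hQ, psmul_left hQ, huf]; ring
  obtain ⟨f₂, hf₂P, hf₂, hvf⟩ := exists_qpartner hQ hPn hv₁P hv₁0 hv₁Q
  obtain ⟨R, hR⟩ : ∃ R, R = pairPerp hQ P v₁ f₂ := ⟨_, rfl⟩
  have hRn : NdOn Q R := hR ▸ pair_nd hQ hv₁P hf₂P hv₁Q hf₂ hvf hPn
  have hRd : 3 ≤ Module.finrank F R := by
    have d1 := pair_finrank hQ (P := ⊤) (e := u) (f := f) Submodule.mem_top Submodule.mem_top hu hf huf
    have d2 := pair_finrank hQ hv₁P hf₂P hv₁Q hf₂ hvf
    rw [finrank_top, Module.finrank_fintype_fun_eq_card, ← hP] at d1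
    rw [← hR] at d2
    omega
  have hfixR : ∀ w ∈ R, pol Q u w = 0 ∧ pol Q v w = 0 := fun w hw => by
    obtain ⟨hwP, hwv, -⟩ := (mem_pairPerp hQ).1 (hR ▸ hw)
    obtain ⟨-, hwu, -⟩ := (mem_pairPerp hQ).1 (hP ▸ hwP)
    refine ⟨by rw [pcomm, hwu], ?_⟩
    rw [hv₁, psub_right hQ, psmul_right hQ, hwu, mul_zero, sub_zero] at hwv
    rw [pcomm, hwv]
  have hrefl : ∀ c : F, c ≠ 0 → ∃ r ∈ Cfsg.isometryGroup F Q, wrk r = 1 ∧ spn Q r = sqc c ∧
      (r : Matrix ι ι F) *ᵥ u = u ∧ (r : Matrix ι ι F) *ᵥ v = v := fun c hc => by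
    obtain ⟨w, hw, hwc⟩ := exists_qvalue hQ hRn hRd c
    obtain ⟨r, hr, hrv⟩ := exists_refl hQ (show Q w ≠ 0 by rw [hwc]; exact hc)
    obtain ⟨e1, e2⟩ := refl_spn hQ hr hrv (by rw [hwc]; exact hc)
    exact ⟨r, hr, e1, by rw [e2, hwc], refl_fix hQ hrv (hfixR w hw).1, refl_fix hQ hrv (hfixR w hw).2⟩
  obtain ⟨c, hc⟩ : ∃ c, sqMk F c = spn Q k := QuotientGroup.mk'_surjective _ _
  have hcc : sqc (c : F) = spn Q k := by rw [sqc, dif_neg c.ne_zero, Units.mk0_val, hc]
  obtain ⟨r, hr, r1, r2, r3, r4⟩ := hrefl c c.ne_zero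
  obtain ⟨r', hr', r1', r2', r3', r4'⟩ := hrefl 1 one_ne_zero
  obtain ⟨p, q⟩ := spn_mul hQ (iso_le_reflGroup hQ hex hk) hr
  have hsp : spn Q (k * r) = 1 := by rw [p, r2, hcc, ← hcc, sqc_mul_self c.ne_zero]
  by_cases hev : Even (wrk (k * r))
  · refine ⟨⟨⟨k * r, mul_mem hk hr⟩, (mem_omega_iff hQ (by omega) hex _).2 ⟨hsp, hev⟩⟩, ?_, ?_⟩
    · show ((k * r : GL ι F) : Matrix ι ι F) *ᵥ u = u'
      rw [gl_mul_mulVec, r3, hku]
    · show ((k * r : GL ι F) : Matrix ι ι F) *ᵥ v = v'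
      rw [gl_mul_mulVec, r4, hkv]
  · obtain ⟨p', q'⟩ := spn_mul hQ (iso_le_reflGroup hQ hex (mul_mem hk hr)) hr'
    refine ⟨⟨⟨k * r * r', mul_mem (mul_mem hk hr) hr'⟩, (mem_omega_iff hQ (by omega) hex _).2 ⟨?_, ?_⟩⟩, ?_, ?_⟩
    · show spn Q (k * r * r') = 1
      rw [p', r2', hsp, sqc_one, one_mul]
    · exact q'.2 (iff_of_false hev (by rw [r1']; exact Nat.not_even_one))
    · show ((k * r * r' : GL ι F) : Matrix ι ι F) *ᵥ u = u'
      rw [gl_mul_mulVec, r3', gl_mul_mulVec, r3, hku]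
    · show ((k * r * r' : GL ι F) : Matrix ι ι F) *ᵥ v = v'
      rw [gl_mul_mulVec, r4', gl_mul_mulVec, r4, hkv]

/-- all root elements are conjugate in `Omega` -/
theorem root_conj (hn : 7 ≤ Fintype.card ι) {g h : GL ι F} (hg : IsRootElt Q g) (hh : IsRootElt Q h) :
    ∃ s : Cfsg.Omega F Q, h = omv s * g * (omv s)⁻¹ := by
  obtain ⟨u, v, l, hu, hv, huv, hE⟩ := hg
  obtain ⟨u', v', l', hu', hv', huv', hE'⟩ := hh
  obtain ⟨s, hs1, hs2⟩ := exists_omega_pair hQ hn l l' hu hv huv hu' hv' huv'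
  refine ⟨s, hE'.unique ?_⟩
  have := hE.conj (omv_iso s)
  rwa [hs1, hs2] at this

end CfsgLib.Orth.Aut
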